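/-
The iterated commutators of a module with the derived series of an operator group, and their
projection to a weight space of an abelian group normalised by the operators.
-/
import Mathlib
import Cfsg.Agent.Lib.PGroups.Frattini

set_option autoImplicit false
set_option linter.style.haveILetI false
set_option linter.unusedSectionVars false

namespace Cfsg.Agent.Lib.TwoLengthDer

open scoped commutatorElement

variable {R : Type*} [Group R] {k : Type*} [Field k] {W : Type*} [AddCommGroup W] [Module k W]

/-- `[W, R, R', …, R^(j-1)]`. -/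
def iterComm (op : R →* Module.End k W) : ℕ → Submodule k W
  | 0 => ⊤
  | j + 1 => Submodule.span k {w | ∃ x ∈ derivedSeries R j, ∃ v ∈ iterComm op j, op x v - v = w}

theorem iterComm_zero (op : R →* Module.End k W) : iterComm op 0 = ⊤ := rfl

theorem sub_mem_iterComm (op : R →* Module.End k W) {j : ℕ} {x : R} (hx : x ∈ derivedSeries R j)
    {v : W} (hv : v ∈ iterComm op j) : op x v - v ∈ iterComm op (j + 1) :=
  Submodule.subset_span ⟨x, hx, v, hv, rfl⟩

theorem op_apply_inv (op : R →* Module.End k W) (x : R) (v : W) : op x (op x⁻¹ v) = v := by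
  rw [← Module.End.mul_apply, ← map_mul, mul_inv_cancel, map_one, Module.End.one_apply]

/-- The elements displacing everything into a given subspace. -/
def displace (op : R →* Module.End k W) (U : Submodule k W) : Subgroup R where
  carrier := {g | ∀ v, op g v - v ∈ U}
  one_mem' v := by simp
  mul_mem' {g h} hg hh v := by
    rw [map_mul, Module.End.mul_apply,
      show op g (op h v) - v = (op g (op h v) - op h v) + (op h v - v) by abel]
    exact add_mem (hg _) (hh v)
  inv_mem' {g} hg v := by
    have h := hg (op g⁻¹ v)
    rw [op_apply_inv] at h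
    rw [← neg_sub]
    exact neg_mem h

theorem mem_displace {op : R →* Module.End k W} {U : Submodule k W} {g : R} :
    g ∈ displace op U ↔ ∀ v, op g v - v ∈ U := Iff.rfl

/-- A member of the derived series displaces everything into the commutator of the same depth. -/
theorem derived_le_displace (op : R →* Module.End k W) :
    ∀ j, derivedSeries R j ≤ displace op (iterComm op j)
  | 0 => fun x _ v => Submodule.mem_top
  | j + 1 => by
    rw [derivedSeries_succ, Subgroup.commutator_le]
    intro a ha b hb v
    set u := op (b * a)⁻¹ v with hu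
    have h : op ⁅a, b⁆ v - v = (op a (op b u - u) - (op b u - u)) - (op b (op a u - u) - (op a u - u)) := by
      have h1 : op ⁅a, b⁆ v = op a (op b u) := by
        rw [hu, ← Module.End.mul_apply, ← Module.End.mul_apply, ← map_mul, ← map_mul,
          commutatorElement_def]
        congr 2
        group
      have h2 : v = op b (op a u) := by
        rw [hu, ← Module.End.mul_apply, ← Module.End.mul_apply, ← map_mul, ← map_mul]
        simp
      rw [h1]
      nth_rw 1 [h2]
      rw [map_sub, map_sub]
      abel
    rw [h]
    exact sub_mem (sub_mem_iterComm op ha (derived_le_displace op j hb u))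
      (sub_mem_iterComm op hb (derived_le_displace op j ha u))

/-- If `[W, R, …, R^(m-1)] = 0` then the last member kills what the earlier ones displace. -/
theorem kills_top (op : R →* Module.End k W) {m : ℕ} (h : iterComm op (m + 1) = ⊥) {z : R}
    (hz : z ∈ derivedSeries R m) {v : W} (hv : v ∈ iterComm op m) : op z v = v :=
  sub_eq_zero.mp ((Submodule.mem_bot k).mp (h ▸ sub_mem_iterComm op hz hv))

theorem kills_two (op : R →* Module.End k W) {m : ℕ} (h : iterComm op (m + 1) = ⊥) {z z' : R}
    (hz : z ∈ derivedSeries R m) (hz' : z' ∈ derivedSeries R m) :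
    (op z - 1) * (op z' - 1) = 0 := LinearMap.ext fun v => by
  rw [Module.End.mul_apply, LinearMap.sub_apply, LinearMap.sub_apply, Module.End.one_apply,
    Module.End.one_apply, LinearMap.zero_apply,
    kills_top op h hz (derived_le_displace op m hz' v), sub_self]

theorem kills_three (op : R →* Module.End k W) {m : ℕ} (h : iterComm op (m + 2) = ⊥) {z y x : R}
    (hz : z ∈ derivedSeries R (m + 1)) (hy : y ∈ derivedSeries R m) (hx : x ∈ derivedSeries R m) :
    (op z - 1) * ((op y - 1) * (op x - 1)) = 0 := LinearMap.ext fun v => by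
  rw [Module.End.mul_apply, Module.End.mul_apply, LinearMap.sub_apply, LinearMap.sub_apply,
    LinearMap.sub_apply, Module.End.one_apply, Module.End.one_apply, Module.End.one_apply,
    LinearMap.zero_apply,
    kills_top op h hz (sub_mem_iterComm op hy (derived_le_displace op m hx v)), sub_self]

/-- For three steps, from the bottom: `(z - 1)(y - 1)(x - 1) = 0`. -/
theorem kills_from_bottom (op : R →* Module.End k W) (h : iterComm op 3 = ⊥) {z y x : R}
    (hz : z ∈ derivedSeries R 2) (hy : y ∈ derivedSeries R 1) :
    (op z - 1) * ((op y - 1) * (op x - 1)) = 0 := LinearMap.ext fun v => by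
  rw [Module.End.mul_apply, Module.End.mul_apply, LinearMap.sub_apply, LinearMap.sub_apply,
    LinearMap.sub_apply, Module.End.one_apply, Module.End.one_apply, Module.End.one_apply,
    LinearMap.zero_apply,
    kills_top op h hz (sub_mem_iterComm op hy (sub_mem_iterComm op (j := 0)
      (by rw [derivedSeries_zero]; exact Subgroup.mem_top x) (v := v) Submodule.mem_top)), sub_self]

/-- Passing to a quotient group and an invariant subspace. -/
theorem iterComm_restrict {R' : Type*} [Group R'] {W' : Type*} [AddCommGroup W'] [Module k W']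
    (op : R →* Module.End k W) (op' : R' →* Module.End k W') (π : R →* R')
    (hπ : Function.Surjective π) (i : W' →ₗ[k] W) (hi : ∀ x v, i (op' (π x) v) = op x (i v)) :
    ∀ j, (iterComm op' j).map i ≤ iterComm op j
  | 0 => le_top
  | j + 1 => by
    rw [Submodule.map_le_iff_le_comap]
    refine Submodule.span_le.mpr ?_
    rintro _ ⟨x', hx', v, hv, rfl⟩
    rw [← map_derivedSeries_eq hπ j] at hx'
    obtain ⟨x, hx, rfl⟩ := hx'
    rw [SetLike.mem_coe, Submodule.mem_comap, map_sub, hi]
    exact sub_mem_iterComm op hx (iterComm_restrict op op' π hπ i hi j ⟨v, hv, rfl⟩)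

theorem iterComm_restrict_eq_bot {R' : Type*} [Group R'] {W' : Type*} [AddCommGroup W']
    [Module k W'] (op : R →* Module.End k W) (op' : R' →* Module.End k W') (π : R →* R')
    (hπ : Function.Surjective π) (i : W' →ₗ[k] W) (hinj : Function.Injective i)
    (hi : ∀ x v, i (op' (π x) v) = op x (i v)) {m : ℕ} (h : iterComm op m = ⊥) :
    iterComm op' m = ⊥ := by
  rw [eq_bot_iff]
  intro v hv
  have h1 := iterComm_restrict op op' π hπ i hi m ⟨v, hv, rfl⟩
  rw [h, Submodule.mem_bot] at h1
  exact (Submodule.mem_bot k).mpr (hinj (h1.trans (map_zero i).symm))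

/-- The derived series inside a member of the derived series. -/
theorem derivedSeries_derived (R : Type*) [Group R] (f : ℕ) :
    ∀ j, (derivedSeries (derivedSeries R f) j).map (derivedSeries R f).subtype =
      derivedSeries R (f + j)
  | 0 => by rw [derivedSeries_zero, ← MonoidHom.range_eq_map, Subgroup.range_subtype, Nat.add_zero]
  | j + 1 => by
    rw [derivedSeries_succ, Subgroup.map_commutator, derivedSeries_derived R f j, ← Nat.add_assoc,
      derivedSeries_succ]

section Weights

variable {Z : Type*} [Group Z] [Finite Z]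

/-- The projection onto a weight space. -/
noncomputable def proj [Fintype Z] (ρ : Z →* Module.End k W) (μ : Z →* k) : Module.End k W :=
  (Nat.card Z : k)⁻¹ • ∑ z : Z, μ z⁻¹ • ρ z

theorem proj_weight [Fintype Z] (ρ : Z →* Module.End k W) (hcard : (Nat.card Z : k) ≠ 0)
    (μ : Z →* k) {v : W} (hv : ∀ z, ρ z v = μ z • v) : proj ρ μ v = v := by
  rw [proj, LinearMap.smul_apply, LinearMap.sum_apply]
  rw [Finset.sum_congr rfl fun z _ => show (μ z⁻¹ • ρ z) v = v by
    rw [LinearMap.smul_apply, hv, smul_smul, ← map_mul, inv_mul_cancel, map_one, one_smul]]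
  rw [Finset.sum_const, Finset.card_univ, ← Nat.card_eq_fintype_card, ← Nat.cast_smul_eq_nsmul k,
    smul_smul, inv_mul_cancel₀ hcard, one_smul]

theorem proj_mem [Fintype Z] (ρ : Z →* Module.End k W) (μ : Z →* k) (v : W) (z : Z) :
    ρ z (proj ρ μ v) = μ z • proj ρ μ v := by
  simp only [proj, LinearMap.smul_apply, LinearMap.sum_apply, map_smul, map_sum, Finset.smul_sum,
    smul_smul]
  refine Fintype.sum_bijective (z * ·) (Group.mulLeft_bijective z) _ _ fun y => ?_
  rw [map_mul, Module.End.mul_apply]
  congr 1
  rw [mul_inv_rev, map_mul]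
  have hz : μ z * μ z⁻¹ = 1 := by rw [← map_mul, mul_inv_cancel, map_one]
  linear_combination (-((Nat.card Z : k)⁻¹ * μ y⁻¹)) * hz

theorem proj_weight_ne [Fintype Z] (ρ : Z →* Module.End k W) {μ ν : Z →* k} (hne : μ ≠ ν) {v : W}
    (hv : ∀ z, ρ z v = ν z • v) : proj ρ μ v = 0 := by
  obtain ⟨z, hz⟩ := DFunLike.ne_iff.mp hne
  have h1 := proj_mem ρ μ v z
  have h2 : ρ z (proj ρ μ v) = ν z • proj ρ μ v := by
    simp only [proj, LinearMap.smul_apply, LinearMap.sum_apply, hv, map_smul, map_sum,
      Finset.smul_sum, smul_smul]
    exact Finset.sum_congr rfl fun y _ => by congr 1; ring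
  by_contra h0
  exact hz (smul_left_injective k h0 (h1.symm.trans h2))

/-- The action on weights. -/
def moveWeight (β : R →* MulAut Z) (x : R) (μ : Z →* k) : Z →* k :=
  μ.comp ((β x⁻¹).toMonoidHom)

theorem moveWeight_mul (β : R →* MulAut Z) (x y : R) (μ : Z →* k) :
    moveWeight β (x * y) μ = moveWeight β x (moveWeight β y μ) :=
  MonoidHom.ext fun z => by simp [moveWeight, mul_inv_rev, map_mul]

theorem moveWeight_one (β : R →* MulAut Z) (μ : Z →* k) : moveWeight β 1 μ = μ :=
  MonoidHom.ext fun z => by simp [moveWeight]

variable (ρ : Z →* Module.End k W) (op : R →* Module.End k W) (β : R →* MulAut Z)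

theorem op_proj [Fintype Z] (hs : ∀ x z, op x * ρ z = ρ (β x z) * op x) (x : R) (μ : Z →* k)
    (v : W) : op x (proj ρ μ v) = proj ρ (moveWeight β x μ) (op x v) := by
  simp only [proj, LinearMap.smul_apply, LinearMap.sum_apply, map_smul, map_sum]
  congr 1
  refine Fintype.sum_bijective (β x) (β x).bijective _ _ fun z => ?_
  rw [← Module.End.mul_apply, hs, Module.End.mul_apply]
  congr 1
  simp [moveWeight, map_inv]

variable [Finite R]

/-- The commutators project onto a weight space of depth `f`, and the members of depth at least `f`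
fix the weight. -/
theorem exists_depth (hR : IsPGroup 2 R) (hcard : (Nat.card Z : k) ≠ 0)
    (hs : ∀ x z, op x * ρ z = ρ (β x z) * op x) {d : ℕ} (hd : derivedSeries R d = ⊥)
    (hkill : iterComm op d = ⊥) (lam : Z →* k) {w : W} (hw0 : w ≠ 0)
    (hw : ∀ z, ρ z w = lam z • w) :
    ∃ f < d, (∀ x ∈ derivedSeries R f, ∀ z, lam (β x z) = lam z) ∧
      ∀ (W₁ : Submodule k W), (∀ v, v ∈ W₁ ↔ ∀ z, ρ z v = lam z • v) →
        ∀ (op₁ : derivedSeries R f →* Module.End k W₁),
          (∀ x v, ((op₁ x v : W₁) : W) = op (x : R) v) → iterComm op₁ (d - f) = ⊥ := by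
  classical
  haveI := Fintype.ofFinite Z
  have hex : ∃ j, ∀ x ∈ derivedSeries R j, moveWeight β x lam = lam :=
    ⟨d, fun x hx => by rw [hd, Subgroup.mem_bot] at hx; rw [hx, moveWeight_one]⟩
  set f := Nat.find hex with hf
  have hfix := Nat.find_spec hex
  -- lifting along the series
  have hlift : ∀ j ≤ f, ∀ v, (∀ z, ρ z v = lam z • v) → ∃ u ∈ iterComm op j, proj ρ lam u = v ∧
      ∀ x ∈ derivedSeries R j, moveWeight β x lam ≠ lam → proj ρ (moveWeight β x lam) u = 0 := by
    intro j
    induction j with
    | zero =>
      exact fun _ v hv => ⟨v, Submodule.mem_top, proj_weight ρ hcard lam hv,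
        fun x _ hne => proj_weight_ne ρ hne hv⟩
    | succ j ih =>
      intro hj v hv
      obtain ⟨x, hx, hxo⟩ : ∃ x ∈ derivedSeries R j, ∀ y ∈ derivedSeries R (j + 1),
          moveWeight β y lam ≠ moveWeight β x lam := by
        by_contra hcon
        push Not at hcon
        refine Nat.find_min hex (show j < f by omega) ?_
        let St : Subgroup (derivedSeries R j) :=
          { carrier := {x | moveWeight β (x : R) lam = lam}
            one_mem' := moveWeight_one β lam
            mul_mem' := fun {a b} ha hb => by
              change moveWeight β ((a : R) * (b : R)) lam = lam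
              rw [moveWeight_mul, hb, ha]
            inv_mem' := fun {a} ha => by
              change moveWeight β (a : R)⁻¹ lam = lam
              conv_lhs => rw [← show moveWeight β (a : R) lam = lam from ha]
              rw [← moveWeight_mul, inv_mul_cancel, moveWeight_one] }
        haveI : Fact (Nat.Prime 2) := ⟨Nat.prime_two⟩
        have hle := Cfsg.Agent.Lib.PGroups.commutator_le_frattini
          (hR.to_subgroup (derivedSeries R j))
        have htop : St = ⊤ := by
          refine frattini_nongenerating ?_
          rw [eq_top_iff]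
          rintro ⟨x, hx⟩ -
          obtain ⟨y, hy, hxy⟩ := hcon x hx
          have hy' : (⟨y, derivedSeries_antitone R (Nat.le_succ j) hy⟩ : derivedSeries R j) ∈
              frattini (derivedSeries R j) := hle (by
            have := derivedSeries_derived R j 1
            rw [← this] at hy
            obtain ⟨y', hy', rfl⟩ := hy
            rwa [derivedSeries_one] at hy')
          have hs' : (⟨y, derivedSeries_antitone R (Nat.le_succ j) hy⟩ : derivedSeries R j)⁻¹ *
              ⟨x, hx⟩ ∈ St := by
            change moveWeight β (y⁻¹ * x) lam = lam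
            rw [moveWeight_mul, ← hxy, ← moveWeight_mul, inv_mul_cancel, moveWeight_one]
          have h := mul_mem (Subgroup.mem_sup_right (S := St) hy') (Subgroup.mem_sup_left hs')
          rwa [mul_inv_cancel_left] at h
        intro x hx
        have h : (⟨x, hx⟩ : derivedSeries R j) ∈ St := htop ▸ Subgroup.mem_top _
        exact h
      obtain ⟨u, hu, hu0, huo⟩ := ih (by omega) v hv
      refine ⟨-(op x u - u), neg_mem (sub_mem_iterComm op hx hu), ?_, fun y hy hne => ?_⟩
      · rw [map_neg, map_sub, hu0]
        have h := op_proj ρ op β hs x (moveWeight β x⁻¹ lam) u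
        rw [← moveWeight_mul, mul_inv_cancel, moveWeight_one] at h
        rw [← h, huo x⁻¹ (inv_mem hx) fun h' => hxo 1 (one_mem _) (by
          conv_rhs => rw [← h']
          rw [← moveWeight_mul, mul_inv_cancel]), map_zero, zero_sub, neg_neg]
      · rw [map_neg, map_sub, huo y (derivedSeries_antitone R (Nat.le_succ j) hy) hne]
        have h := op_proj ρ op β hs x (moveWeight β (x⁻¹ * y) lam) u
        rw [← moveWeight_mul, mul_inv_cancel_left] at h
        rw [← h, huo _ (mul_mem (inv_mem hx) (derivedSeries_antitone R (Nat.le_succ j) hy))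
          fun h' => hxo y hy (by
            conv_rhs => rw [← h']
            rw [← moveWeight_mul, mul_inv_cancel_left]), map_zero, sub_zero, neg_zero]
  have hfd : f ≤ d := Nat.find_le fun x hx => by
    rw [hd, Subgroup.mem_bot] at hx; rw [hx, moveWeight_one]
  refine ⟨f, lt_of_le_of_ne hfd fun hfd' => hw0 ?_, fun x hx z => ?_, ?_⟩
  · obtain ⟨u, hu, hu0, -⟩ := hlift f le_rfl w hw
    rw [hfd', hkill, Submodule.mem_bot] at hu
    rw [← hu0, hu, map_zero]
  · have h := DFunLike.congr_fun (hfix x⁻¹ (inv_mem hx)) z
    simpa [moveWeight] using h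
  intro W₁ hW₁ op₁ hop₁
  -- pulling the projection through the deeper members
  have hdeep : ∀ i, (iterComm op₁ i).map W₁.subtype ≤
      (iterComm op (f + i)).map (proj ρ lam) := by
    intro i
    induction i with
    | zero =>
      rintro _ ⟨v, -, rfl⟩
      obtain ⟨u, hu, hu0, -⟩ := hlift f le_rfl (v : W) ((hW₁ v).mp v.2)
      exact ⟨u, hu, hu0⟩
    | succ i ih =>
      rw [Submodule.map_le_iff_le_comap]
      refine Submodule.span_le.mpr ?_
      rintro _ ⟨x, hx, v, hv, rfl⟩
      obtain ⟨u, hu, hu0⟩ := ih ⟨v, hv, rfl⟩
      have hx' : (x : R) ∈ derivedSeries R (f + i) := by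
        rw [← derivedSeries_derived R f i]; exact ⟨x, hx, rfl⟩
      refine ⟨op (x : R) u - u, sub_mem_iterComm op hx' hu, ?_⟩
      change proj ρ lam (op (x : R) u - u) = ((op₁ x v - v : W₁) : W)
      rw [map_sub, Submodule.coe_sub, hop₁]
      have h := op_proj ρ op β hs (x : R) lam u
      rw [hfix (x : R) x.2] at h
      rw [← h, hu0]
      rfl
  rw [eq_bot_iff]
  intro v hv
  obtain ⟨u, hu, hu0⟩ := hdeep (d - f) ⟨v, hv, rfl⟩
  rw [Nat.add_sub_cancel' hfd, hkill] at hu
  rw [SetLike.mem_coe, Submodule.mem_bot] at hu
  rw [hu, map_zero] at hu0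
  exact (Submodule.mem_bot k).mpr (Subtype.ext hu0.symm)

end Weights

end Cfsg.Agent.Lib.TwoLengthDer
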