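/-
The members of the derived series of subgroups, and the hypothesis on the `2`-subgroups.
-/
import Cfsg.Agent.Lib.TwoLengthDer.Ops

set_option autoImplicit false
set_option linter.style.haveILetI false
set_option linter.unusedSectionVars false

namespace Cfsg.Agent.Lib.TwoLengthDer

open scoped commutatorElement

universe u

section Monotone

variable {R : Type*} [Group R] {k : Type*} [Field k] {W : Type*} [AddCommGroup W] [Module k W]

/-- Commutators of a group mapping into another. -/
theorem iterComm_comp_le {R' : Type*} [Group R'] (op : R →* Module.End k W) (f : R' →* R) :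
    ∀ j, iterComm (op.comp f) j ≤ iterComm op j
  | 0 => le_top
  | j + 1 => by
    refine Submodule.span_le.mpr ?_
    rintro _ ⟨x, hx, v, hv, rfl⟩
    exact sub_mem_iterComm op (map_derivedSeries_le_derivedSeries f j ⟨x, hx, rfl⟩)
      (iterComm_comp_le op f j hv)

end Monotone

variable {H : Type u} [Group H]

/-- The `j`-th member of the derived series of a subgroup, inside the group. -/
def derPart (T : Subgroup H) (j : ℕ) : Subgroup H := (derivedSeries T j).map T.subtype

theorem derPart_zero (T : Subgroup H) : derPart T 0 = T := by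
  rw [derPart, derivedSeries_zero, ← MonoidHom.range_eq_map, Subgroup.range_subtype]

theorem derPart_succ (T : Subgroup H) (j : ℕ) : derPart T (j + 1) = ⁅derPart T j, derPart T j⁆ := by
  rw [derPart, derivedSeries_succ, Subgroup.map_commutator]
  rfl

theorem derPart_le (T : Subgroup H) (j : ℕ) : derPart T j ≤ T := Subgroup.map_subtype_le _

theorem derPart_antitone (T : Subgroup H) {i j : ℕ} (h : i ≤ j) : derPart T j ≤ derPart T i :=
  Subgroup.map_mono (derivedSeries_antitone T h)

theorem derPart_mono {T T' : Subgroup H} (h : T ≤ T') : ∀ j, derPart T j ≤ derPart T' j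
  | 0 => by rw [derPart_zero, derPart_zero]; exact h
  | j + 1 => by
    rw [derPart_succ, derPart_succ]
    exact Subgroup.commutator_mono (derPart_mono h j) (derPart_mono h j)

theorem derPart_map {G : Type*} [Group G] (f : H →* G) (T : Subgroup H) :
    ∀ j, derPart (T.map f) j = (derPart T j).map f
  | 0 => by rw [derPart_zero, derPart_zero]
  | j + 1 => by rw [derPart_succ, derPart_succ, derPart_map f T j, ← Subgroup.map_commutator]

theorem commutator_mem_derPart {T : Subgroup H} {j : ℕ} {x v : H} (hx : x ∈ derPart T j)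
    (hv : v ∈ derPart T j) : x * v * x⁻¹ * v⁻¹ ∈ derPart T (j + 1) := by
  rw [derPart_succ, ← commutatorElement_def]
  exact Subgroup.commutator_mem_commutator hx hv

theorem derPart_eq_bot {T : Subgroup H} {j : ℕ} (h : derivedSeries T j = ⊥) : derPart T j = ⊥ := by
  rw [derPart, h, Subgroup.map_bot]

theorem exists_mem_derived {T : Subgroup H} {j : ℕ} {x : H} (hx : x ∈ derPart T j) :
    ∃ y ∈ derivedSeries T j, (y : H) = x := hx

variable {k : Type*} [Field k] {M : Type*} [AddCommGroup M] [Module k M]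

/-- The hypothesis on the `2`-subgroups. -/
def DerHyp (ρ : H →* Module.End k M) (d : ℕ) : Prop :=
  ∀ T : Subgroup H, IsPGroup 2 T →
    derivedSeries T d = ⊥ ∧ iterComm (ρ.comp T.subtype) d = ⊥

/-- The elements of the last members of the derived series of the `2`-subgroups of `H₀`. -/
def topDer (d : ℕ) (H₀ : Subgroup H) : Set H :=
  {s | ∃ T : Subgroup H, T ≤ H₀ ∧ IsPGroup 2 T ∧ s ∈ derPart T (d - 1)}

theorem topDer_le {d : ℕ} {H₀ : Subgroup H} : topDer d H₀ ⊆ H₀ := fun _ ⟨T, hT, _, hs⟩ =>
  hT (derPart_le T _ hs)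

theorem topDer_conj {d : ℕ} {H₀ : Subgroup H} {s h : H} (hs : s ∈ topDer d H₀) (hh : h ∈ H₀) :
    h * s * h⁻¹ ∈ topDer d H₀ := by
  obtain ⟨T, hT, hT2, hs⟩ := hs
  refine ⟨T.map (MulAut.conj h).toMonoidHom, ?_, hT2.map _, ?_⟩
  · rintro _ ⟨t, ht, rfl⟩
    exact mul_mem (mul_mem hh (hT ht)) (inv_mem hh)
  · rw [derPart_map]
    exact ⟨s, hs, rfl⟩

variable [CharP k 2]

/-- The elements of the last members are involutions. -/
theorem DerHyp.sq {ρ : H →* Module.End k M} (hρ : Function.Injective ρ) {d : ℕ} (hd : 1 ≤ d)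
    (hD : DerHyp ρ d) {T : Subgroup H} (hT : IsPGroup 2 T) {s : H}
    (hs : s ∈ derPart T (d - 1)) : s * s = 1 := by
  obtain ⟨s, hs', rfl⟩ := hs
  have hk : iterComm (ρ.comp T.subtype) (d - 1 + 1) = ⊥ := by
    rw [Nat.sub_add_cancel hd]; exact (hD T hT).2
  have h := kills_two (ρ.comp T.subtype) hk hs' hs'
  refine hρ ?_
  have hneg : ∀ A : Module.End k M, -A = A := fun A => by
    rw [← neg_one_smul k, CharTwo.neg_eq, one_smul]
  have hdd : ρ (s : H) + ρ (s : H) = 0 := by
    nth_rw 1 [← hneg (ρ (s : H))]; exact neg_add_cancel _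
  have h2 : ρ (s : H) * ρ (s : H) - 1 = 0 := by
    rw [← h]
    simp only [MonoidHom.comp_apply, Subgroup.coe_subtype, sub_eq_add_neg, hneg, add_mul, mul_add,
      one_mul, mul_one]
    rw [add_assoc (ρ (s : H) * ρ (s : H)), ← add_assoc (ρ (s : H)) (ρ (s : H)), hdd, zero_add]
  rw [map_one, Subgroup.coe_subtype, map_mul]
  exact sub_eq_zero.mp h2

/-- It is enough to look at the Sylow subgroups. -/
theorem derHyp_of_sylow [Finite H] (ρ : H →* Module.End k M) (d : ℕ)
    (h : ∀ S : Sylow 2 H, derivedSeries (S : Subgroup H) d = ⊥ ∧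
      iterComm (ρ.comp (S : Subgroup H).subtype) d = ⊥) : DerHyp ρ d := by
  intro T hT
  obtain ⟨S, hS⟩ := hT.exists_le_sylow
  refine ⟨?_, ?_⟩
  · rw [eq_bot_iff]
    intro x hx
    have h1 := derPart_mono hS d ⟨x, hx, rfl⟩
    rw [derPart_eq_bot (h S).1, Subgroup.mem_bot] at h1
    exact Subgroup.mem_bot.mpr (Subtype.ext h1)
  · rw [eq_bot_iff, ← (h S).2]
    exact (iterComm_comp_le (ρ.comp (S : Subgroup H).subtype) (Subgroup.inclusion hS) d)

end Cfsg.Agent.Lib.TwoLengthDer
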