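/-
The iterated commutators as products of operators, and lifting `2`-subgroups along surjections.
-/
import Cfsg.Agent.Lib.TwoLengthDer.Derived

set_option autoImplicit false
set_option linter.style.haveILetI false
set_option linter.unusedSectionVars false

namespace Cfsg.Agent.Lib.TwoLengthDer

universe u

section Chain

variable {R : Type*} [Group R] {A : Type*} [Ring A]

/-- The products `(x_{j-1} - 1) ⋯ (x_0 - 1)`. -/
def chain (f : R →* A) : ℕ → Set A
  | 0 => {1}
  | j + 1 => {a | ∃ x ∈ derivedSeries R j, ∃ b ∈ chain f j, (f x - 1) * b = a}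

theorem chain_map {B : Type*} [Ring B] (f : R →* A) (L : A →+* B) :
    ∀ j, chain (L.toMonoidHom.comp f) j ⊆ L '' chain f j
  | 0 => fun b hb => ⟨1, rfl, by rw [map_one]; exact hb.symm⟩
  | j + 1 => by
    rintro _ ⟨x, hx, b, hb, rfl⟩
    obtain ⟨a, ha, rfl⟩ := chain_map f L j hb
    exact ⟨(f x - 1) * a, ⟨x, hx, a, ha, rfl⟩, by
      rw [map_mul, map_sub, map_one]; rfl⟩

variable {k : Type*} [Field k] {W : Type*} [AddCommGroup W] [Module k W]

theorem iterComm_le_chain (op : R →* Module.End k W) :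
    ∀ j, iterComm op j ≤ ⨆ π ∈ chain op j, LinearMap.range π
  | 0 => fun v _ => Submodule.mem_iSup_of_mem 1 (Submodule.mem_iSup_of_mem rfl ⟨v, rfl⟩)
  | j + 1 => by
    refine Submodule.span_le.mpr ?_
    rintro _ ⟨x, hx, v, hv, rfl⟩
    have h : (op x - 1) v = op x v - v := rfl
    rw [SetLike.mem_coe, ← h]
    have h1 : (op x - 1) v ∈ Submodule.map (op x - 1) (⨆ π ∈ chain op j, LinearMap.range π) :=
      Submodule.mem_map_of_mem (iterComm_le_chain op j hv)
    refine SetLike.le_def.mp ?_ h1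
    simp only [Submodule.map_iSup]
    refine iSup₂_le fun π hπ => ?_
    rw [← LinearMap.range_comp]
    exact le_iSup₂_of_le ((op x - 1) * π) ⟨x, hx, π, hπ, rfl⟩ le_rfl

theorem iterComm_eq_bot_of_chain (op : R →* Module.End k W) {j : ℕ}
    (h : ∀ π ∈ chain op j, π = 0) : iterComm op j = ⊥ := by
  rw [eq_bot_iff]
  refine (iterComm_le_chain op j).trans (iSup₂_le fun π hπ => ?_)
  rw [h π hπ, LinearMap.range_zero]

end Chain

/-- A `2`-subgroup lifts along a surjection. -/
theorem exists_twoGroup_lift {G G' : Type u} [Group G] [Finite G] [Group G'] (f : G →* G')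
    (hf : Function.Surjective f) {T : Subgroup G'} (hT : IsPGroup 2 T) :
    ∃ S : Subgroup G, IsPGroup 2 S ∧ S.map f = T := by
  haveI : Fact (Nat.Prime 2) := ⟨Nat.prime_two⟩
  set A := T.comap f with hA
  let g : A →* T := (f.comp A.subtype).codRestrict T fun a => a.2
  have hg : Function.Surjective g := by
    rintro ⟨t, ht⟩
    obtain ⟨a, rfl⟩ := hf t
    exact ⟨⟨a, ht⟩, rfl⟩
  set S : Sylow 2 A := default
  refine ⟨(S : Subgroup A).map A.subtype, S.isPGroup'.map _, ?_⟩
  have htop : (S : Subgroup A).map g = ⊤ :=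
    ((S.mapSurjective hg).is_maximal' ((hT).of_equiv Subgroup.topEquiv.symm) le_top).symm
  refine le_antisymm ?_ fun t ht => ?_
  · rintro _ ⟨_, ⟨a, -, rfl⟩, rfl⟩
    exact a.2
  · obtain ⟨a, ha, hat⟩ := (htop ▸ Subgroup.mem_top (⟨t, ht⟩ : T) :
      (⟨t, ht⟩ : T) ∈ (S : Subgroup A).map g)
    exact ⟨(a : G), ⟨a, ha, rfl⟩, congrArg Subtype.val hat⟩

end Cfsg.Agent.Lib.TwoLengthDer
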