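/-
The stabiliser of a weight acting on `P` modulo the radical of the weight, with its alternating form.
-/
import Cfsg.Agent.Lib.TwoLengthExp.Weight

set_option autoImplicit false
set_option linter.style.haveILetI false
set_option linter.unusedSectionVars false

namespace Cfsg.Agent.Lib.TwoLengthDer

open Cfsg.Agent.Lib.FpfHeight Cfsg.Agent.Lib.TwoLengthExp

universe u

variable {H : Type u} [Group H] [Finite H] {k : Type*} [Field k]
variable {P Z : Subgroup H} [P.Normal] [Z.Normal] (hc : PlaneTwo.Central P Z) (lam : Z →* k)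

instance radQuotNormal : (PlaneTwo.radP hc lam).Normal := PlaneTwo.radP_normal hc lam

instance radQuotComm : CommGroup (P ⧸ PlaneTwo.radP hc lam) :=
  { (inferInstance : Group (P ⧸ PlaneTwo.radP hc lam)) with
    mul_comm := fun a b => by
      obtain ⟨a, rfl⟩ := QuotientGroup.mk_surjective a
      obtain ⟨b, rfl⟩ := QuotientGroup.mk_surjective b
      rw [← QuotientGroup.mk_mul, ← QuotientGroup.mk_mul, QuotientGroup.eq]
      refine PlaneTwo.mem_radP_of_mem hc lam ?_
      rw [show ((a * b)⁻¹ * (b * a) : P) = (b⁻¹ * a⁻¹ * b⁻¹⁻¹ * a⁻¹⁻¹ : P) by group]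
      exact hc.comm _ (P.inv_mem b.2) _ (P.inv_mem a.2) }

/-- `P` modulo the radical, written additively. -/
abbrev RadQuot : Type u := Additive (P ⧸ PlaneTwo.radP hc lam)

/-- The stabiliser of the weight. -/
def stabWeight : Subgroup H where
  carrier := {g | ∀ z : Z, lam (MulAut.conjNormal g z) = lam z}
  one_mem' := fun z => by rw [map_one]; rfl
  mul_mem' {g g'} hg hg' := fun z => by rw [map_mul, MulAut.mul_apply, hg, hg']
  inv_mem' {g} hg := fun z => by
    have h := hg (MulAut.conjNormal g⁻¹ z)
    rw [← MulAut.mul_apply, ← map_mul, mul_inv_cancel, map_one] at h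
    exact h.symm

theorem mem_stabWeight {g : H} :
    g ∈ stabWeight lam ↔ ∀ z : Z, lam (MulAut.conjNormal g z) = lam z := Iff.rfl

theorem radP_conj (g : H) (hg : g ∈ stabWeight lam) :
    ∀ r ∈ PlaneTwo.radP hc lam, MulAut.conjNormal (H := P) g r ∈ PlaneTwo.radP hc lam := by
  intro r hr v
  obtain ⟨v', rfl⟩ := (MulAut.conjNormal (H := P) g).surjective v
  rw [PlaneTwo.pair, ← hr v', PlaneTwo.pair, ← hg (PlaneTwo.com hc v' r)]
  refine congrArg lam (Subtype.ext ?_)
  simp only [PlaneTwo.com, MulAut.conjNormal_apply]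
  group

/-- The action on `P` modulo the radical. -/
def radAct : stabWeight lam →* MulAut (P ⧸ PlaneTwo.radP hc lam) where
  toFun g := Basic.quotAut (MulAut.conjNormal (H := P) (g : H)) _ (radP_conj hc lam g g.2)
  map_one' := MulEquiv.ext fun c => by
    obtain ⟨p, rfl⟩ := QuotientGroup.mk_surjective c
    simp
  map_mul' g g' := MulEquiv.ext fun c => by
    obtain ⟨p, rfl⟩ := QuotientGroup.mk_surjective c
    simp [MulAut.mul_apply]

theorem radAct_mk (g : stabWeight lam) (p : P) :
    radAct hc lam g (p : P ⧸ PlaneTwo.radP hc lam) =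
      ((MulAut.conjNormal (H := P) (g : H) p : P) : P ⧸ PlaneTwo.radP hc lam) := rfl

/-- The group induced on `P` modulo the radical. -/
abbrev RadImage : Type u := (radAct hc lam).range

/-- The projection to the induced group. -/
abbrev toImage : stabWeight lam →* RadImage hc lam := (radAct hc lam).rangeRestrict

theorem toImage_eq_one {g : stabWeight lam} :
    toImage hc lam g = 1 ↔
      ∀ p : P, MulAut.conjNormal (H := P) (g : H) p * p⁻¹ ∈ PlaneTwo.radP hc lam := by
  constructor
  · intro h p
    have h1 := MulEquiv.congr_fun (congrArg Subtype.val h) (p : P ⧸ PlaneTwo.radP hc lam)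
    rw [← QuotientGroup.eq_one_iff, QuotientGroup.mk_mul, QuotientGroup.mk_inv, mul_inv_eq_one]
    exact h1
  · intro h
    refine Subtype.ext (MulEquiv.ext fun c => ?_)
    obtain ⟨p, rfl⟩ := QuotientGroup.mk_surjective c
    have h1 := (QuotientGroup.eq_one_iff _).mpr (h p)
    rw [QuotientGroup.mk_mul, QuotientGroup.mk_inv, mul_inv_eq_one] at h1
    exact h1

instance radImageAction : DistribMulAction (RadImage hc lam) (RadQuot hc lam) where
  smul g u := Additive.ofMul ((g : MulAut (P ⧸ PlaneTwo.radP hc lam)) (Additive.toMul u))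
  one_smul _ := rfl
  mul_smul _ _ _ := rfl
  smul_zero g := congrArg Additive.ofMul (map_one (g : MulAut (P ⧸ PlaneTwo.radP hc lam)))
  smul_add g _ _ := congrArg Additive.ofMul (map_mul (g : MulAut (P ⧸ PlaneTwo.radP hc lam)) _ _)

theorem radImage_faithful {g g' : RadImage hc lam} (h : ∀ u : RadQuot hc lam, g • u = g' • u) :
    g = g' :=
  Subtype.ext (MulEquiv.ext fun c => congrArg Additive.toMul (h (Additive.ofMul c)) :)

theorem radQuot_surjective (u : RadQuot hc lam) :
    ∃ p : P, Additive.ofMul (p : P ⧸ PlaneTwo.radP hc lam) = u := by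
  obtain ⟨p, hp⟩ := QuotientGroup.mk_surjective (Additive.toMul u)
  exact ⟨p, by rw [hp]; rfl⟩

theorem toImage_smul (g : stabWeight lam) (p : P) :
    toImage hc lam g • (Additive.ofMul (p : P ⧸ PlaneTwo.radP hc lam) : RadQuot hc lam) =
      Additive.ofMul ((MulAut.conjNormal (H := P) (g : H) p : P) : P ⧸ PlaneTwo.radP hc lam) := rfl

/-- The pairing as a homomorphism. -/
def pairUnits (p : P) : P ⧸ PlaneTwo.radP hc lam →* kˣ :=
  QuotientGroup.lift _
    { toFun := fun v => lam.toHomUnits (PlaneTwo.com hc p v)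
      map_one' := by rw [PlaneTwo.com_one_right, map_one]
      map_mul' := fun v v' => by rw [PlaneTwo.com_mul_right, map_mul] }
    fun r hr => MonoidHom.mem_ker.mpr (Units.ext (hr p))

theorem pairUnits_mk (p v : P) :
    ((pairUnits hc lam p (v : P ⧸ PlaneTwo.radP hc lam) : kˣ) : k) = PlaneTwo.pair hc lam p v := rfl

/-- The pairing on the quotient. -/
def pairHom : P ⧸ PlaneTwo.radP hc lam →* (P ⧸ PlaneTwo.radP hc lam →* kˣ) :=
  QuotientGroup.lift _
    { toFun := pairUnits hc lam
      map_one' := MonoidHom.ext fun c => by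
        obtain ⟨v, rfl⟩ := QuotientGroup.mk_surjective c
        refine Units.ext ?_
        change lam (PlaneTwo.com hc 1 v) = 1
        rw [show PlaneTwo.com hc 1 v = 1 from Subtype.ext (by simp [PlaneTwo.com]), map_one]
      map_mul' := fun p p' => MonoidHom.ext fun c => by
        obtain ⟨v, rfl⟩ := QuotientGroup.mk_surjective c
        exact Units.ext (PlaneTwo.pair_mul_left hc lam p p' v) }
    fun r hr => MonoidHom.mem_ker.mpr (MonoidHom.ext fun c => by
      obtain ⟨v, rfl⟩ := QuotientGroup.mk_surjective c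
      refine Units.ext ?_
      change PlaneTwo.pair hc lam r v = 1
      have h := PlaneTwo.pair_swap hc lam r v
      rwa [hr v, mul_one] at h)

theorem pairHom_mk (p v : P) :
    ((pairHom hc lam (p : P ⧸ PlaneTwo.radP hc lam) (v : P ⧸ PlaneTwo.radP hc lam) : kˣ) : k) =
      PlaneTwo.pair hc lam p v := rfl

/-- The alternating form. -/
def radForm {q : ℕ} (hq : q.Prime) (hq2 : q ≠ 2) (hPexp : ∀ p ∈ P, p ^ q ∈ Z) :
    Form (RadImage hc lam) (RadQuot hc lam) (Additive kˣ) q where
  f :=
    { toFun := fun u => MonoidHom.toAdditive (pairHom hc lam (Additive.toMul u))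
      map_zero' := AddMonoidHom.ext fun v => by
        change Additive.ofMul (pairHom hc lam 1 (Additive.toMul v)) = 0
        rw [map_one]; rfl
      map_add' := fun u u' => AddMonoidHom.ext fun v => by
        change Additive.ofMul
          (pairHom hc lam (Additive.toMul u * Additive.toMul u') (Additive.toMul v)) = _
        rw [map_mul]; rfl }
  prime := hq
  ne_two := hq2
  alt u := by
    obtain ⟨p, rfl⟩ := radQuot_surjective hc lam u
    refine congrArg Additive.ofMul (Units.ext ?_ :
      pairHom hc lam (p : P ⧸ PlaneTwo.radP hc lam) (p : P ⧸ PlaneTwo.radP hc lam) = 1)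
    rw [pairHom_mk, PlaneTwo.pair, PlaneTwo.com_self, map_one]
    rfl
  nondeg u hu := by
    obtain ⟨p, rfl⟩ := radQuot_surjective hc lam u
    refine congrArg Additive.ofMul ((QuotientGroup.eq_one_iff p).mpr fun v => ?_)
    have h : ((pairHom hc lam (p : P ⧸ PlaneTwo.radP hc lam) (v : P ⧸ PlaneTwo.radP hc lam) : kˣ) : k)
        = 1 := congrArg Units.val
      (congrArg Additive.toMul (hu (Additive.ofMul (v : P ⧸ PlaneTwo.radP hc lam))) :)
    rw [pairHom_mk] at h
    have h2 := PlaneTwo.pair_swap hc lam v p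
    rwa [h, mul_one] at h2
  inv g u v := by
    obtain ⟨⟨g, hg⟩, rfl⟩ := (radAct hc lam).rangeRestrict_surjective g
    obtain ⟨p, rfl⟩ := radQuot_surjective hc lam u
    obtain ⟨p', rfl⟩ := radQuot_surjective hc lam v
    rw [toImage_smul, toImage_smul]
    refine congrArg Additive.ofMul (Units.ext ?_ :
      pairHom hc lam _ _ =
        pairHom hc lam (p : P ⧸ PlaneTwo.radP hc lam) (p' : P ⧸ PlaneTwo.radP hc lam))
    simp only [toMul_ofMul]
    rw [pairHom_mk, pairHom_mk, PlaneTwo.pair, PlaneTwo.pair, ← hg (PlaneTwo.com hc p p')]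
    refine congrArg lam (Subtype.ext ?_)
    simp only [PlaneTwo.com, MulAut.conjNormal_apply]
    group
  expU u := by
    obtain ⟨p, rfl⟩ := radQuot_surjective hc lam u
    change Additive.ofMul ((p : P ⧸ PlaneTwo.radP hc lam) ^ q) = Additive.ofMul 1
    rw [← QuotientGroup.mk_pow, (QuotientGroup.eq_one_iff _).mpr
      (PlaneTwo.mem_radP_of_mem hc lam (by rw [Subgroup.coe_pow]; exact hPexp p p.2))]

end Cfsg.Agent.Lib.TwoLengthDer
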