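/-
A weight of the centre and a weight of the radical, with the depth of the commutators left on it.
-/
import Cfsg.Agent.Lib.TwoLengthDer.Quot
import Cfsg.Agent.Lib.TwoLengthDer.Derived

set_option autoImplicit false
set_option linter.style.haveILetI false
set_option linter.unusedSectionVars false

namespace Cfsg.Agent.Lib.TwoLengthDer

open Cfsg.Agent.Lib.FpfHeight

universe u

variable {H : Type u} [Group H] [Finite H] {k : Type*} [Field k] [IsAlgClosed k] [CharP k 2]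
variable {M : Type u} [AddCommGroup M] [Module k M] [FiniteDimensional k M]

theorem exists_weight_space (ρ : H →* Module.End k M) {d : ℕ} (hD : DerHyp ρ d) (T : Subgroup H)
    (hT : IsPGroup 2 T) (P Z : Subgroup H) [P.Normal] [Z.Normal] (hc : PlaneTwo.Central P Z)
    {q : ℕ} [Fact q.Prime] (hq : q ≠ 2) (hP : IsPGroup q P)
    (lam : Z →* k) (w : M) (hw0 : w ≠ 0) (hw : ∀ z : Z, ρ (z : H) w = lam z • w) :
    ∃ f, f < d ∧ derPart T f ≤ stabWeight lam ∧
      ∃ (W₂ : Submodule k M) (_hWP : ∀ p : P, ∀ v ∈ W₂, ρ (p : H) v ∈ W₂)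
        (hWT : ∀ x : derivedSeries T f, ∀ v ∈ W₂, ρ ((x : T) : H) v ∈ W₂), W₂ ≠ ⊥ ∧
        (∀ p : P, p ∈ PlaneTwo.radP hc lam → ∃ a : k, ∀ v ∈ W₂, ρ (p : H) v = a • v) ∧
        (∀ z : Z, ∀ v ∈ W₂, ρ (z : H) v = lam z • v) ∧
        iterComm (OddPower.resRep (ρ.comp (T.subtype.comp (derivedSeries T f).subtype)) W₂ hWT)
          (d - f) = ⊥ := by
  classical
  have hqk : (q : k) ≠ 0 :=
    PlaneTwo.cast_ne_zero_of_odd ((Fact.out : q.Prime).odd_of_ne_two hq)
  -- the weight of the centre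
  set opT : T →* Module.End k M := ρ.comp T.subtype
  set ρZ : Z →* Module.End k M := ρ.comp Z.subtype
  let βZ : T →* MulAut Z := (MulAut.conjNormal (H := Z)).comp T.subtype
  have hsZ : ∀ x z, opT x * ρZ z = ρZ (βZ x z) * opT x := fun x z => by
    change ρ (x : H) * ρ (z : H) = ρ ((MulAut.conjNormal (H := Z) (x : H) z : Z) : H) * ρ (x : H)
    rw [MulAut.conjNormal_apply, ← map_mul, ← map_mul, inv_mul_cancel_right]
  obtain ⟨f₁, hf₁, hfix₁, hdepth₁⟩ := exists_depth ρZ opT βZ hT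
    (PlaneTwo.cast_card_ne_zero (hP.to_le hc.le) hqk) hsZ (hD T hT).1 (hD T hT).2 lam hw0 hw
  set W₁ := OddPower.eigSub ρZ lam with hW₁
  have hW₁mem : ∀ v, v ∈ W₁ ↔ ∀ z, ρZ z v = lam z • v := fun v => OddPower.mem_eigSub
  set R₁ := derivedSeries T f₁ with hR₁
  have hR₁stab : ∀ x : R₁, ((x : T) : H) ∈ stabWeight lam := fun x z => hfix₁ x x.2 z
  have hT₁ : ∀ x : R₁, ∀ v ∈ W₁, ρ ((x : T) : H) v ∈ W₁ := by
    intro x v hv
    rw [hW₁mem] at hv ⊢
    intro z
    obtain ⟨z', rfl⟩ := (βZ (x : T)).surjective z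
    have h := LinearMap.congr_fun (hsZ (x : T) z') v
    rw [Module.End.mul_apply, Module.End.mul_apply, hv, map_smul] at h
    rw [hfix₁ _ x.2]
    exact h.symm
  set op₁ : R₁ →* Module.End k W₁ :=
    OddPower.resRep (ρ.comp (T.subtype.comp R₁.subtype)) W₁ hT₁
  have hkill₁ : iterComm op₁ (d - f₁) = ⊥ := hdepth₁ W₁ hW₁mem op₁ fun _ _ => rfl
  -- the weight of the radical
  set R := PlaneTwo.radP hc lam with hR
  have hW₁P : ∀ p : P, ∀ v ∈ W₁, ρ (p : H) v ∈ W₁ := by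
    intro p v hv
    rw [hW₁mem] at hv ⊢
    intro z
    change ρ (z : H) (ρ (p : H) v) = lam z • ρ (p : H) v
    rw [← Module.End.mul_apply, ← map_mul, hc.cen z z.2 p p.2, map_mul, Module.End.mul_apply,
      ← map_smul]
    exact congrArg (ρ (p : H)) (hv z)
  set ρP : P →* Module.End k W₁ := OddPower.resRep (ρ.comp P.subtype) W₁ hW₁P
  have hswap : ∀ u p : P, ρP u * ρP p = PlaneTwo.pair hc lam u p • (ρP p * ρP u) := fun u p =>
    LinearMap.ext fun v => Subtype.ext (by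
      change ρ (u : H) (ρ (p : H) v) = PlaneTwo.pair hc lam u p • ρ (p : H) (ρ (u : H) v)
      have h : (u : H) * p = ((PlaneTwo.com hc u p : Z) : H) * (p * u) := by
        simp [PlaneTwo.com, mul_assoc]
      rw [← Module.End.mul_apply, ← map_mul, h, map_mul, Module.End.mul_apply, map_mul,
        Module.End.mul_apply]
      exact (hW₁mem _).mp (hW₁P p _ (hW₁P u _ v.2)) (PlaneTwo.com hc u p))
  set ρR : R →* Module.End k W₁ := ρP.comp R.subtype
  have hRcomm : ∀ a b : R, Commute (ρR a) (ρR b) := fun a b => by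
    have h : PlaneTwo.pair hc lam (a : P) (b : P) = 1 := b.2 _
    change ρP (a : P) * ρP (b : P) = ρP (b : P) * ρP (a : P)
    rw [hswap, h, one_smul]
  have hW₁ne : W₁ ≠ ⊥ := fun h =>
    hw0 ((Submodule.mem_bot k).mp (h ▸ (hW₁mem w).mpr hw : w ∈ (⊥ : Submodule k M)))
  haveI : Nontrivial W₁ := Submodule.nontrivial_iff_ne_bot.mpr hW₁ne
  obtain ⟨v₀, μ, -, hv₀, hμ⟩ := EigenChar.exists_common_eigenvector ρR hRcomm ⊤ top_ne_bot
    fun _ _ _ => Submodule.mem_top
  have hRinv : ∀ x : R₁, ∀ r ∈ R, MulAut.conjNormal (H := P) ((x : T) : H) r ∈ R := fun x =>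
    radP_conj hc lam _ (hR₁stab x)
  let βR : R₁ →* MulAut R :=
    { toFun := fun x => OddPower.subAut (MulAut.conjNormal (H := P) ((x : T) : H)) R (hRinv x)
      map_one' := MulEquiv.ext fun r => Subtype.ext (by
        change MulAut.conjNormal (H := P) (((1 : R₁) : T) : H) (r : P) = r
        simp)
      map_mul' := fun x y => MulEquiv.ext fun r => Subtype.ext (by
        change MulAut.conjNormal (H := P) (((x * y : R₁) : T) : H) (r : P) =
          MulAut.conjNormal (H := P) ((x : T) : H)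
            (MulAut.conjNormal (H := P) ((y : T) : H) (r : P))
        simp [MulAut.mul_apply]) }
  have hβR : ∀ x r, ((βR x r : R) : P) = MulAut.conjNormal (H := P) ((x : T) : H) (r : P) :=
    fun _ _ => rfl
  have hsR : ∀ x r, op₁ x * ρR r = ρR (βR x r) * op₁ x := fun x r =>
    LinearMap.ext fun v => Subtype.ext (by
      change ρ ((x : T) : H) (ρ ((r : P) : H) v) =
        ρ (((βR x r : R) : P) : H) (ρ ((x : T) : H) v)
      rw [hβR, MulAut.conjNormal_apply, ← Module.End.mul_apply, ← Module.End.mul_apply, ← map_mul,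
        ← map_mul, inv_mul_cancel_right])
  have hd₁ : derivedSeries R₁ (d - f₁) = ⊥ := by
    refine (Subgroup.map_eq_bot_iff_of_injective _ R₁.subtype_injective).mp ?_
    rw [derivedSeries_derived, Nat.add_sub_cancel' hf₁.le, (hD T hT).1]
  obtain ⟨f₂, hf₂, hfix₂, hdepth₂⟩ := exists_depth ρR op₁ βR (hT.to_subgroup R₁)
    (PlaneTwo.cast_card_ne_zero (hP.to_subgroup R) hqk) hsR hd₁ hkill₁ μ hv₀ hμ
  set W' := OddPower.eigSub ρR μ with hW'
  have hW'mem : ∀ v, v ∈ W' ↔ ∀ r, ρR r v = μ r • v := fun v => OddPower.mem_eigSub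
  have hW'T : ∀ x : derivedSeries R₁ f₂, ∀ v ∈ W', op₁ (x : R₁) v ∈ W' := by
    intro x v hv
    rw [hW'mem] at hv ⊢
    intro r
    obtain ⟨r', rfl⟩ := (βR (x : R₁)).surjective r
    have h := LinearMap.congr_fun (hsR (x : R₁) r') v
    rw [Module.End.mul_apply, Module.End.mul_apply, hv, map_smul] at h
    rw [hfix₂ _ x.2]
    exact h.symm
  set op₂ : derivedSeries R₁ f₂ →* Module.End k W' :=
    OddPower.resRep (op₁.comp (derivedSeries R₁ f₂).subtype) W' hW'T
  have hkill₂ : iterComm op₂ (d - f₁ - f₂) = ⊥ := hdepth₂ W' hW'mem op₂ fun _ _ => rfl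
  -- flattened
  set W₂ : Submodule k M := W'.map W₁.subtype with hW₂
  let π : derivedSeries R₁ f₂ →* derivedSeries T (f₁ + f₂) :=
    (R₁.subtype.comp (derivedSeries R₁ f₂).subtype).codRestrict _ fun x => by
      rw [← derivedSeries_derived T f₁ f₂]; exact ⟨x, x.2, rfl⟩
  have hπ : Function.Surjective π := by
    intro y
    have hy : (y : T) ∈ (derivedSeries R₁ f₂).map R₁.subtype := by
      rw [derivedSeries_derived]; exact y.2
    obtain ⟨x, hx, hxy⟩ := hy
    exact ⟨⟨x, hx⟩, Subtype.ext hxy⟩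
  have hWT : ∀ x : derivedSeries T (f₁ + f₂), ∀ v ∈ W₂, ρ ((x : T) : H) v ∈ W₂ := by
    rintro x _ ⟨v, hv, rfl⟩
    obtain ⟨y, rfl⟩ := hπ x
    exact ⟨op₁ (y : R₁) v, hW'T y v hv, rfl⟩
  refine ⟨f₁ + f₂, by omega, ?_, W₂, ?_, hWT, ?_, ?_, ?_, ?_⟩
  · intro x hx
    obtain ⟨y, hy, rfl⟩ := derPart_antitone T (Nat.le_add_right f₁ f₂) hx
    exact hR₁stab ⟨y, hy⟩
  · rintro p _ ⟨v, hv, rfl⟩
    refine ⟨ρP p v, ?_, rfl⟩
    rw [SetLike.mem_coe, hW'mem] at hv ⊢
    intro r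
    have h : ρP (r : P) * ρP p = ρP p * ρP (r : P) := by
      have := PlaneTwo.pair_swap hc lam (r : P) p
      rw [show PlaneTwo.pair hc lam p (r : P) = 1 from r.2 _, mul_one] at this
      rw [hswap, this, one_smul]
    change ρP (r : P) (ρP p v) = μ r • ρP p v
    rw [← Module.End.mul_apply, h, Module.End.mul_apply, ← map_smul]
    exact congrArg (ρP p) (hv r)
  · intro h
    have h1 : (v₀ : M) ∈ W₂ := ⟨v₀, (hW'mem v₀).mpr hμ, rfl⟩
    rw [h, Submodule.mem_bot] at h1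
    exact hv₀ (Subtype.ext h1)
  · intro p hp
    refine ⟨μ ⟨p, hp⟩, ?_⟩
    rintro _ ⟨v, hv, rfl⟩
    exact congrArg Subtype.val ((hW'mem v).mp hv ⟨p, hp⟩)
  · rintro z _ ⟨v, -, rfl⟩
    exact (hW₁mem _).mp v.2 z
  · rw [Nat.sub_add_eq]
    let i : W₂ →ₗ[k] W' :=
      { toFun := fun v => ⟨⟨v, (Submodule.map_subtype_le W₁ W') v.2⟩, by
          obtain ⟨v', hv', hvv⟩ := v.2
          rwa [show (⟨(v : M), _⟩ : W₁) = v' from Subtype.ext hvv.symm]⟩
        map_add' := fun _ _ => rfl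
        map_smul' := fun _ _ => rfl }
    exact iterComm_restrict_eq_bot op₂ _ π hπ i
      (fun a b h => Subtype.ext (congrArg (fun v : W' => ((v : W₁) : M)) h)) (fun _ _ => rfl) hkill₂

end Cfsg.Agent.Lib.TwoLengthDer
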