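/-
A configuration of plane squares has no plane element in the group it generates.
-/
import Cfsg.Agent.Lib.TwoLengthExp.Claim

set_option autoImplicit false
set_option linter.unusedSectionVars false
set_option linter.style.haveILetI false

namespace Cfsg.Agent.Lib.TwoLengthDer

open Cfsg.Agent.Lib.TwoLengthExp

variable {Γ U V : Type*} [Group Γ] [Finite Γ] [AddCommGroup U] [Finite U] [AddCommGroup V]
  [DistribMulAction Γ U] {q : ℕ} {F : Form Γ U V q}

theorem no_plane_in_closure (C : Conf F) {a : Γ} (ha : IsPlane q U a)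
    (hpa : IsPGroup 2 (Subgroup.zpowers a)) (haS : a ∈ Subgroup.closure C.S)
    (haa : a * a ∈ C.S) : False := by
  obtain ⟨w₀, hw₀, hw₀0⟩ := (plane U a).bot_or_exists_ne_zero.resolve_left ha.ne
  by_cases hmaps : ∀ s ∈ C.S, ∀ x ∈ plane U a, s • x ∈ plane U a
  · -- everything acts by a sign on the plane
    have hall : ∀ g ∈ Subgroup.closure C.S, (∀ x ∈ plane U a, g • x = x) ∨
        ∀ x ∈ plane U a, g • x = -x := by
      intro g hg
      induction hg using Subgroup.closure_induction with
      | mem s hs => exact ha.scalar_of_sq (F := F) (hmaps s hs) fun x _ => C.smul_self hs x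
      | one => exact Or.inl fun x _ => one_smul _ x
      | mul g g' _ _ hg hg' =>
        rcases hg with hg | hg <;> rcases hg' with hg' | hg'
        · exact Or.inl fun x hx => by rw [mul_smul, hg' x hx, hg x hx]
        · exact Or.inr fun x hx => by rw [mul_smul, hg' x hx, smul_neg, hg x hx]
        · exact Or.inr fun x hx => by rw [mul_smul, hg' x hx, hg x hx]
        · exact Or.inl fun x hx => by rw [mul_smul, hg' x hx, smul_neg, hg x hx, neg_neg]
      | inv g _ hg =>
        rcases hg with hg | hg
        · exact Or.inl fun x hx => by rw [inv_smul_eq_iff, hg x hx]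
        · exact Or.inr fun x hx => by rw [inv_smul_eq_iff, smul_neg, hg x hx, neg_neg]
    have h := ha.quad w₀ hw₀
    refine hw₀0 (F.eq_zero_of_eq_neg ?_)
    rcases hall a haS with h1 | h1
    · rwa [h1 _ hw₀, h1 _ hw₀] at h
    · rwa [h1 _ hw₀, smul_neg, h1 _ hw₀, neg_neg] at h
  · push Not at hmaps
    obtain ⟨z, hz, x, hx, hxs⟩ := hmaps
    have ho : F.Orth (plane U a) (plane U (z * a * z⁻¹)) :=
      (C.maps_or_orth ha hpa hz).resolve_left fun h => hxs (h x hx)
    have hN := C.nice_of_mem ha hpa haa hz ho haS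
    have hfix : ∀ y ∈ plane U (z * a * z⁻¹), a • y = y := fun y hy =>
      ha.fixed_of_orth (F := F) fun v hv => ho v hv y hy
    rcases hN.sq with hp | hp
    · refine hw₀0 (F.eq_zero_of_eq_neg ?_)
      have h := hp w₀ ⟨w₀, hw₀, 0, zero_mem _, add_zero _⟩
      rw [mul_smul, ha.quad w₀ hw₀, one_smul] at h
      exact h.symm
    · obtain ⟨y, hy, hy0⟩ :=
        (plane U (z * a * z⁻¹)).bot_or_exists_ne_zero.resolve_left (ha.conj z).ne
      refine hy0 (F.eq_zero_of_eq_neg ?_)
      have h := hp y ⟨0, zero_mem _, y, hy, zero_add _⟩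
      rwa [mul_smul, hfix y hy, hfix y hy, one_smul] at h

end Cfsg.Agent.Lib.TwoLengthDer
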