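/-
A group of odd class two with scalar centre acting in characteristic two, normalised by a `2`-group:
fixed spaces of involutions and the subgroups they fix or invert.
-/
import Cfsg.Agent.Lib.TwoLengthDer.Ops
import Cfsg.Agent.Lib.FpfHeight.PlaneTwo
import Cfsg.Agent.Lib.MinSquare.PermSummand

set_option autoImplicit false
set_option linter.style.haveILetI false
set_option linter.unusedSectionVars false

namespace Cfsg.Agent.Lib.TwoLengthDer

open Cfsg.Agent.Lib.FpfHeight

/-- A `q`-group `E` with scalar centre containing its commutators and `q`-th powers, and an operator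
`2`-group. -/
structure Heis (q : ℕ) (E R : Type*) [Group E] [Group R] (k : Type*) [Field k] (W : Type*)
    [AddCommGroup W] [Module k W] where
  act : R →* MulAut E
  ρ : E →* Module.End k W
  op : R →* Module.End k W
  inj : Function.Injective ρ
  semi : ∀ g p, op g * ρ p = ρ (act g p) * op g
  scalar : ∀ c ∈ Subgroup.center E, ∃ a : k, ρ c = a • 1
  comm : ∀ u v : E, u * v * u⁻¹ * v⁻¹ ∈ Subgroup.center E
  prime : q.Prime
  ne_two : q ≠ 2
  pow : ∀ p : E, p ^ q ∈ Subgroup.center E
  pE : IsPGroup q E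
  pR : IsPGroup 2 R

variable {q : ℕ} {E R : Type*} [Group E] [Finite E] [Group R] [Finite R] {k : Type*} [Field k]
  [IsAlgClosed k] [CharP k 2] {W : Type*} [AddCommGroup W] [Module k W] [FiniteDimensional k W]
  [Nontrivial W]

namespace Heis

variable (X : Heis q E R k W)
include X

/-- The elements fixed by `z`. -/
def fix (z : R) : Subgroup E where
  carrier := {p | X.act z p = p}
  one_mem' := map_one _
  mul_mem' {a b} (ha : _ = _) (hb : _ = _) := show _ = _ by rw [map_mul, ha, hb]
  inv_mem' {a} (ha : _ = _) := show _ = _ by rw [map_inv, ha]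

/-- The elements inverted by `z` modulo the centre. -/
def neg (z : R) : Subgroup E where
  carrier := {p | X.act z p * p ∈ Subgroup.center E}
  one_mem' := by simp
  mul_mem' {a b} (ha : _ ∈ _) (hb : _ ∈ _) := by
    change X.act z (a * b) * (a * b) ∈ Subgroup.center E
    have h1 : X.act z (a * b) * (a * b) = X.act z a * (X.act z b * a * (X.act z b)⁻¹ * a⁻¹) *
        a * (X.act z b * b) := by rw [map_mul]; group
    rw [h1]
    refine mul_mem ?_ hb
    rw [mul_assoc (X.act z a), ← (Subgroup.mem_center_iff.mp (X.comm (X.act z b) a) a),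
      ← mul_assoc (X.act z a)]
    exact mul_mem ha (X.comm _ _)
  inv_mem' {a} (ha : _ ∈ _) := by
    change X.act z a⁻¹ * a⁻¹ ∈ Subgroup.center E
    have h := (inferInstance : (Subgroup.center E).Normal).conj_mem _ (inv_mem ha) (X.act z a)⁻¹
    rw [map_inv]
    convert (inferInstance : (Subgroup.center E).Normal).conj_mem _ (inv_mem ha) a using 1
    group

theorem mem_fix {z : R} {p : E} : p ∈ X.fix z ↔ X.act z p = p := Iff.rfl

theorem mem_neg {z : R} {p : E} : p ∈ X.neg z ↔ X.act z p * p ∈ Subgroup.center E := Iff.rfl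

theorem odd_card : Odd (Nat.card E) := by
  haveI := Fact.mk X.prime
  obtain ⟨n, hn⟩ := IsPGroup.iff_card.mp X.pE
  rw [hn]; exact (X.prime.odd_of_ne_two X.ne_two).pow

theorem eq_one_of_two_pow {c : E} {a : ℕ} (h : c ^ 2 ^ a = 1) : c = 1 := by
  refine orderOf_eq_one_iff.mp (Nat.eq_one_of_dvd_coprimes ?_ (orderOf_dvd_of_pow_eq_one h)
    (orderOf_dvd_natCard c))
  exact Nat.Coprime.pow_left a (Nat.coprime_two_left.mpr X.odd_card)

theorem sqrt_mem {A : Subgroup E} {p : E} (h : p * p ∈ A) : p ∈ A := by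
  obtain ⟨m, hm⟩ := X.odd_card
  have h1 : (p * p) ^ (m + 1) = p := by
    rw [← pow_two, ← pow_mul, show 2 * (m + 1) = Nat.card E + 1 by omega, pow_succ, pow_card_eq_one',
      one_mul]
  exact h1 ▸ pow_mem h _

theorem center_fixed (g : R) {c : E} (hc : c ∈ Subgroup.center E) : X.act g c = c := by
  obtain ⟨a, ha⟩ := X.scalar c hc
  have h := X.semi g c
  rw [ha, mul_smul_comm, mul_one] at h
  refine X.inj ?_
  have h1 : X.ρ (X.act g c) * (X.op g * X.op g⁻¹) = a • (X.op g * X.op g⁻¹) := by
    rw [← mul_assoc, ← h, smul_mul_assoc]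
  rw [← map_mul, mul_inv_cancel, map_one, mul_one] at h1
  rw [h1, ha]

theorem center_le_fix (z : R) : Subgroup.center E ≤ X.fix z := fun _ hc => X.center_fixed z hc

theorem center_le_neg (z : R) : Subgroup.center E ≤ X.neg z := fun c hc => by
  rw [mem_neg, X.center_fixed z hc]; exact mul_mem hc hc

theorem op_inv_apply (g : R) (v : W) : X.op g⁻¹ (X.op g v) = v := by
  rw [← Module.End.mul_apply, ← map_mul, inv_mul_cancel, map_one, Module.End.one_apply]

theorem op_apply_inv (g : R) (v : W) : X.op g (X.op g⁻¹ v) = v := by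
  rw [← Module.End.mul_apply, ← map_mul, mul_inv_cancel, map_one, Module.End.one_apply]

theorem semi_apply (g : R) (p : E) (v : W) : X.op g (X.ρ p v) = X.ρ (X.act g p) (X.op g v) :=
  LinearMap.congr_fun (X.semi g p) v

/-- An operator acting trivially on the module acts trivially on the group. -/
theorem act_eq_one_of_op {g : R} (h : X.op g = 1) : X.act g = 1 :=
  MulEquiv.ext fun p => X.inj (by
    have h1 := X.semi g p
    rw [h, one_mul, mul_one] at h1
    exact h1.symm)

theorem inter {z : R} {p : E} (h1 : p ∈ X.fix z) (h2 : p ∈ X.neg z) : p ∈ Subgroup.center E :=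
  X.sqrt_mem (by rwa [mem_neg, X.mem_fix.mp h1] at h2)

theorem comm_fix_neg {z : R} {a b : E} (ha : a ∈ X.fix z) (hb : b ∈ X.neg z) : a * b = b * a := by
  set c := a * b * a⁻¹ * b⁻¹ with hc
  have hcz : c ∈ Subgroup.center E := X.comm a b
  have h := X.center_fixed z hcz
  obtain ⟨e, he, heq⟩ : ∃ e ∈ Subgroup.center E, X.act z b = b⁻¹ * e :=
    ⟨b * X.act z b, by
      convert (inferInstance : (Subgroup.center E).Normal).conj_mem _ (mem_neg X |>.mp hb) b using 1
      group, by group⟩
  rw [hc, map_mul, map_mul, map_mul, map_inv, map_inv, X.mem_fix.mp ha, heq] at h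
  have h' : a * (b⁻¹ * e) * a⁻¹ * (b⁻¹ * e)⁻¹ = b⁻¹ * c⁻¹ * b := by
    have h2 := Subgroup.mem_center_iff.mp he a⁻¹
    rw [hc, show a * (b⁻¹ * e) * a⁻¹ * (b⁻¹ * e)⁻¹ = a * b⁻¹ * (e * a⁻¹) * e⁻¹ * b by group, ← h2]
    group
  rw [h'] at h
  have h2 : b⁻¹ * c⁻¹ * b = c⁻¹ := by
    rw [mul_assoc, ← Subgroup.mem_center_iff.mp (inv_mem hcz) b, inv_mul_cancel_left]
  rw [h2, ← hc] at h
  have h3 : c = 1 := X.eq_one_of_two_pow (a := 1) (by
    rw [pow_one, pow_two]
    nth_rw 1 [← h]
    exact inv_mul_cancel c)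
  exact mul_inv_eq_iff_eq_mul.mp (mul_inv_eq_one.mp h3)

/-- The decomposition by an involution. -/
theorem exists_decomp {z : R} (hz : z * z = 1) (g : E) :
    ∃ a ∈ X.fix z, ∃ b ∈ X.neg z, a * b = g := by
  have hzz : ∀ p, X.act z (X.act z p) = p := fun p => by
    rw [← MulAut.mul_apply, ← map_mul, hz, map_one, MulAut.one_apply]
  have hzc : ∀ {u : E}, u ∈ Subgroup.center E → ∀ p, u * p = p * u := fun hu p =>
    (Subgroup.mem_center_iff.mp hu p).symm
  have key : ∀ g : E, ∃ a ∈ X.fix z, ∃ b ∈ X.neg z, a * b = g * g := by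
    intro g
    set b := (X.act z g)⁻¹ * g with hbdef
    have hbz : X.act z b = b⁻¹ := by
      rw [show X.act z b = (X.act z (X.act z g))⁻¹ * X.act z g by rw [map_mul, map_inv], hzz, hbdef]
      group
    have hb : b ∈ X.neg z := by
      rw [mem_neg, hbz, inv_mul_cancel]
      exact one_mem _
    have hfix : g * g * b⁻¹ ∈ X.fix z := by
      have hsym : X.act z (g * g * b⁻¹) = g * g * b⁻¹ * (b * g⁻¹ * b⁻¹ * g) := by
        rw [map_mul, map_mul, map_inv, hbz, hbdef]
        group
      have hcc : b * g⁻¹ * b⁻¹ * g ∈ Subgroup.center E := by simpa using X.comm b g⁻¹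
      have h2 := congrArg (X.act z) hsym
      rw [hzz, map_mul, X.center_fixed z hcc, hsym, mul_assoc (g * g * b⁻¹)] at h2
      have h3 : b * g⁻¹ * b⁻¹ * g = 1 := X.eq_one_of_two_pow (a := 1) (by
        rw [pow_one, pow_two]
        exact mul_left_cancel (h2.symm.trans (mul_one _).symm))
      rw [mem_fix, hsym, h3, mul_one]
    exact ⟨_, hfix, b, hb, inv_mul_cancel_right _ _⟩
  obtain ⟨m, hm⟩ := X.odd_card
  obtain ⟨a, ha, b, hb, hab⟩ := key (g ^ (m + 1))
  refine ⟨a, ha, b, hb, ?_⟩
  rw [hab, ← pow_add, show m + 1 + (m + 1) = Nat.card E + 1 by omega, pow_succ, pow_card_eq_one',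
    one_mul]

theorem fix_nondeg {z : R} (hz : z * z = 1) {a : E} (ha : a ∈ X.fix z)
    (h : ∀ b ∈ X.fix z, a * b = b * a) : a ∈ Subgroup.center E := by
  refine Subgroup.mem_center_iff.mpr fun g => ?_
  obtain ⟨u, hu, v, hv, rfl⟩ := X.exists_decomp hz g
  rw [mul_assoc, ← X.comm_fix_neg ha hv, ← mul_assoc, ← h u hu, mul_assoc]

theorem neg_nondeg {z : R} (hz : z * z = 1) {b : E} (hb : b ∈ X.neg z)
    (h : ∀ c ∈ X.neg z, b * c = c * b) : b ∈ Subgroup.center E := by
  refine Subgroup.mem_center_iff.mpr fun g => ?_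
  obtain ⟨u, hu, v, hv, rfl⟩ := X.exists_decomp hz g
  rw [mul_assoc, ← h v hv, ← mul_assoc, X.comm_fix_neg hu hb, mul_assoc]

/-- An automorphism trivial modulo the centre is trivial. -/
theorem act_eq_one_of_mod_center {g : R} (h : ∀ p, p⁻¹ * X.act g p ∈ Subgroup.center E) :
    X.act g = 1 := by
  refine MulEquiv.ext fun p => ?_
  obtain ⟨a, ha⟩ := X.pR g
  set c := p⁻¹ * X.act g p with hc
  have hp : X.act g p = p * c := (mul_inv_cancel_left p _).symm
  have hn : ∀ n : ℕ, X.act (g ^ n) p = p * c ^ n := by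
    intro n
    induction n with
    | zero => simp
    | succ n ih =>
      rw [pow_succ', map_mul, MulAut.mul_apply, ih, map_mul, hp,
        X.center_fixed g (pow_mem (h p) n), mul_assoc, ← pow_succ']
  have h1 := hn (2 ^ a)
  rw [ha, map_one, MulAut.one_apply] at h1
  have h2 : c = 1 := X.eq_one_of_two_pow (mul_left_cancel (h1.symm.trans (mul_one p).symm))
  rw [MulAut.one_apply, hp, h2, mul_one]

/-- The commutation of two elements is scalar. -/
theorem exists_swap (u v : E) : ∃ a : k, X.ρ u * X.ρ v = a • (X.ρ v * X.ρ u) ∧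
    (a = 1 → u * v = v * u) := by
  obtain ⟨a, ha⟩ := X.scalar _ (X.comm u v)
  have h : X.ρ u * X.ρ v = a • (X.ρ v * X.ρ u) := by
    rw [← map_mul, ← map_mul, show u * v = (u * v * u⁻¹ * v⁻¹) * (v * u) by group, map_mul, ha,
      smul_mul_assoc, one_mul]
  exact ⟨a, h, fun h1 => X.inj (by rw [map_mul, map_mul, h, h1, one_smul])⟩

/-- The space fixed by an operator. -/
def space (z : R) : Submodule k W := LinearMap.ker (X.op z - 1)

theorem mem_space {z : R} {v : W} : v ∈ X.space z ↔ X.op z v = v := by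
  simp [space, sub_eq_zero]

theorem sub_mem_space {z : R} (hz : X.op z * X.op z = 1) (v : W) :
    X.op z v - v ∈ X.space z := by
  rw [mem_space, map_sub, ← Module.End.mul_apply, hz, Module.End.one_apply]
  have hneg : ∀ u : W, -u = u := fun u => by rw [← neg_one_smul k, CharTwo.neg_eq, one_smul]
  rw [← hneg (X.op z v - v), neg_sub]

/-- The elements preserving the fixed space of `z` are fixed by `z`. -/
theorem mem_fix_of_preserves {z : R} (hz : z * z = 1) {p : E}
    (h : ∀ v ∈ X.space z, X.ρ p v ∈ X.space z) : p ∈ X.fix z := by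
  by_contra hp
  obtain ⟨a, ha, b, hb, rfl⟩ := X.exists_decomp hz p
  refine hp (mul_mem ha (?_ : b ∈ X.fix z))
  have hpa : ∀ {u : E}, u ∈ X.fix z → ∀ v ∈ X.space z, X.ρ u v ∈ X.space z := fun hu v hv => by
    rw [mem_space, semi_apply, X.mem_fix.mp hu, X.mem_space.mp hv]
  have hbK : ∀ v ∈ X.space z, X.ρ b v ∈ X.space z := fun v hv => by
    have h1 := hpa (inv_mem ha) _ (h v hv)
    rwa [← Module.End.mul_apply, ← map_mul, inv_mul_cancel_left] at h1
  -- take the root inverted exactly
  set c := (X.act z b)⁻¹ * b with hc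
  have hzz : ∀ p, X.act z (X.act z p) = p := fun p => by
    rw [← MulAut.mul_apply, ← map_mul, hz, map_one, MulAut.one_apply]
  have hcz : X.act z c = c⁻¹ := by rw [hc, map_mul, map_inv, hzz]; group
  have hcK : ∀ v ∈ X.space z, X.ρ c v ∈ X.space z := by
    intro v hv
    obtain ⟨t, ht⟩ := X.scalar _ (mem_neg X |>.mp hb)
    rw [hc, show (X.act z b)⁻¹ * b = b * ((X.act z b * b)⁻¹) * b by group, map_mul, map_mul,
      Module.End.mul_apply, Module.End.mul_apply]
    refine hbK _ ?_
    obtain ⟨t', ht'⟩ := X.scalar _ (inv_mem (mem_neg X |>.mp hb))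
    rw [ht', LinearMap.smul_apply, Module.End.one_apply]
    exact Submodule.smul_mem _ _ (hbK v hv)
  suffices c = 1 by
    rw [hc, inv_mul_eq_one] at this
    exact X.mem_fix.mpr this
  -- `c` fixes the fixed space pointwise
  have hcfix : ∀ v ∈ X.space z, X.ρ c v = v := by
    intro v hv
    have h1 := mem_space X |>.mp (hcK v hv)
    rw [semi_apply, hcz, mem_space X |>.mp hv] at h1
    have h2 : X.ρ (c * c) v = v := by
      rw [map_mul, Module.End.mul_apply]
      rw [← h1]
      rw [← Module.End.mul_apply, ← map_mul, mul_inv_cancel, map_one, Module.End.one_apply]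
    obtain ⟨m, hm⟩ := X.odd_card
    have h3 : ∀ n : ℕ, X.ρ ((c * c) ^ n) v = v := by
      intro n
      induction n with
      | zero => simp
      | succ n ih => rw [pow_succ, map_mul, Module.End.mul_apply, h2, ih]
    have h4 := h3 (m + 1)
    rwa [← pow_two, ← pow_mul, show 2 * (m + 1) = Nat.card E + 1 by omega, pow_succ,
      pow_card_eq_one', one_mul] at h4
  -- a nonzero fixed vector
  obtain ⟨v, hv, hv0⟩ : ∃ v ∈ X.space z, v ≠ 0 := by
    obtain ⟨w, hw⟩ := exists_ne (0 : W)
    by_cases h0 : X.op z w - w = 0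
    · exact ⟨w, mem_space X |>.mpr (sub_eq_zero.mp h0), hw⟩
    · exact ⟨_, X.sub_mem_space (by rw [← map_mul, hz, map_one]) w, h0⟩
  -- `c` commutes with everything inverted
  have hc1 : c ∈ Subgroup.center E := by
    refine X.neg_nondeg hz (by rw [mem_neg, hcz, inv_mul_cancel]; exact one_mem _) fun d hd => ?_
    obtain ⟨e, hez, hed⟩ : ∃ e, X.act z e = e⁻¹ ∧ (∀ u, u * e = e * u → u * d = d * u) := by
      refine ⟨(X.act z d)⁻¹ * d, by rw [map_mul, map_inv, hzz]; group, fun u hu => ?_⟩
      have hcen := inv_mem (mem_neg X |>.mp hd)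
      rw [show (X.act z d)⁻¹ * d = d * (X.act z d * d)⁻¹ * d by group,
        (Subgroup.mem_center_iff.mp hcen d), mul_assoc] at hu
      have h1 : u * (d * d) = d * d * u := by
        refine mul_left_cancel (a := (X.act z d * d)⁻¹) ?_
        rw [← mul_assoc, ← Subgroup.mem_center_iff.mp hcen u, mul_assoc, hu, mul_assoc]
      obtain ⟨m, hm⟩ := X.odd_card
      have h2 : Commute u ((d * d) ^ (m + 1)) := (show Commute u (d * d) from h1).pow_right _
      rwa [← pow_two, ← pow_mul, show 2 * (m + 1) = Nat.card E + 1 by omega, pow_succ,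
        pow_card_eq_one', one_mul] at h2
    refine hed c ?_
    obtain ⟨t, ht, ht1⟩ := X.exists_swap c e
    refine ht1 ?_
    -- the symmetrised operator
    have hTK : X.ρ e v + X.ρ e⁻¹ v ∈ X.space z := by
      rw [mem_space, map_add, semi_apply, semi_apply, map_inv, hez, inv_inv,
        mem_space X |>.mp hv, add_comm]
    have h5 := hcfix _ hTK
    have hce : ∀ w : W, X.ρ c (X.ρ e w) = t • X.ρ e (X.ρ c w) := fun w =>
      LinearMap.congr_fun ht w
    have ht0 : t ≠ 0 := fun h0 => hv0 (by
      have h6 := hce (X.ρ e⁻¹ v)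
      rw [h0, zero_smul, ← Module.End.mul_apply (X.ρ e), ← map_mul, mul_inv_cancel, map_one,
        Module.End.one_apply, hcfix v hv] at h6
      exact h6)
    have hce' : X.ρ c (X.ρ e⁻¹ v) = t⁻¹ • X.ρ e⁻¹ v := by
      have h6 := hce (X.ρ e⁻¹ v)
      rw [← Module.End.mul_apply (X.ρ e), ← map_mul, mul_inv_cancel, map_one,
        Module.End.one_apply, hcfix v hv] at h6
      have h7 := congrArg (X.ρ e⁻¹) h6
      rw [map_smul, ← Module.End.mul_apply (X.ρ e⁻¹) (X.ρ e), ← map_mul, inv_mul_cancel, map_one,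
        Module.End.one_apply] at h7
      exact ((inv_smul_eq_iff₀ ht0).mpr h7).symm
    rw [map_add, hce, hcfix v hv, hce'] at h5
    by_contra h1
    have h6 : (t - 1) • X.ρ e v + (t⁻¹ - 1) • X.ρ e⁻¹ v = 0 := by
      rw [sub_smul, sub_smul, one_smul, one_smul, ← sub_self (X.ρ e v + X.ρ e⁻¹ v)]
      nth_rw 1 [← h5]
      abel
    -- apply `c` once more
    have h7 := congrArg (X.ρ c) h6
    rw [map_add, map_smul, map_smul, hce, hcfix v hv, hce', map_zero] at h7
    have h8 : ((t - 1) * (t - t⁻¹)) • X.ρ e v = 0 := by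
      have h9 : ((t - 1) * (t - t⁻¹)) • X.ρ e v = ((t - 1) • (t • X.ρ e v) + (t⁻¹ - 1) • t⁻¹ • X.ρ e⁻¹ v) -
          t⁻¹ • ((t - 1) • X.ρ e v + (t⁻¹ - 1) • X.ρ e⁻¹ v) := by
        simp only [smul_add, smul_smul, mul_sub, sub_smul]
        module
      rw [h9, h6, h7, smul_zero, sub_zero]
    have hne : (t - 1) * (t - t⁻¹) ≠ 0 := by
      refine mul_ne_zero (sub_ne_zero.mpr h1) (sub_ne_zero.mpr fun h => h1 ?_)
      have h2 : t * t = 1 := by nth_rw 2 [h]; exact mul_inv_cancel₀ ht0
      have h3 : (t + 1) * (t + 1) = 0 := by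
        have h4 : (t + 1) * (t + 1) = t * t + 1 + (t + t) := by ring
        rw [h4, h2, CharTwo.add_self_eq_zero, CharTwo.add_self_eq_zero, add_zero]
      have h5 := mul_self_eq_zero.mp h3
      rwa [add_eq_zero_iff_eq_neg, CharTwo.neg_eq] at h5
    have h10 := (smul_eq_zero.mp h8).resolve_left hne
    refine hv0 ?_
    have h11 := congrArg (X.ρ e⁻¹) h10
    rwa [← Module.End.mul_apply, ← map_mul, inv_mul_cancel, map_one, Module.End.one_apply,
      map_zero] at h11
  refine X.eq_one_of_two_pow (a := 1) ?_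
  have h1 := X.center_fixed z hc1
  rw [hcz] at h1
  rw [pow_one, pow_two]
  nth_rw 1 [← h1]
  exact inv_mul_cancel c

/-- **The key lemma.** If `(z - 1)(x - 1) = 0` then `x` fixes what `z` fixes. -/
theorem fixes_of_kills {z : R} (hz : z * z = 1) (hne : X.act z ≠ 1) {x : R}
    (h : (X.op z - 1) * (X.op x - 1) = 0) {p : E} (hp : p ∈ X.fix z) : X.act x p = p := by
  have hK : ∀ v, X.op x v - v ∈ X.space z := fun v => by
    have h1 := LinearMap.congr_fun h v
    rw [Module.End.mul_apply, LinearMap.sub_apply, LinearMap.sub_apply, Module.End.one_apply,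
      Module.End.one_apply, LinearMap.zero_apply, sub_eq_zero] at h1
    exact mem_space X |>.mpr h1
  have hxK : ∀ v ∈ X.space z, X.op x v ∈ X.space z := fun v hv => by
    simpa using add_mem (hK v) hv
  have hxK' : ∀ v ∈ X.space z, X.op x⁻¹ v ∈ X.space z := fun v hv => by
    have h1 := hK (X.op x⁻¹ v)
    rw [op_apply_inv] at h1
    simpa using sub_mem hv h1
  have hpa : ∀ {u : E}, u ∈ X.fix z → ∀ v ∈ X.space z, X.ρ u v ∈ X.space z := fun hu v hv => by
    rw [mem_space, semi_apply, X.mem_fix.mp hu, X.mem_space.mp hv]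
  have hxp : X.act x p ∈ X.fix z := X.mem_fix_of_preserves hz fun v hv => by
    have h1 := hxK _ (hpa hp _ (hxK' v hv))
    rwa [semi_apply, op_apply_inv] at h1
  set c := p⁻¹ * X.act x p with hc
  have hcfix : c ∈ X.fix z := mul_mem (inv_mem hp) hxp
  -- `c` is trivial on the quotient by the fixed space
  have hcq : ∀ v, X.ρ c v - v ∈ X.space z := by
    intro v
    have h1 : X.ρ (X.act x p) (X.op x v) - X.ρ p v ∈ X.space z := by
      rw [← semi_apply]; exact hK _
    have h2 : X.ρ (X.act x p) v - X.ρ p v ∈ X.space z := by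
      have h3 := hpa hxp _ (hK v)
      rw [map_sub] at h3
      simpa using sub_mem h1 h3
    have h4 := hpa (inv_mem hp) _ h2
    rwa [map_sub, ← Module.End.mul_apply, ← Module.End.mul_apply, ← map_mul, ← map_mul,
      inv_mul_cancel, map_one, Module.End.one_apply] at h4
  obtain ⟨w, hw⟩ : ∃ w, w ∉ X.space z := by
    by_contra hall
    push Not at hall
    refine hne (X.act_eq_one_of_op (LinearMap.ext fun v => ?_))
    exact mem_space X |>.mp (hall v)
  have hcen : c ∈ Subgroup.center E := by
    refine X.fix_nondeg hz hcfix fun u hu => ?_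
    obtain ⟨t, ht, ht1⟩ := X.exists_swap c u
    refine ht1 ?_
    by_contra ht'
    refine hw ?_
    set w' := X.ρ u⁻¹ w with hw'
    have h1 := hcq (X.ρ u w')
    have h2 := hpa hu _ (hcq w')
    rw [map_sub] at h2
    have h3 : X.ρ c (X.ρ u w') = t • X.ρ u (X.ρ c w') := LinearMap.congr_fun ht w'
    rw [h3] at h1
    have h4 : (t - 1) • X.ρ u w' ∈ X.space z := by
      have h5 := sub_mem h1 (Submodule.smul_mem _ t h2)
      convert h5 using 1
      rw [smul_sub, sub_smul, one_smul]
      abel
    have h6 := (Submodule.smul_mem_iff _ (sub_ne_zero.mpr ht')).mp h4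
    rwa [hw', ← Module.End.mul_apply, ← map_mul, mul_inv_cancel, map_one,
      Module.End.one_apply] at h6
  obtain ⟨a, ha⟩ := X.pR x
  have hp' : X.act x p = p * c := (mul_inv_cancel_left p _).symm
  have hn : ∀ n : ℕ, X.act (x ^ n) p = p * c ^ n := by
    intro n
    induction n with
    | zero => simp
    | succ n ih =>
      rw [pow_succ', map_mul, MulAut.mul_apply, ih, map_mul, hp',
        X.center_fixed x (pow_mem hcen n), mul_assoc, ← pow_succ']
  have h1 := hn (2 ^ a)
  rw [ha, map_one, MulAut.one_apply] at h1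
  have h2 : c = 1 := X.eq_one_of_two_pow (mul_left_cancel (h1.symm.trans (mul_one p).symm))
  rw [hp', h2, mul_one]

/-- An involution killing another one has the same action. -/
theorem act_eq_of_kills {z t : R} (hz : z * z = 1) (ht : t * t = 1) (hzne : X.act z ≠ 1)
    (htne : X.act t ≠ 1) (h : (X.op z - 1) * (X.op t - 1) = 0)
    (h' : (X.op t - 1) * (X.op z - 1) = 0) : X.act t = X.act z := by
  have h1 : ∀ p ∈ X.fix z, X.act t p = p := fun p hp => X.fixes_of_kills hz hzne h hp
  have h2 : ∀ p ∈ X.fix t, X.act z p = p := fun p hp => X.fixes_of_kills ht htne h' hp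
  refine MulEquiv.ext fun g => ?_
  obtain ⟨a, ha, b, hb, rfl⟩ := X.exists_decomp hz g
  rw [map_mul, map_mul, h1 a ha, X.mem_fix.mp ha]
  congr 1
  -- `b` is inverted by `t`
  obtain ⟨a', ha', b', hb', hab⟩ := X.exists_decomp ht b
  have ha'c : a' ∈ Subgroup.center E := by
    refine X.inter (X.mem_fix.mpr (h2 a' ha')) (mem_neg X |>.mpr ?_)
    have hb'' : X.act z b' * b' ∈ Subgroup.center E := by
      obtain ⟨u, hu, v, hv, huv⟩ := X.exists_decomp hz b'
      have huc : u ∈ Subgroup.center E := by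
        refine X.fix_nondeg hz hu fun w hw => ?_
        have e1 := X.comm_fix_neg (X.mem_fix.mpr (h1 w hw)) hb'
        rw [← huv] at e1
        have e2 := X.comm_fix_neg hw hv
        rw [← mul_assoc, mul_assoc u v w, ← e2, ← mul_assoc] at e1
        exact (mul_right_cancel e1).symm
      rw [← huv]
      exact X.mem_neg.mp (mul_mem (X.center_le_neg z huc) hv)
    have hmem : a' ∈ X.neg z := by
      have h3 := mul_mem (show b ∈ X.neg z from hb) (inv_mem (show b' ∈ X.neg z from hb''))
      rwa [← hab, mul_inv_cancel_right] at h3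
    exact hmem
  have hbt : b ∈ X.neg t := hab ▸ mul_mem (X.center_le_neg t ha'c) hb'
  have key : ∀ {s : R}, s * s = 1 → b ∈ X.neg s → X.act s b * b ∈ Subgroup.center E :=
    fun _ hb => hb
  have hd : (X.act z b)⁻¹ * X.act t b ∈ Subgroup.center E := by
    have := mul_mem (inv_mem (key hz hb)) (key ht hbt)
    convert (inferInstance : (Subgroup.center E).Normal).conj_mem _ this b using 1
    group
  -- coprimality
  set y := t * z with hy
  have hc1 : (X.act z b)⁻¹ * X.act t b = 1 := by
    set c := (X.act z b)⁻¹ * X.act t b with hcdef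
    have htb : X.act t b = X.act z b * c := (mul_inv_cancel_left _ _).symm
    have hy1 : X.act y (X.act z b) = X.act z b * c := by
      have hzz : X.act z (X.act z b) = b := by
        rw [← MulAut.mul_apply, ← map_mul, hz, map_one, MulAut.one_apply]
      rw [hy, map_mul, MulAut.mul_apply, hzz, htb]
    obtain ⟨a, ha⟩ := X.pR y
    have hn : ∀ n : ℕ, X.act (y ^ n) (X.act z b) = X.act z b * c ^ n := by
      intro n
      induction n with
      | zero => simp
      | succ n ih =>
        rw [pow_succ', map_mul, MulAut.mul_apply, ih, map_mul, hy1,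
          X.center_fixed y (pow_mem hd n), mul_assoc, ← pow_succ']
    have h3 := hn (2 ^ a)
    rw [ha, map_one, MulAut.one_apply] at h3
    exact X.eq_one_of_two_pow (mul_left_cancel (h3.symm.trans (mul_one _).symm))
  exact (inv_mul_eq_one.mp hc1).symm

end Heis

end Cfsg.Agent.Lib.TwoLengthDer
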