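/-
Passing to invariant subgroups, subgroups of operators and invariant subspaces; small cases.
-/
import Cfsg.Agent.Lib.TwoLengthDer.Heis

set_option autoImplicit false
set_option linter.style.haveILetI false
set_option linter.unusedSectionVars false

namespace Cfsg.Agent.Lib.TwoLengthDer

open Cfsg.Agent.Lib.FpfHeight

universe u v

variable {q : ℕ} {E R : Type u} [Group E] [Finite E] [Group R] [Finite R] {k : Type v} [Field k]
  [IsAlgClosed k] [CharP k 2] {W : Type u} [AddCommGroup W] [Module k W] [FiniteDimensional k W]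
  [Nontrivial W]

/-- A subgroup with the same centre, invariant under a group of operators. -/
structure Part (X : Heis q E R k W) {R₂ : Type u} [Group R₂] (φ : R₂ →* R) where
  A : Subgroup E
  inv : ∀ g, ∀ p ∈ A, X.act (φ g) p ∈ A
  center_le : Subgroup.center E ≤ A
  nondeg : ∀ a ∈ A, (∀ b ∈ A, a * b = b * a) → a ∈ Subgroup.center E

namespace Part

variable {X : Heis q E R k W} {R₂ : Type u} [Group R₂] [Finite R₂] {φ : R₂ →* R} (P : Part X φ)

theorem mem_center {a : P.A} : a ∈ Subgroup.center P.A ↔ (a : E) ∈ Subgroup.center E := by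
  constructor
  · intro h
    exact P.nondeg a a.2 fun b hb =>
      (congrArg Subtype.val (Subgroup.mem_center_iff.mp h ⟨b, hb⟩)).symm
  · intro h
    exact Subgroup.mem_center_iff.mpr fun b => Subtype.ext (Subgroup.mem_center_iff.mp h b)

/-- The action on the part. -/
def actOn : R₂ →* MulAut P.A where
  toFun g :=
    { toFun := fun p => ⟨X.act (φ g) p, P.inv g p p.2⟩
      invFun := fun p => ⟨X.act (φ g⁻¹) p, P.inv g⁻¹ p p.2⟩
      left_inv := fun p => Subtype.ext (by
        change X.act (φ g⁻¹) (X.act (φ g) p) = p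
        rw [← MulAut.mul_apply, ← map_mul, ← map_mul, inv_mul_cancel, map_one, map_one,
          MulAut.one_apply])
      right_inv := fun p => Subtype.ext (by
        change X.act (φ g) (X.act (φ g⁻¹) p) = p
        rw [← MulAut.mul_apply, ← map_mul, ← map_mul, mul_inv_cancel, map_one, map_one,
          MulAut.one_apply])
      map_mul' := fun p p' => Subtype.ext (map_mul _ _ _) }
  map_one' := MulEquiv.ext fun p => Subtype.ext (by
    change X.act (φ 1) p = p
    rw [map_one, map_one, MulAut.one_apply])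
  map_mul' g h := MulEquiv.ext fun p => Subtype.ext (by
    change X.act (φ (g * h)) p = X.act (φ g) (X.act (φ h) p)
    rw [map_mul, map_mul, MulAut.mul_apply])

theorem coe_actOn (g : R₂) (p : P.A) : ((P.actOn g p : P.A) : E) = X.act (φ g) p := rfl

/-- The restricted system. -/
def heis (hR₂ : IsPGroup 2 R₂) (U : Submodule k W) (hU : U ≠ ⊥)
    (hρ : ∀ a ∈ P.A, ∀ v ∈ U, X.ρ a v ∈ U) (hop : ∀ g, ∀ v ∈ U, X.op (φ g) v ∈ U) :
    Heis q P.A R₂ k U where
  act := P.actOn
  ρ :=
    { toFun := fun a => (X.ρ a).restrict (hρ a a.2)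
      map_one' := LinearMap.ext fun v => Subtype.ext (by simp)
      map_mul' := fun a b => LinearMap.ext fun v => Subtype.ext (by simp) }
  op :=
    { toFun := fun g => (X.op (φ g)).restrict (hop g)
      map_one' := LinearMap.ext fun v => Subtype.ext (by simp)
      map_mul' := fun a b => LinearMap.ext fun v => Subtype.ext (by simp) }
  inj := by
    refine (injective_iff_map_eq_one _).mpr fun a ha => ?_
    have haU : ∀ v ∈ U, X.ρ a v = v := fun v hv =>
      congrArg Subtype.val (LinearMap.congr_fun ha ⟨v, hv⟩)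
    obtain ⟨v, hv, hv0⟩ := (Submodule.ne_bot_iff U).mp hU
    have hcomm : ∀ b ∈ P.A, (a : E) * b = b * a := by
      intro b hb
      obtain ⟨t, ht, ht1⟩ := X.exists_swap a b
      refine ht1 ?_
      have h := LinearMap.congr_fun ht v
      rw [Module.End.mul_apply, LinearMap.smul_apply, Module.End.mul_apply, haU v hv,
        haU _ (hρ b hb v hv)] at h
      have hne : X.ρ b v ≠ 0 := fun h0 => hv0 (by
        have h1 := congrArg (X.ρ b⁻¹) h0
        rwa [← Module.End.mul_apply, ← map_mul, inv_mul_cancel, map_one, Module.End.one_apply,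
          map_zero] at h1)
      exact (smul_left_injective k hne ((one_smul k _).trans h)).symm
    obtain ⟨t, ht⟩ := X.scalar a (P.nondeg a a.2 hcomm)
    have h := haU v hv
    rw [ht, LinearMap.smul_apply, Module.End.one_apply] at h
    have ht1 : t = 1 := smul_left_injective k hv0 (h.trans (one_smul k v).symm)
    refine Subtype.ext (X.inj ?_)
    rw [ht, ht1, one_smul, OneMemClass.coe_one, map_one]
  semi g p := LinearMap.ext fun v => Subtype.ext (by
    change X.op (φ g) (X.ρ p v) = X.ρ (X.act (φ g) p) (X.op (φ g) v)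
    exact X.semi_apply _ _ _)
  scalar c hc := by
    obtain ⟨a, ha⟩ := X.scalar c (P.mem_center.mp hc)
    exact ⟨a, LinearMap.ext fun v => Subtype.ext (by simp [ha])⟩
  comm u v := P.mem_center.mpr (X.comm u v)
  prime := X.prime
  ne_two := X.ne_two
  pow p := P.mem_center.mpr (by rw [Subgroup.coe_pow]; exact X.pow p)
  pE := X.pE.to_subgroup _
  pR := hR₂

theorem center_index : (Subgroup.center P.A).index = (Subgroup.center E).relIndex P.A := by
  rw [Subgroup.relIndex]
  congr 1
  ext a
  rw [Subgroup.mem_subgroupOf, P.mem_center]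

end Part

namespace Heis

variable (X : Heis q E R k W)
include X

/-- The whole group as a part. -/
def whole : Part X (MonoidHom.id R) where
  A := ⊤
  inv _ _ _ := Subgroup.mem_top _
  center_le := le_top
  nondeg a _ h := Subgroup.mem_center_iff.mpr fun g => (h g (Subgroup.mem_top g)).symm

/-- The subspace fixed by the inert operators. -/
def inert : Submodule k W := ⨅ g : X.act.ker, LinearMap.ker (X.op (g : R) - 1)

theorem mem_inert {v : W} : v ∈ X.inert ↔ ∀ g : R, X.act g = 1 → X.op g v = v := by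
  simp [inert, Submodule.mem_iInf, sub_eq_zero]

theorem inert_ne_bot : X.inert ≠ ⊥ := by
  haveI : Fact (Nat.Prime 2) := ⟨Nat.prime_two⟩
  obtain ⟨v, -, hv0, hv⟩ := Cfsg.Agent.Lib.MinSquare.PermSummand.exists_fixed_vector (K := k) (p := 2)
    CharTwo.two_eq_zero (X.pR.to_subgroup X.act.ker) (X.op.comp X.act.ker.subtype) top_ne_bot
    (W := ⊤) fun _ _ _ => Submodule.mem_top
  exact fun h => hv0 ((Submodule.mem_bot k).mp (h ▸ X.mem_inert.mpr fun g hg => hv ⟨g, hg⟩))

theorem inert_ρ (a : E) {v : W} (hv : v ∈ X.inert) : X.ρ a v ∈ X.inert :=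
  X.mem_inert.mpr fun g hg => by
    rw [X.semi_apply, hg, MulAut.one_apply, X.mem_inert.mp hv g hg]

theorem inert_op (g : R) {v : W} (hv : v ∈ X.inert) : X.op g v ∈ X.inert :=
  X.mem_inert.mpr fun h hh => by
    have h1 := X.mem_inert.mp hv (g⁻¹ * h * g) (by simp [map_mul, hh])
    have h2 := congrArg (X.op g) h1
    rwa [← Module.End.mul_apply, ← map_mul, show g * (g⁻¹ * h * g) = h * g by group, map_mul,
      Module.End.mul_apply] at h2

/-- The system with faithful operators. -/
def reduce : Heis q E (R ⧸ X.act.ker) k X.inert where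
  act := QuotientGroup.lift X.act.ker X.act le_rfl
  ρ :=
    { toFun := fun a => (X.ρ a).restrict fun _ hv => X.inert_ρ a hv
      map_one' := LinearMap.ext fun v => Subtype.ext (by simp)
      map_mul' := fun a b => LinearMap.ext fun v => Subtype.ext (by simp) }
  op := QuotientGroup.lift X.act.ker
    { toFun := fun g => (X.op g).restrict fun _ hv => X.inert_op g hv
      map_one' := LinearMap.ext fun v => Subtype.ext (by simp)
      map_mul' := fun a b => LinearMap.ext fun v => Subtype.ext (by simp) }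
    fun g hg => LinearMap.ext fun v => Subtype.ext (X.mem_inert.mp v.2 g hg)
  inj := by
    refine (injective_iff_map_eq_one _).mpr fun a ha => ?_
    have haU : ∀ v ∈ X.inert, X.ρ a v = v := fun v hv =>
      congrArg Subtype.val (LinearMap.congr_fun ha ⟨v, hv⟩)
    obtain ⟨v, hv, hv0⟩ := (Submodule.ne_bot_iff _).mp X.inert_ne_bot
    have hc : a ∈ Subgroup.center E := Subgroup.mem_center_iff.mpr fun b => by
      obtain ⟨t, ht, ht1⟩ := X.exists_swap a b
      refine (ht1 ?_).symm
      have h := LinearMap.congr_fun ht v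
      rw [Module.End.mul_apply, LinearMap.smul_apply, Module.End.mul_apply, haU v hv,
        haU _ (X.inert_ρ b hv)] at h
      have hne : X.ρ b v ≠ 0 := fun h0 => hv0 (by
        have h1 := congrArg (X.ρ b⁻¹) h0
        rwa [← Module.End.mul_apply, ← map_mul, inv_mul_cancel, map_one, Module.End.one_apply,
          map_zero] at h1)
      exact (smul_left_injective k hne ((one_smul k _).trans h)).symm
    obtain ⟨t, ht⟩ := X.scalar a hc
    have h := haU v hv
    rw [ht, LinearMap.smul_apply, Module.End.one_apply] at h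
    have ht1 : t = 1 := smul_left_injective k hv0 (h.trans (one_smul k v).symm)
    refine X.inj ?_
    rw [ht, ht1, one_smul, map_one]
  semi g p := by
    obtain ⟨g, rfl⟩ := QuotientGroup.mk_surjective g
    exact LinearMap.ext fun v => Subtype.ext (X.semi_apply g p v)
  scalar c hc := by
    obtain ⟨a, ha⟩ := X.scalar c hc
    exact ⟨a, LinearMap.ext fun v => Subtype.ext (by simp [ha])⟩
  comm := X.comm
  prime := X.prime
  ne_two := X.ne_two
  pow := X.pow
  pE := X.pE
  pR := X.pR.to_quotient _

theorem reduce_injective : Function.Injective X.reduce.act := by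
  refine (injective_iff_map_eq_one _).mpr fun g hg => ?_
  obtain ⟨g, rfl⟩ := QuotientGroup.mk_surjective g
  exact (QuotientGroup.eq_one_iff g).mpr hg

theorem reduce_act (g : R) : X.reduce.act (g : R ⧸ X.act.ker) = X.act g := rfl

theorem reduce_kills {m : ℕ} (h : iterComm X.op m = ⊥) : iterComm X.reduce.op m = ⊥ :=
  iterComm_restrict_eq_bot X.op X.reduce.op (QuotientGroup.mk' X.act.ker)
    (QuotientGroup.mk'_surjective _) X.inert.subtype X.inert.subtype_injective (fun _ _ => rfl) h

theorem nontrivial_inert : Nontrivial X.inert := Submodule.nontrivial_iff_ne_bot.mpr X.inert_ne_bot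

/-- An operator of order four killed by its square has a plane. -/
theorem plane_of_sq {z w : R} (hww : w * w = z) (hz : z * z = 1) (hzne : X.act z ≠ 1)
    (h : (X.op z - 1) * (X.op w - 1) = 0) :
    q = 3 ∧ (Subgroup.center E).relIndex (X.neg z) = 9 := by
  haveI := Fact.mk X.prime
  haveI : Fact (Nat.Prime 2) := ⟨Nat.prime_two⟩
  set Z := Subgroup.center E with hZdef
  have hscal : ∀ c : Z, ∃ a : k, X.ρ c = a • 1 := fun c => X.scalar c c.2
  choose μ hμ using hscal
  obtain ⟨w₀, hw₀⟩ := exists_ne (0 : W)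
  have hμ' : ∀ c : Z, X.ρ c w₀ = μ c • w₀ := fun c => by
    rw [hμ, LinearMap.smul_apply, Module.End.one_apply]
  let lam : Z →* k :=
    { toFun := μ
      map_one' := smul_left_injective k hw₀ (by
        change μ 1 • w₀ = (1 : k) • w₀
        rw [← hμ', OneMemClass.coe_one, map_one, Module.End.one_apply, one_smul])
      map_mul' := fun a b => smul_left_injective k hw₀ (by
        change μ (a * b) • w₀ = (μ a * μ b) • w₀
        rw [← hμ', Subgroup.coe_mul, map_mul, Module.End.mul_apply, hμ', map_smul, hμ', smul_smul,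
          mul_comm]) }
  have hc : PlaneTwo.Central (⊤ : Subgroup E) Z :=
    ⟨le_top, fun u _ v _ => X.comm u v, fun c hc u _ => (Subgroup.mem_center_iff.mp hc u).symm⟩
  haveI : (⊤ : Subgroup E).Normal := inferInstance
  let β : MulAut (⊤ : Subgroup E) :=
    { toFun := fun p => ⟨X.act w p, Subgroup.mem_top _⟩
      invFun := fun p => ⟨(X.act w).symm p, Subgroup.mem_top _⟩
      left_inv := fun p => Subtype.ext ((X.act w).symm_apply_apply p)
      right_inv := fun p => Subtype.ext ((X.act w).apply_symm_apply p)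
      map_mul' := fun p p' => Subtype.ext (map_mul _ _ _) }
  have hβ : ∀ (n : ℕ) (p : (⊤ : Subgroup E)), (((β ^ n) p : (⊤ : Subgroup E)) : E) =
      X.act (w ^ n) p := by
    intro n
    induction n with
    | zero => intro p; simp
    | succ n ih =>
      intro p
      rw [pow_succ, pow_succ, MulAut.mul_apply, ih, map_mul, MulAut.mul_apply]
      rfl
  have hw4 : w ^ 4 = 1 := by
    rw [show w ^ 4 = (w * w) * (w * w) by simp [pow_succ, mul_assoc], hww, hz]
  have hsum : ∑ i ∈ Finset.range (2 ^ 2), X.op w ^ i = 0 := by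
    rw [← h, ← hww, map_mul]
    rw [show (2 : ℕ) ^ 2 = 4 from rfl, Finset.sum_range_succ, Finset.sum_range_succ,
      Finset.sum_range_succ, Finset.sum_range_succ, Finset.sum_range_zero]
    have hneg : ∀ x : Module.End k W, -x = x := fun x => by
      rw [← neg_one_smul k, CharTwo.neg_eq, one_smul]
    simp only [pow_zero, pow_one, pow_succ, sub_eq_add_neg, hneg, mul_add, add_mul, one_mul,
      mul_one]
    abel
  have hrad : ∀ p : (⊤ : Subgroup E), p ∈ PlaneTwo.radP hc lam ↔ (p : E) ∈ Z := by
    intro p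
    refine ⟨fun hp => Subgroup.mem_center_iff.mpr fun g => ?_, PlaneTwo.mem_radP_of_mem hc lam⟩
    have h1 : lam (PlaneTwo.com hc ⟨g, Subgroup.mem_top g⟩ p) = 1 := hp _
    have h2 : (PlaneTwo.com hc ⟨g, Subgroup.mem_top g⟩ p : E) = 1 := X.inj (by
      rw [hμ, show μ _ = 1 from h1, one_smul, map_one])
    exact mul_inv_eq_iff_eq_mul.mp (mul_inv_eq_one.mp h2)
  have hq : (q : k) ≠ 0 := PlaneTwo.cast_ne_zero_of_odd (X.prime.odd_of_ne_two X.ne_two)
  rcases PlaneTwo.plane_general X.ρ (X.op w) 2 ⊤ Z hc X.ne_two hq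
      (X.pE.to_subgroup ⊤) β 1 (fun c => X.center_fixed w c.2)
      (MulEquiv.ext fun p => Subtype.ext (by rw [hβ, show 2 ^ 2 = 4 from rfl, hw4, map_one]; rfl))
      (fun p => X.semi w p) hsum lam w₀ hw₀ hμ' with
    hfix | ⟨-, -, A, hRA, hA, hmov, hinv, c, hc2, hce, hqc, -⟩
  · refine absurd (X.act_eq_one_of_mod_center fun p => ?_) hzne
    have h1 := (hrad _).mp (hfix ⟨p, Subgroup.mem_top p⟩)
    rw [Subgroup.coe_mul, hβ, Subgroup.coe_inv, show 2 ^ (2 - 1) = 2 from rfl, pow_two, hww] at h1
    convert (inferInstance : Z.Normal).conj_mem _ h1 p⁻¹ using 1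
    group
  obtain rfl : c = 2 := by omega
  refine ⟨by omega, ?_⟩
  have hq3 : q = 3 := by omega
  have hAeq : A.map (⊤ : Subgroup E).subtype = X.neg z := by
    refine le_antisymm ?_ fun p hp => ?_
    · rintro _ ⟨a, ha, rfl⟩
      have h1 := (hrad _).mp (hinv a ha)
      rw [Subgroup.coe_mul, hβ, show 2 ^ (2 - 1) = 2 from rfl, pow_two, hww] at h1
      exact h1
    · refine ⟨⟨p, Subgroup.mem_top p⟩, ?_, rfl⟩
      set p' : (⊤ : Subgroup E) := ⟨p, Subgroup.mem_top p⟩
      have h1 : (β ^ 2) p' * p'⁻¹ ∈ A := by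
        have e1 : (β ^ 2) p' * p'⁻¹ = ((β ^ 2 ^ (2 - 2)) (β p') * (β p')⁻¹) *
            ((β ^ 2 ^ (2 - 2)) p' * p'⁻¹) := by
          simp [pow_two, mul_assoc]
        rw [e1]
        exact mul_mem (hmov _) (hmov p')
      have h2 : (β ^ 2) p' * p' ∈ A := hRA ((hrad _).mpr (by
        rw [Subgroup.coe_mul, hβ, pow_two, hww]; exact hp))
      have h3 : p' * p' ∈ A := by
        have := mul_mem (inv_mem h1) h2
        convert this using 1
        group
      obtain ⟨m, hm⟩ := X.odd_card
      have h4 : (p' * p') ^ (m + 1) = p' := by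
        refine Subtype.ext ?_
        change (p * p) ^ (m + 1) = p
        rw [← pow_two, ← pow_mul, show 2 * (m + 1) = Nat.card E + 1 by omega, pow_succ,
          pow_card_eq_one', one_mul]
      exact h4 ▸ pow_mem h3 _
  have hR : (PlaneTwo.radP hc lam).map (⊤ : Subgroup E).subtype = Z := by
    ext p
    exact ⟨by rintro ⟨a, ha, rfl⟩; exact (hrad a).mp ha,
      fun hp => ⟨⟨p, Subgroup.mem_top p⟩, (hrad _).mpr hp, rfl⟩⟩
  have h9 := Subgroup.relIndex_map_map_of_injective (H := PlaneTwo.radP hc lam) (K := A)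
    (f := (⊤ : Subgroup E).subtype) Subtype.val_injective
  rw [hAeq, hR, hA] at h9
  exact h9.trans (by rw [hq3]; norm_num)

/-- Over nine classes a nontrivial operator fixes no class but the trivial one. -/
theorem semiregular (h9 : (Subgroup.center E).index = 9) {g : R} {u : E}
    (hu : u ∉ Subgroup.center E) (hgu : u⁻¹ * X.act g u ∈ Subgroup.center E) : X.act g = 1 := by
  set Z := Subgroup.center E
  set U := Z ⊔ Subgroup.zpowers u with hU
  set C := Subgroup.centralizer {u} with hC
  have hUC : U ≤ C := sup_le (fun c hc => Subgroup.mem_centralizer_singleton_iff.mpr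
      (Subgroup.mem_center_iff.mp hc u).symm)
    (Subgroup.zpowers_le.mpr (Subgroup.mem_centralizer_singleton_iff.mpr rfl))
  have hCne : C ≠ ⊤ := fun h => hu (Subgroup.mem_center_iff.mpr fun v =>
    Subgroup.mem_centralizer_singleton_iff.mp (show v ∈ C by rw [h]; exact Subgroup.mem_top v))
  have hZU : Z < U := lt_of_le_of_ne le_sup_left fun h =>
    hu (h ▸ Subgroup.mem_sup_right (Subgroup.mem_zpowers u))
  have hCU : C = U := by
    have e1 := Subgroup.relIndex_mul_index hZU.le
    have e2 := Subgroup.relIndex_mul_index hUC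
    have hd : ∀ d, d ∣ 9 → d ≠ 1 → 3 ≤ d := fun d hd hd1 => by
      have : d ≤ 9 := Nat.le_of_dvd (by norm_num) hd
      interval_cases d <;> omega
    have a3 := hd _ (h9 ▸ e1 ▸ dvd_mul_right _ _) fun h1 =>
      hZU.not_ge (Subgroup.relIndex_eq_one.mp h1)
    rw [h9, ← e2] at e1
    have c3 := hd C.index (Dvd.intro_left (Z.relIndex U * U.relIndex C) (by rw [mul_assoc, e1]))
      fun h1 => hCne (Subgroup.index_eq_one.mp h1)
    have hb : U.relIndex C = 1 := by
      by_contra hne
      have hpos : U.relIndex C ≠ 0 := fun h0 => by simp [h0] at e1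
      have h9' : 3 * (2 * 3) ≤ Z.relIndex U * (U.relIndex C * C.index) :=
        Nat.mul_le_mul a3 (Nat.mul_le_mul (by omega) c3)
      omega
    exact le_antisymm (Subgroup.relIndex_eq_one.mp hb) hUC
  -- classes in `U` are fixed
  have hfixU : ∀ d ∈ U, d⁻¹ * X.act g d ∈ Z := by
    let Fx : Subgroup E :=
      { carrier := {d | d⁻¹ * X.act g d ∈ Z}
        one_mem' := by simp
        mul_mem' := fun {a b} (ha : _ ∈ Z) (hb : _ ∈ Z) => by
          change (a * b)⁻¹ * X.act g (a * b) ∈ Z
          rw [map_mul, show (a * b)⁻¹ * (X.act g a * X.act g b) =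
            b⁻¹ * (a⁻¹ * X.act g a) * X.act g b by group, Subgroup.mem_center_iff.mp ha b⁻¹,
            mul_assoc]
          exact mul_mem ha hb
        inv_mem' := fun {a} (ha : _ ∈ Z) => by
          change a⁻¹⁻¹ * X.act g a⁻¹ ∈ Z
          rw [map_inv, inv_inv]
          convert (inferInstance : Z.Normal).conj_mem _ (inv_mem ha) a using 1
          group }
    have hle : U ≤ Fx := sup_le (fun c hc => by
        change c⁻¹ * X.act g c ∈ Z
        rw [X.center_fixed g hc, inv_mul_cancel]
        exact one_mem _) (Subgroup.zpowers_le.mpr hgu)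
    exact fun d hd => hle hd
  refine X.act_eq_one_of_mod_center fun v => ?_
  set d := v⁻¹ * X.act g v with hd
  have hdC : d ∈ C := by
    obtain ⟨c, hc, hgu'⟩ : ∃ c ∈ Z, X.act g u = u * c := ⟨_, hgu, (mul_inv_cancel_left _ _).symm⟩
    refine Subgroup.mem_centralizer_singleton_iff.mpr ?_
    have h1 := X.center_fixed g (X.comm u v)
    rw [map_mul, map_mul, map_mul, map_inv, map_inv, hgu'] at h1
    have h2 : u * X.act g v * u⁻¹ * (X.act g v)⁻¹ = u * v * u⁻¹ * v⁻¹ := by
      rw [← h1, show u * c * X.act g v * (u * c)⁻¹ * (X.act g v)⁻¹ =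
        u * (c * X.act g v * c⁻¹) * u⁻¹ * (X.act g v)⁻¹ by group,
        ← Subgroup.mem_center_iff.mp hc (X.act g v), mul_inv_cancel_right]
    have h3 : u * d * u⁻¹ * d⁻¹ = 1 := by
      have hcom : v * (u * d * u⁻¹ * d⁻¹) = (u * d * u⁻¹ * d⁻¹) * v :=
        Subgroup.mem_center_iff.mp (X.comm u d) v
      rw [show X.act g v = v * d from (mul_inv_cancel_left v _).symm] at h2
      have h4 : u * v * u⁻¹ * v⁻¹ * ((v * (u * d * u⁻¹ * d⁻¹)) * v⁻¹) = u * v * u⁻¹ * v⁻¹ := by
        refine Eq.trans ?_ h2
        group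
      rwa [hcom, mul_inv_cancel_right, mul_eq_left] at h4
    exact (mul_inv_eq_iff_eq_mul.mp (mul_inv_eq_one.mp h3)).symm
  rw [hCU] at hdC
  obtain ⟨a, ha⟩ := X.pR g
  have hp : X.act g v = v * d := (mul_inv_cancel_left v _).symm
  have hn : ∀ n : ℕ, ∃ c ∈ Z, X.act (g ^ n) v = v * d ^ n * c := by
    intro n
    induction n with
    | zero => exact ⟨1, one_mem _, by simp⟩
    | succ n ih =>
      obtain ⟨c, hc, hcn⟩ := ih
      obtain ⟨c', hc', hdn⟩ : ∃ c' ∈ Z, X.act g (d ^ n) = d ^ n * c' :=
        ⟨_, hfixU _ (pow_mem hdC n), (mul_inv_cancel_left _ _).symm⟩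
      refine ⟨c' * c, mul_mem hc' hc, ?_⟩
      rw [pow_succ' g, map_mul, MulAut.mul_apply, hcn, map_mul, map_mul, hp, hdn,
        X.center_fixed g hc, pow_succ' d]
      group
  obtain ⟨c, hc, hcn⟩ := hn (2 ^ a)
  rw [ha, map_one, MulAut.one_apply] at hcn
  have hdc : d ^ 2 ^ a ∈ Z := by
    have h5 : d ^ 2 ^ a * c = 1 := by
      refine mul_left_cancel (a := v) ?_
      rw [← mul_assoc, ← hcn, mul_one]
    rw [eq_inv_of_mul_eq_one_left h5]
    exact inv_mem hc
  clear hcn hn ha
  induction a with
  | zero => simpa using hdc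
  | succ a ih => exact ih (X.sqrt_mem (by rwa [← pow_add, ← two_mul, ← pow_succ']))

end Heis

end Cfsg.Agent.Lib.TwoLengthDer
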