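/-
The operator groups on nine classes, and the case of two commutator steps: one plane of order nine.
-/
import Cfsg.Agent.Lib.TwoLengthDer.Part

set_option autoImplicit false
set_option linter.style.haveILetI false
set_option linter.unusedSectionVars false

namespace Cfsg.Agent.Lib.TwoLengthDer

universe u v

/-- A `2`-group of order at most eight has derived group of order at most two. -/
theorem card_derived_le_two {G : Type u} [Group G] [Finite G] (hG : IsPGroup 2 G)
    (h : Nat.card G ≤ 8) : Nat.card (derivedSeries G 1) ≤ 2 := by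
  haveI : Fact (Nat.Prime 2) := ⟨Nat.prime_two⟩
  rw [derivedSeries_one]
  by_cases hcyc : IsCyclic G
  · have : IsMulCommutative G := inferInstance
    have hbot : commutator G = ⊥ := by
      rw [commutator_def, Subgroup.commutator_eq_bot_iff_le_centralizer]
      exact fun g _ => Subgroup.mem_centralizer_iff.mpr fun v _ => mul_comm' v g
    rw [hbot, Subgroup.card_bot]
    omega
  -- the Frattini subgroup has index at least four
  have hle := Cfsg.Agent.Lib.PGroups.commutator_le_frattini hG
  obtain ⟨n, hn⟩ := IsPGroup.iff_card.mp (hG.to_quotient (frattini G))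
  have hn2 : 2 ≤ n := by
    by_contra hlt
    refine hcyc ?_
    haveI : IsCyclic (G ⧸ frattini G) := by
      rcases (by omega : n = 0 ∨ n = 1) with rfl | rfl
      · haveI : Subsingleton (G ⧸ frattini G) :=
          (Nat.card_eq_one_iff_unique.mp (by simpa using hn)).1
        exact isCyclic_of_subsingleton
      · exact isCyclic_of_prime_card (p := 2) (by simpa using hn)
    exact Cfsg.Agent.Lib.PGroups.isCyclic_of_quotient_le_frattini (frattini G) le_rfl
  have h4 : 4 ≤ (frattini G).index := by
    rw [Subgroup.index, hn]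
    exact le_trans (by norm_num) (Nat.pow_le_pow_right (by norm_num) hn2)
  have h8 := Subgroup.card_mul_index (frattini G)
  have hc := Subgroup.card_le_of_le hle
  nlinarith

theorem derived_two_eq_bot {G : Type u} [Group G] [Finite G] (hG : IsPGroup 2 G)
    (h : Nat.card G ≤ 8) : derivedSeries G 2 = ⊥ := by
  have hc := card_derived_le_two hG h
  haveI : IsCyclic (derivedSeries G 1) := by
    have hpos : 0 < Nat.card (derivedSeries G 1) := Nat.card_pos
    rcases (by omega : Nat.card (derivedSeries G 1) = 1 ∨ Nat.card (derivedSeries G 1) = 2)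
      with h1 | h1
    · haveI := (Nat.card_eq_one_iff_unique.mp h1).1
      exact isCyclic_of_subsingleton
    · haveI : Fact (Nat.Prime 2) := ⟨Nat.prime_two⟩
      exact isCyclic_of_prime_card h1
  rw [derivedSeries_succ, Subgroup.commutator_eq_bot_iff_le_centralizer]
  exact fun a ha => Subgroup.mem_centralizer_iff.mpr fun b hb =>
    congrArg Subtype.val (mul_comm' (⟨b, hb⟩ : derivedSeries G 1) ⟨a, ha⟩)

variable {q : ℕ} {E R : Type u} [Group E] [Finite E] [Group R] [Finite R] {k : Type v} [Field k]
  [IsAlgClosed k] [CharP k 2] {W : Type u} [AddCommGroup W] [Module k W] [FiniteDimensional k W]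
  [Nontrivial W]

namespace Heis

variable (X : Heis q E R k W)
include X

theorem card_le_eight (hf : Function.Injective X.act) (h9 : (Subgroup.center E).index = 9) :
    Nat.card R ≤ 8 := by
  set Z := Subgroup.center E with hZ
  obtain ⟨u, hu⟩ : ∃ u, u ∉ Z := by
    by_contra hall
    push Not at hall
    rw [Subgroup.index_eq_one.mpr ((Subgroup.eq_top_iff' Z).mpr hall)] at h9
    norm_num at h9
  have hne : ∀ g : R, (QuotientGroup.mk (X.act g u) : E ⧸ Z) ≠ 1 := fun g h => hu (by
    have h1 := (QuotientGroup.eq_one_iff _).mp h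
    have h2 := X.center_fixed g⁻¹ h1
    rw [← MulAut.mul_apply, ← map_mul, inv_mul_cancel, map_one, MulAut.one_apply] at h2
    exact h2 ▸ h1)
  have hinj : Function.Injective
      (fun g : R => (⟨_, hne g⟩ : {c : E ⧸ Z // c ≠ 1})) := by
    intro a b hab
    have h1 := QuotientGroup.eq.mp (congrArg Subtype.val hab)
    refine inv_mul_eq_one.mp (hf ?_)
    rw [map_one]
    refine X.semiregular h9 hu ?_
    have h2 := X.center_fixed a⁻¹ h1
    have h3 : u⁻¹ * X.act (a⁻¹ * b) u = X.act a⁻¹ ((X.act a u)⁻¹ * X.act b u) := by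
      have ha : X.act a⁻¹ (X.act a u) = u := by
        rw [← MulAut.mul_apply, ← map_mul, inv_mul_cancel, map_one, MulAut.one_apply]
      rw [map_mul (X.act a⁻¹), map_inv (X.act a⁻¹), ha, map_mul, MulAut.mul_apply]
    rw [h3, h2]
    exact h1
  have hle := Nat.card_le_card_of_injective _ hinj
  haveI := Fintype.ofFinite (E ⧸ Z)
  classical
  have : Nat.card {c : E ⧸ Z // c ≠ 1} = 8 := by
    rw [Nat.card_eq_fintype_card, Fintype.card_subtype_compl, Fintype.card_subtype_eq,
      ← Nat.card_eq_fintype_card, ← Subgroup.index, h9]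
  omega

/-- An involution is the inversion when there are nine classes. -/
theorem inverts_of_nine (h9 : (Subgroup.center E).index = 9) {g : R} (hg : X.act (g * g) = 1)
    (hne : X.act g ≠ 1) (p : E) : p ∈ X.neg g := by
  by_contra hp
  refine hne (X.semiregular h9 (u := X.act g p * p) hp ?_)
  have h1 : X.act g (X.act g p) = p := by
    rw [← MulAut.mul_apply, ← map_mul, hg, MulAut.one_apply]
  rw [map_mul, h1, show (X.act g p * p)⁻¹ * (p * X.act g p) =
    p⁻¹ * (X.act g p)⁻¹ * p * X.act g p by group]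
  simpa using X.comm p⁻¹ (X.act g p)⁻¹

/-- Equal inversions act equally. -/
theorem act_eq_of_neg_top {g h : R} (hh : h * h = 1) (hg : ∀ p, p ∈ X.neg g)
    (hh' : ∀ p, p ∈ X.neg h) : X.act g = X.act h := by
  have h1 : X.act (h * g) = 1 := X.act_eq_one_of_mod_center fun p => by
    have e1 : X.act (h * g) p = X.act h (X.act g p) := by rw [map_mul, MulAut.mul_apply]
    obtain ⟨c, hc, hgp⟩ : ∃ c ∈ Subgroup.center E, X.act g p = c * p⁻¹ :=
      ⟨_, X.mem_neg.mp (hg p), (mul_inv_cancel_right _ _).symm⟩
    obtain ⟨d, hd, hhp⟩ : ∃ d ∈ Subgroup.center E, X.act h p = d * p⁻¹ :=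
      ⟨_, X.mem_neg.mp (hh' p), (mul_inv_cancel_right _ _).symm⟩
    rw [e1, hgp, map_mul, map_inv, hhp, X.center_fixed h hc, mul_inv_rev, inv_inv,
      Subgroup.mem_center_iff.mp (inv_mem hd) p |> fun e => (show p * d⁻¹ = d⁻¹ * p from e),
      ← mul_assoc c, show p⁻¹ * (c * d⁻¹ * p) = p⁻¹ * (c * d⁻¹) * p by group,
      Subgroup.mem_center_iff.mp (mul_mem hc (inv_mem hd)) p⁻¹, inv_mul_cancel_right]
    exact mul_mem hc (inv_mem hd)
  rw [map_mul, mul_eq_one_iff_inv_eq, ← map_inv, inv_eq_of_mul_eq_one_right hh] at h1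
  exact h1.symm

/-- **Two commutator steps.** -/
theorem two (hf : Function.Injective X.act) (hk : iterComm X.op 2 = ⊥) {z : R}
    (hz : z ∈ derivedSeries R 1) (hz1 : z ≠ 1) :
    q = 3 ∧ (Subgroup.center E).relIndex (X.neg z) = 9 ∧ z * z = 1 ∧
      (∀ g, ∀ p ∈ X.fix z, X.act g p = p) ∧
      (∀ z' ∈ derivedSeries R 1, z' = 1 ∨ z' = z) ∧
      ∀ g : R, g = 1 ∨ g = z ∨ g * g = z := by
  haveI : Fact (Nat.Prime 2) := ⟨Nat.prime_two⟩
  have hact : ∀ g : R, g ≠ 1 → X.act g ≠ 1 := fun g hg h => hg (hf (h.trans (map_one _).symm))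
  have hzx : ∀ x : R, ∀ z' ∈ derivedSeries R 1, (X.op z' - 1) * (X.op x - 1) = 0 := by
    intro x z' hz'
    refine LinearMap.ext fun v => ?_
    rw [Module.End.mul_apply, LinearMap.sub_apply, LinearMap.sub_apply, Module.End.one_apply,
      Module.End.one_apply, LinearMap.zero_apply,
      kills_top X.op hk hz' (sub_mem_iterComm X.op (j := 0)
        (by rw [derivedSeries_zero]; exact Subgroup.mem_top x) (v := v) Submodule.mem_top), sub_self]
  have hinvol : ∀ z' ∈ derivedSeries R 1, z' * z' = 1 := by
    intro z' hz'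
    refine hf ((X.act_eq_one_of_op ?_).trans (map_one _).symm)
    have h := kills_two X.op hk hz' hz'
    have h2 : X.op z' * X.op z' - 1 = (X.op z' - 1) * (X.op z' - 1) := by
      have hn : ∀ A : Module.End k W, -A = A := fun A => by
        rw [← neg_one_smul k, CharTwo.neg_eq, one_smul]
      have hd : X.op z' + X.op z' = 0 := by
        nth_rw 1 [← hn (X.op z')]
        exact neg_add_cancel _
      simp only [sub_eq_add_neg, hn, mul_add, add_mul, one_mul, mul_one]
      rw [add_assoc, ← add_assoc (X.op z') (X.op z') 1, hd, zero_add]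
    rw [h, sub_eq_zero] at h2
    rw [map_mul, h2]
  have hzz := hinvol z hz
  have huniq : ∀ z' ∈ derivedSeries R 1, z' = 1 ∨ z' = z := fun z' hz' => by
    by_cases h1 : z' = 1
    · exact Or.inl h1
    exact Or.inr (hf (X.act_eq_of_kills hzz (hinvol z' hz') (hact z hz1) (hact z' h1)
      (kills_two X.op hk hz hz') (kills_two X.op hk hz' hz)))
  have hcent : ∀ g, g * z = z * g := fun g => by
    rcases huniq _ ((derivedSeries_normal R 1).conj_mem z hz g) with h | h
    · exact absurd (conj_eq_one_iff.mp h) hz1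
    · exact mul_inv_eq_iff_eq_mul.mp h
  have hfixes : ∀ g, ∀ p ∈ X.fix z, X.act g p = p := fun g p hp =>
    X.fixes_of_kills hzz (hact z hz1) (hzx g z hz) hp
  have hinvs : ∀ t : R, t * t = 1 → t = 1 ∨ t = z := fun t ht => by
    by_cases h1 : t = 1
    · exact Or.inl h1
    refine Or.inr (hf (X.act_eq_of_kills hzz ht (hact z hz1) (hact t h1) (hzx t z hz) ?_))
    have h := hzx t z hz
    have hc : Commute (X.op t) (X.op z) := (show Commute t z from hcent t).map X.op
    rw [← h]
    simp only [sub_mul, mul_sub, mul_one, one_mul, hc.eq]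
    abel
  -- an element of order four
  obtain ⟨g, hg⟩ : ∃ g : R, g * g ≠ 1 := by
    by_contra hall
    push Not at hall
    haveI : IsMulCommutative R := ⟨⟨fun a b => by
      have h := hall (a * b)
      rw [mul_eq_one_iff_eq_inv, mul_inv_rev, inv_eq_of_mul_eq_one_right (hall a),
        inv_eq_of_mul_eq_one_right (hall b)] at h
      exact h⟩⟩
    refine hz1 ((Subgroup.mem_bot).mp ?_)
    have hbot : derivedSeries R 1 = ⊥ := by
      rw [derivedSeries_one, commutator_def, Subgroup.commutator_eq_bot_iff_le_centralizer]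
      exact fun g _ => Subgroup.mem_centralizer_iff.mpr fun v _ => mul_comm' v g
    exact hbot ▸ hz
  obtain ⟨i, -, hi⟩ := (Nat.dvd_prime_pow Nat.prime_two).mp
    (orderOf_dvd_of_pow_eq_one (X.pR g).choose_spec)
  have hi2 : 2 ≤ i := by
    by_contra hlt
    refine hg ?_
    rw [← pow_two, ← orderOf_dvd_iff_pow_eq_one, hi]
    exact pow_dvd_pow 2 (show i ≤ 1 by omega)
  set w := g ^ 2 ^ (i - 2) with hw
  have hww : w * w = z := by
    refine (hinvs (w * w) ?_).resolve_left fun h1 => ?_
    · rw [hw, ← pow_add, ← pow_add, show 2 ^ (i - 2) + 2 ^ (i - 2) + (2 ^ (i - 2) + 2 ^ (i - 2)) =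
        2 ^ i by rw [← two_mul, ← two_mul, ← pow_succ', ← pow_succ', show i - 2 + 1 + 1 = i by omega],
        ← hi, pow_orderOf_eq_one]
    · have h2 : orderOf g ∣ 2 ^ (i - 1) := orderOf_dvd_of_pow_eq_one (by
        rw [show i - 1 = i - 2 + 1 by omega, pow_succ, pow_mul, pow_two, ← hw, h1])
      rw [hi, Nat.pow_dvd_pow_iff_le_right (by norm_num)] at h2
      omega
  obtain ⟨hq, h9⟩ := X.plane_of_sq hww hzz (hact z hz1) (hzx w z hz)
  refine ⟨hq, h9, hzz, hfixes, huniq, fun a => ?_⟩
  -- the group is small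
  let P : Part X (MonoidHom.id R) :=
    { A := X.neg z
      inv := fun g p hp => by
        change X.act z (X.act g p) * X.act g p ∈ Subgroup.center E
        rw [← MulAut.mul_apply, ← map_mul, ← hcent g, map_mul, MulAut.mul_apply, ← map_mul (X.act g),
          X.center_fixed g hp]
        exact hp
      center_le := X.center_le_neg z
      nondeg := fun b hb h => X.neg_nondeg hzz hb h }
  let X₂ := P.heis X.pR ⊤ top_ne_bot (fun _ _ _ _ => Submodule.mem_top)
    (fun _ _ _ => Submodule.mem_top)
  haveI : Nontrivial (⊤ : Submodule k W) := Submodule.nontrivial_iff_ne_bot.mpr top_ne_bot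
  have hf₂ : Function.Injective X₂.act := by
    refine (injective_iff_map_eq_one _).mpr fun g hg => hf (MulEquiv.ext fun p => ?_)
    rw [map_one, MulAut.one_apply]
    obtain ⟨u, hu, v, hv, rfl⟩ := X.exists_decomp hzz p
    rw [map_mul, hfixes g u hu]
    congr 1
    exact congrArg Subtype.val (MulEquiv.congr_fun hg ⟨v, hv⟩)
  have h8 := X₂.card_le_eight hf₂ (P.center_index.trans h9)
  by_cases ha2 : a * a = 1
  · rcases hinvs a ha2 with h | h
    · exact Or.inl h
    · exact Or.inr (Or.inl h)
  refine Or.inr (Or.inr ((hinvs (a * a) ?_).resolve_left ha2))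
  obtain ⟨j, -, hj⟩ := (Nat.dvd_prime_pow Nat.prime_two).mp
    (orderOf_dvd_of_pow_eq_one (X.pR a).choose_spec)
  rcases Nat.lt_or_ge j 3 with hj3 | hj3
  · rw [show a * a * (a * a) = a ^ (2 ^ 2) by simp [pow_succ, mul_assoc], ← orderOf_dvd_iff_pow_eq_one, hj]
    exact pow_dvd_pow 2 (by omega)
  · exfalso
    have h81 : 8 ≤ orderOf a := by
      rw [hj]; exact le_trans (by norm_num) (Nat.pow_le_pow_right (by norm_num) hj3)
    have hle : orderOf a ≤ Nat.card R := Nat.le_of_dvd Nat.card_pos (orderOf_dvd_natCard a)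
    haveI : IsCyclic R := isCyclic_of_orderOf_eq_card a (by omega)
    refine hz1 ((Subgroup.mem_bot).mp ?_)
    have hbot : derivedSeries R 1 = ⊥ := by
      rw [derivedSeries_one, commutator_def, Subgroup.commutator_eq_bot_iff_le_centralizer]
      exact fun g _ => Subgroup.mem_centralizer_iff.mpr fun v _ => mul_comm' v g
    exact hbot ▸ hz

end Heis

end Cfsg.Agent.Lib.TwoLengthDer
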