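/-
At least three commutator steps: the last member of the derived series acts trivially.
-/
import Cfsg.Agent.Lib.TwoLengthDer.Two

set_option autoImplicit false
set_option linter.style.haveILetI false
set_option linter.unusedSectionVars false

namespace Cfsg.Agent.Lib.TwoLengthDer

universe u v

theorem mem_commutator_one {G : Type u} [Group G] (a b : G) :
    a * b * a⁻¹ * b⁻¹ ∈ derivedSeries G 1 := by
  rw [derivedSeries_one, commutator_def, ← commutatorElement_def]
  exact Subgroup.commutator_mem_commutator (Subgroup.mem_top a) (Subgroup.mem_top b)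

/-- A nontrivial normal subgroup of a finite `2`-group meets the centre. -/
theorem exists_central_mem {G : Type u} [Group G] [Finite G] (hG : IsPGroup 2 G) (N : Subgroup G)
    [N.Normal] (hN : N ≠ ⊥) : ∃ c ∈ N, c ≠ 1 ∧ ∀ g : G, g * c = c * g := by
  haveI : Fact (Nat.Prime 2) := ⟨Nat.prime_two⟩
  haveI : Nontrivial N := (Subgroup.nontrivial_iff_ne_bot N).mpr hN
  letI : MulAction G N := MulAction.compHom N (MulAut.conjNormal : G →* MulAut N)
  have h0 : (1 : N) ∈ MulAction.fixedPoints G N := fun g => map_one (MulAut.conjNormal g)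
  have hdvd : 2 ∣ Nat.card N := by
    obtain ⟨n, hc⟩ := IsPGroup.iff_card.mp (hG.to_subgroup N)
    rw [hc]
    refine dvd_pow_self 2 fun h => ?_
    rw [h, pow_zero] at hc
    exact Finite.one_lt_card.ne' hc
  obtain ⟨c, hc, hc1⟩ := hG.exists_fixed_point_of_prime_dvd_card_of_fixed_point N hdvd h0
  refine ⟨c, c.2, fun h => hc1 (Subtype.ext h.symm), fun g => ?_⟩
  have h := congrArg Subtype.val (hc g)
  change g * (c : G) * g⁻¹ = c at h
  exact mul_inv_eq_iff_eq_mul.mp h

variable {q : ℕ} {E R : Type u} [Group E] [Finite E] [Group R] [Finite R] {k : Type v} [Field k]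
  [IsAlgClosed k] [CharP k 2] {W : Type u} [AddCommGroup W] [Module k W] [FiniteDimensional k W]
  [Nontrivial W]

namespace Heis

variable (X : Heis q E R k W)
include X

/-- On nine classes a nonabelian operator group is a quaternion group. -/
theorem quaternion (hf : Function.Injective X.act) (h9 : (Subgroup.center E).index = 9) {z : R}
    (hz : z ∈ derivedSeries R 1) (hz1 : z ≠ 1) (hzz : z * z = 1) (g : R) :
    g = 1 ∨ g = z ∨ g * g = z := by
  haveI : Fact (Nat.Prime 2) := ⟨Nat.prime_two⟩
  have hact : ∀ a : R, a ≠ 1 → X.act a ≠ 1 := fun a ha h => ha (hf (h.trans (map_one _).symm))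
  have hinv : ∀ a : R, a * a = 1 → a = 1 ∨ a = z := fun a ha => by
    by_cases h1 : a = 1
    · exact Or.inl h1
    · exact Or.inr (hf (X.act_eq_of_neg_top hzz
        (X.inverts_of_nine h9 (by rw [ha, map_one]) (hact a h1))
        (X.inverts_of_nine h9 (by rw [hzz, map_one]) (hact z hz1))))
  by_cases hg2 : g * g = 1
  · rcases hinv g hg2 with h | h
    · exact Or.inl h
    · exact Or.inr (Or.inl h)
  refine Or.inr (Or.inr ((hinv (g * g) ?_).resolve_left hg2))
  obtain ⟨j, -, hj⟩ := (Nat.dvd_prime_pow Nat.prime_two).mp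
    (orderOf_dvd_of_pow_eq_one (X.pR g).choose_spec)
  rcases Nat.lt_or_ge j 3 with hj3 | hj3
  · rw [show g * g * (g * g) = g ^ (2 ^ 2) by simp [pow_succ, mul_assoc],
      ← orderOf_dvd_iff_pow_eq_one, hj]
    exact pow_dvd_pow 2 (by omega)
  · exfalso
    have h81 : 8 ≤ orderOf g := by
      rw [hj]; exact le_trans (by norm_num) (Nat.pow_le_pow_right (by norm_num) hj3)
    have hle : orderOf g ≤ Nat.card R := Nat.le_of_dvd Nat.card_pos (orderOf_dvd_natCard g)
    haveI : IsCyclic R := isCyclic_of_orderOf_eq_card g (by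
      have := X.card_le_eight hf h9
      omega)
    refine hz1 ((Subgroup.mem_bot).mp ?_)
    have hbot : derivedSeries R 1 = ⊥ := by
      rw [derivedSeries_one, commutator_def, Subgroup.commutator_eq_bot_iff_le_centralizer]
      exact fun g _ => Subgroup.mem_centralizer_iff.mpr fun v _ => mul_comm' v g
    exact hbot ▸ hz

/-- An operator trivial on an invariant subspace acts trivially. -/
theorem act_eq_one_on {U : Submodule k W} (hU : U ≠ ⊥) (hρ : ∀ p, ∀ v ∈ U, X.ρ p v ∈ U) {g : R}
    (hg : ∀ v ∈ U, X.op g v = v) : X.act g = 1 := by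
  refine MulEquiv.ext fun p => ?_
  rw [MulAut.one_apply]
  obtain ⟨v, hv, hv0⟩ := (Submodule.ne_bot_iff U).mp hU
  set a := p⁻¹ * X.act g p with ha
  have haU : ∀ w ∈ U, X.ρ a w = w := fun w hw => by
    have h : X.ρ (X.act g p) w = X.ρ p w := by
      have h1 := X.semi_apply g p w
      rw [hg w hw, hg _ (hρ p w hw)] at h1
      exact h1.symm
    rw [ha, map_mul, Module.End.mul_apply, h, ← Module.End.mul_apply, ← map_mul, inv_mul_cancel,
      map_one, Module.End.one_apply]
  have hc : a ∈ Subgroup.center E := Subgroup.mem_center_iff.mpr fun b => by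
    obtain ⟨t, ht, ht1⟩ := X.exists_swap a b
    refine (ht1 ?_).symm
    have h := LinearMap.congr_fun ht v
    rw [Module.End.mul_apply, LinearMap.smul_apply, Module.End.mul_apply, haU v hv,
      haU _ (hρ b v hv)] at h
    have hne : X.ρ b v ≠ 0 := fun h0 => hv0 (by
      have h1 := congrArg (X.ρ b⁻¹) h0
      rwa [← Module.End.mul_apply, ← map_mul, inv_mul_cancel, map_one, Module.End.one_apply,
        map_zero] at h1)
    exact (smul_left_injective k hne ((one_smul k _).trans h)).symm
  obtain ⟨t, ht⟩ := X.scalar a hc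
  have h := haU v hv
  rw [ht, LinearMap.smul_apply, Module.End.one_apply] at h
  have ht1 : t = 1 := smul_left_injective k hv0 (h.trans (one_smul k v).symm)
  have hone : a = 1 := X.inj (by rw [ht, ht1, one_smul, map_one])
  rw [ha, inv_mul_eq_one] at hone
  exact hone.symm

/-- One half of the final computation. -/
theorem exists_cube (g h : R) (hgh : Commute g h) (A B : Subgroup E)
    (hgA : ∀ p ∈ A, X.act g p = p) (hhB : ∀ p ∈ B, X.act h p = p)
    (hdec : ∀ p : E, ∃ b ∈ B, ∃ a ∈ A, b * a = p) (hg1 : X.act g ≠ 1)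
    (hg4 : X.op g ^ 4 = 1)
    (heq : ∀ v, (X.op g - 1) ((X.op g - 1) v) = 0 →
      (X.op h - 1) ((X.op h - 1) ((X.op h - 1) ((X.op g - 1) v))) = 0)
    (U : Submodule k W) (hU : U ≠ ⊥) (hρ : ∀ p, ∀ v ∈ U, X.ρ p v ∈ U)
    (hg : ∀ v ∈ U, X.op g v ∈ U) (hh : ∀ v ∈ U, X.op h v ∈ U) :
    ∃ U' : Submodule k W, U' ≤ U ∧ U' ≠ ⊥ ∧ (∀ p, ∀ v ∈ U', X.ρ p v ∈ U') ∧
      (∀ v ∈ U', X.op g v ∈ U') ∧ (∀ v ∈ U', X.op h v ∈ U') ∧
      ∀ v ∈ U', (X.op h - 1) ((X.op h - 1) ((X.op h - 1) v)) = 0 := by
  set a := X.op h - 1 with ha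
  set b := X.op g - 1 with hb
  set U' : Submodule k W := U ⊓ ⨅ p : E, LinearMap.ker ((a * (a * a)) * X.ρ p) with hU'
  have hmem : ∀ v, v ∈ U' ↔ v ∈ U ∧ ∀ p, a (a (a (X.ρ p v))) = 0 := fun v => by
    simp [hU', Submodule.mem_iInf]
  have hab : ∀ v, X.op g (a v) = a (X.op g v) := fun v => by
    simp only [ha, LinearMap.sub_apply, Module.End.one_apply, map_sub]
    rw [← Module.End.mul_apply, ← map_mul, hgh.eq, map_mul, Module.End.mul_apply]
  have hah : ∀ v, X.op h (a v) = a (X.op h v) := fun v => by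
    simp only [ha, LinearMap.sub_apply, Module.End.one_apply, map_sub]
  refine ⟨U', inf_le_left, ?_, fun p v hv => ?_, fun v hv => ?_, fun v hv => ?_, fun v hv => ?_⟩
  · -- a vector in the kernel of the square
    obtain ⟨v, hv, hbv, hbbv⟩ : ∃ v ∈ U, b v ≠ 0 ∧ b (b v) = 0 := by
      obtain ⟨v, hv, hv0⟩ : ∃ v ∈ U, b v ≠ 0 := by
        by_contra hall
        push Not at hall
        exact hg1 (X.act_eq_one_on hU hρ fun v hv => by
          have h0 := hall v hv
          rwa [hb, LinearMap.sub_apply, Module.End.one_apply, sub_eq_zero] at h0)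
      have hbU : ∀ w ∈ U, b w ∈ U := fun w hw => by
        rw [hb, LinearMap.sub_apply, Module.End.one_apply]; exact sub_mem (hg w hw) hw
      have hb4 : b (b (b (b v))) = 0 := by
        have hn : ∀ w : W, -w = w := fun w => by rw [← neg_one_smul k, CharTwo.neg_eq, one_smul]
        have h2 : ∀ w, b (b w) = X.op g (X.op g w) - w := fun w => by
          simp only [hb, LinearMap.sub_apply, Module.End.one_apply, map_sub]
          rw [← hn (X.op g w - w), neg_sub]
          abel
        rw [h2, h2, map_sub, map_sub]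
        have h4 := LinearMap.congr_fun hg4 v
        simp only [pow_succ, pow_zero, one_mul, Module.End.mul_apply, Module.End.one_apply] at h4
        rw [h4, ← hn (X.op g (X.op g v) - v), neg_sub, sub_self]
      by_cases h2 : b (b v) = 0
      · exact ⟨v, hv, hv0, h2⟩
      by_cases h3 : b (b (b v)) = 0
      · exact ⟨b v, hbU v hv, h2, h3⟩
      · exact ⟨b (b v), hbU _ (hbU v hv), h3, hb4⟩
    refine (Submodule.ne_bot_iff _).mpr ⟨b v, (hmem _).mpr ⟨?_, fun p => ?_⟩, hbv⟩
    · rw [hb, LinearMap.sub_apply, Module.End.one_apply]; exact sub_mem (hg v hv) hv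
    obtain ⟨pb, hpb, pa, hpa, rfl⟩ := hdec p
    have hbA : ∀ w, b (X.ρ pa w) = X.ρ pa (b w) := fun w => by
      simp only [hb, LinearMap.sub_apply, Module.End.one_apply, map_sub]
      rw [X.semi_apply, hgA pa hpa]
    have haB : ∀ w, a (X.ρ pb w) = X.ρ pb (a w) := fun w => by
      simp only [ha, LinearMap.sub_apply, Module.End.one_apply, map_sub]
      rw [X.semi_apply, hhB pb hpb]
    rw [map_mul, Module.End.mul_apply, haB, haB, haB, ← hbA,
      heq _ (by rw [hbA, hbA, hbbv, map_zero]), map_zero]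
  · obtain ⟨hv1, hv2⟩ := (hmem v).mp hv
    refine (hmem _).mpr ⟨hρ p v hv1, fun p' => ?_⟩
    rw [← Module.End.mul_apply (X.ρ p'), ← map_mul]
    exact hv2 _
  · obtain ⟨hv1, hv2⟩ := (hmem v).mp hv
    refine (hmem _).mpr ⟨hg v hv1, fun p => ?_⟩
    obtain ⟨p', rfl⟩ := (X.act g).surjective p
    rw [← X.semi_apply, ← hab, ← hab, ← hab, hv2, map_zero]
  · obtain ⟨hv1, hv2⟩ := (hmem v).mp hv
    refine (hmem _).mpr ⟨hh v hv1, fun p => ?_⟩
    obtain ⟨p', rfl⟩ := (X.act h).surjective p
    rw [← X.semi_apply, ← hah, ← hah, ← hah, hv2, map_zero]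
  · have h1 := ((hmem v).mp hv).2 1
    rwa [map_one, Module.End.one_apply] at h1

/-- The swapped pair of planes is impossible. -/
theorem no_swap_pair (hk : iterComm X.op 3 = ⊥) {t z ν ν' : R} {A B : Subgroup E}
    (hzD : z ∈ derivedSeries R 2) (hyD : ν' * ν⁻¹ ∈ derivedSeries R 1) (hcomm : Commute ν' ν)
    (hν : ν * ν = t) (hν' : ν' * ν' = t * z) (htt : t * t = 1) (htzz : t * z * (t * z) = 1)
    (hνA : ∀ p ∈ A, X.act ν p = p) (hνB : ∀ p ∈ B, X.act ν' p = p)
    (hdec : ∀ p : E, ∃ b ∈ B, ∃ a ∈ A, b * a = p) (hdec' : ∀ p : E, ∃ a ∈ A, ∃ b ∈ B, a * b = p)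
    (hν1 : X.act ν ≠ 1) (hν'1 : X.act ν' ≠ 1) (htz1 : X.act (t * z) ≠ 1)
    (hBfix : ∀ p ∈ B, X.act (t * z) p = p) : ∀ p ∈ B, X.act t p = p := by
  set a := X.op ν' - 1 with ha
  set b := X.op ν - 1 with hb
  have hneg : ∀ A : Module.End k W, -A = A := fun A => by
    rw [← neg_one_smul k, CharTwo.neg_eq, one_smul]
  have hdd : ∀ A : Module.End k W, A + A = 0 := fun A => by
    nth_rw 1 [← hneg A]; exact neg_add_cancel A
  have hA1 : X.op ν' = a + 1 := by rw [ha, sub_add_cancel]
  have hB1 : X.op ν = b + 1 := by rw [hb, sub_add_cancel]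
  have hba : b * a = a * b := by
    have h := (hcomm.map X.op).eq
    rw [hA1, hB1] at h
    simp only [add_mul, mul_add, one_mul, mul_one] at h
    refine (sub_eq_zero.mp ?_).symm
    calc a * b - b * a = (a * b + b + (a + 1)) - (b * a + a + (b + 1)) := by abel
      _ = 0 := by rw [h, sub_self]
  have hba' : ∀ x, b * (a * x) = a * (b * x) := fun x => by rw [← mul_assoc, hba, mul_assoc]
  have hsq : ∀ c : Module.End k W, (c + 1) * (c + 1) = c * c + 1 := fun c => by
    simp only [add_mul, mul_add, one_mul, mul_one]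
    rw [show c * c + c + (c + 1) = c * c + (c + c) + 1 by abel, hdd, add_zero]
  have ht : X.op t - 1 = b * b := by rw [← hν, map_mul, hB1, hsq, add_sub_cancel_right]
  have htz : X.op (t * z) - 1 = a * a := by rw [← hν', map_mul, hA1, hsq, add_sub_cancel_right]
  have hz : X.op z - 1 = a * a + b * b + b * b * (a * a) := by
    have h1 : X.op z = X.op t * X.op (t * z) := by
      rw [← map_mul, ← mul_assoc, htt, one_mul]
    rw [h1, show X.op t = b * b + 1 by rw [← ht, sub_add_cancel],
      show X.op (t * z) = a * a + 1 by rw [← htz, sub_add_cancel]]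
    simp only [add_mul, mul_add, one_mul, mul_one]
    abel
  have hb4 : b * (b * (b * b)) = 0 := by
    have h1 : X.op t * X.op t = 1 := by rw [← map_mul, htt, map_one]
    rw [show X.op t = b * b + 1 by rw [← ht, sub_add_cancel], hsq, add_eq_right] at h1
    rwa [← mul_assoc]
  have ha4 : a * (a * (a * a)) = 0 := by
    have h1 : X.op (t * z) * X.op (t * z) = 1 := by rw [← map_mul, htzz, map_one]
    rw [show X.op (t * z) = a * a + 1 by rw [← htz, sub_add_cancel], hsq, add_eq_right] at h1
    rwa [← mul_assoc]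
  have hmain : (X.op z - 1) * ((a + b) * b) = 0 := by
    have h := kills_from_bottom X.op hk hzD hyD (x := ν)
    have h1 : (X.op (ν' * ν⁻¹) - 1) * (X.op ν - 1) * X.op ν = (a + b) * b := by
      rw [mul_assoc, ← hb, show b * X.op ν = X.op ν * b by rw [hB1, add_mul, mul_add, one_mul,
        mul_one], ← mul_assoc, sub_mul, one_mul, ← map_mul, inv_mul_cancel_right, hA1, hB1,
        add_sub_add_right_eq_sub, sub_eq_add_neg, hneg]
    rw [← h1, ← mul_assoc, h, zero_mul]
  have hexp : a * (a * (a * b)) + a * (a * (b * b)) + a * (b * (b * b)) +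
      a * (a * (a * (b * (b * b)))) = 0 := by
    rw [← hmain, hz]
    simp only [add_mul, mul_add, mul_assoc, hba, hba', hb4, mul_zero]
    abel
  have hlast : a * (a * (a * (b * (b * b)))) = 0 := by
    have h := congrArg (fun x => x * (b * b)) hexp
    simp only [add_mul, zero_mul, mul_assoc, hb4, mul_zero, add_zero] at h
    exact h
  rw [hlast, add_zero] at hexp
  have happ : ∀ v, a (a (a (b v))) + a (a (b (b v))) + a (b (b (b v))) = 0 := fun v =>
    LinearMap.congr_fun hexp v
  have hcomm' : ∀ v, b (a v) = a (b v) := fun v => LinearMap.congr_fun hba v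
  have hν4 : X.op ν ^ 4 = 1 := by
    rw [← map_pow, show ν ^ 4 = (ν * ν) * (ν * ν) by simp [pow_succ, mul_assoc], hν, htt, map_one]
  have hν'4 : X.op ν' ^ 4 = 1 := by
    rw [← map_pow, show ν' ^ 4 = (ν' * ν') * (ν' * ν') by simp [pow_succ, mul_assoc], hν', htzz,
      map_one]
  obtain ⟨U₁, -, hU₁, hρ₁, hg₁, hh₁, ha3⟩ := X.exists_cube ν ν' hcomm.symm A B hνA hνB hdec hν1 hν4
    (fun v (hv : b (b v) = 0) => by
      change a (a (a (b v))) = 0
      have h := happ v
      simp only [hv, map_zero, add_zero] at h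
      exact h)
    ⊤ top_ne_bot (fun _ _ _ => Submodule.mem_top) (fun _ _ => Submodule.mem_top)
    (fun _ _ => Submodule.mem_top)
  obtain ⟨U₂, hU₂₁, hU₂, hρ₂, hh₂, hg₂, hb3⟩ := X.exists_cube ν' ν hcomm B A hνB hνA hdec' hν'1
    hν'4 (fun v (hv : a (a v) = 0) => by
      change b (b (b (a v))) = 0
      have h := happ v
      have h1 : a (a (b v)) = 0 := by simp only [← hcomm', hv, map_zero]
      have h2 : a (a (b (b v))) = 0 := by simp only [← hcomm', hv, map_zero]
      rw [h1, h2, map_zero, zero_add, zero_add] at h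
      simp only [hcomm']
      exact h)
    U₁ hU₁ hρ₁ hh₁ hg₁
  have hkill : ∀ v ∈ U₂, a (a (b (b v))) = 0 := fun v hv => by
    have h := happ v
    rw [show a (a (a (b v))) = b (a (a (a v))) by rw [hcomm', hcomm', hcomm'],
      ha3 v (hU₂₁ hv), map_zero, hb3 v hv, map_zero, zero_add, add_zero] at h
    exact h
  -- the contradiction on the final subspace
  let L : Subgroup R := Subgroup.closure {ν, ν'}
  have hL : ∀ g : R, g ∈ L → ∀ v ∈ U₂, X.op g v ∈ U₂ := by
    intro g hg
    induction hg using Subgroup.closure_induction with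
    | mem x hx =>
      rcases hx with rfl | rfl
      · exact hg₂
      · exact hh₂
    | one => intro v hv; rwa [map_one, Module.End.one_apply]
    | mul x y _ _ hx hy =>
      intro v hv
      rw [map_mul, Module.End.mul_apply]
      exact hx _ (hy v hv)
    | inv x _ hx =>
      have hpow : ∀ n : ℕ, ∀ v ∈ U₂, X.op (x ^ n) v ∈ U₂ := by
        intro n
        induction n with
        | zero => intro v hv; rwa [pow_zero, map_one, Module.End.one_apply]
        | succ n ih =>
          intro v hv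
          rw [pow_succ, map_mul, Module.End.mul_apply]
          exact ih _ (hx v hv)
      rw [inv_eq_of_mul_eq_one_right (b := x ^ (orderOf x - 1)) (by
        rw [← pow_succ', Nat.sub_add_cancel (orderOf_pos x), pow_orderOf_eq_one])]
      exact hpow _
  let P : Part X L.subtype :=
    { A := ⊤
      inv := fun _ _ _ => Subgroup.mem_top _
      center_le := le_top
      nondeg := fun a _ h => Subgroup.mem_center_iff.mpr fun g => (h g (Subgroup.mem_top g)).symm }
  let Y := P.heis (X.pR.to_subgroup L) U₂ hU₂ (fun a _ => hρ₂ a) (fun g => hL g g.2)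
  haveI : Nontrivial U₂ := Submodule.nontrivial_iff_ne_bot.mpr hU₂
  have hνL : ν ∈ L := Subgroup.subset_closure (Set.mem_insert _ _)
  have hν'L : ν' ∈ L := Subgroup.subset_closure (Set.mem_insert_of_mem _ rfl)
  have htL : t ∈ L := hν ▸ mul_mem hνL hνL
  have htzL : t * z ∈ L := hν' ▸ mul_mem hν'L hν'L
  intro p hp
  have h := Y.fixes_of_kills (z := ⟨t * z, htzL⟩) (x := ⟨t, htL⟩) (Subtype.ext htzz)
    (fun h1 => htz1 (MulEquiv.ext fun p' =>
      congrArg Subtype.val (MulEquiv.congr_fun h1 ⟨p', Subgroup.mem_top p'⟩)))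
    (LinearMap.ext fun v => Subtype.ext (by
      change X.op (t * z) (X.op t v - (v : W)) - (X.op t v - (v : W)) = 0
      have h1 := LinearMap.congr_fun ht (v : W)
      rw [LinearMap.sub_apply, Module.End.one_apply, Module.End.mul_apply] at h1
      rw [h1]
      have h2 := LinearMap.congr_fun htz (b (b (v : W)))
      rw [LinearMap.sub_apply, Module.End.one_apply, Module.End.mul_apply] at h2
      rw [h2, hkill v v.2]))
    (p := ⟨p, Subgroup.mem_top p⟩) (Subtype.ext (hBfix p hp))
  exact congrArg Subtype.val h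

end Heis

end Cfsg.Agent.Lib.TwoLengthDer
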