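/-
Elementary facts on finite `2`-groups with a distinguished central involution.
-/
import Cfsg.Agent.Lib.TwoLengthDer.Three

set_option autoImplicit false
set_option linter.style.haveILetI false

namespace Cfsg.Agent.Lib.TwoLengthDer

open scoped commutatorElement

universe u

variable {G : Type u} [Group G]

/-- An element moved only inside its central coset is centralised by the derived group. -/
theorem derived_le_centralizer {u : G} (h : ∀ g, g * u * g⁻¹ * u⁻¹ ∈ Subgroup.center G) :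
    derivedSeries G 1 ≤ Subgroup.centralizer {u} := by
  let f : G →* Subgroup.center G :=
    { toFun := fun g => ⟨g * u * g⁻¹ * u⁻¹, h g⟩
      map_one' := Subtype.ext (by simp)
      map_mul' := fun g g' => Subtype.ext (by
        have hc := Subgroup.mem_center_iff.mp (h g') g
        calc g * g' * u * (g * g')⁻¹ * u⁻¹
            = g * (g' * u * g'⁻¹ * u⁻¹) * (u * g⁻¹ * u⁻¹) := by group
          _ = (g' * u * g'⁻¹ * u⁻¹) * g * (u * g⁻¹ * u⁻¹) := by rw [hc]
          _ = (g' * u * g'⁻¹ * u⁻¹) * (g * u * g⁻¹ * u⁻¹) := by group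
          _ = (g * u * g⁻¹ * u⁻¹) * (g' * u * g'⁻¹ * u⁻¹) :=
            (Subgroup.mem_center_iff.mp (h g') _).symm) }
  rw [derivedSeries_one, commutator_def, Subgroup.commutator_le]
  intro a _ b _
  have h1 : f ⁅a, b⁆ = 1 := by
    rw [map_commutatorElement, commutatorElement_eq_one_iff_mul_comm]
    exact Subtype.ext (Subgroup.mem_center_iff.mp (f b).2 (f a : G))
  have h2 : ⁅a, b⁆ * u * ⁅a, b⁆⁻¹ * u⁻¹ = 1 := congrArg Subtype.val h1
  rw [Subgroup.mem_centralizer_singleton_iff]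
  exact mul_inv_eq_iff_eq_mul.mp (mul_inv_eq_one.mp h2)

/-- Moving `u` at most by `z`, read as a commutator condition. -/
theorem mem_center_of_moves {z u : G} (hz : ∀ g, g * z = z * g)
    (h : ∀ g, g * u * g⁻¹ = u ∨ g * u * g⁻¹ = u * z) (g : G) :
    g * u * g⁻¹ * u⁻¹ ∈ Subgroup.center G := by
  rcases h g with h | h
  · rw [h, mul_inv_cancel]; exact one_mem _
  · rw [h, hz u, mul_inv_cancel_right]; exact Subgroup.mem_center_iff.mpr hz

theorem derived_le_stab {z u : G} (hz : ∀ g, g * z = z * g)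
    (h : ∀ g, g * u * g⁻¹ = u ∨ g * u * g⁻¹ = u * z) :
    derivedSeries G 1 ≤ Subgroup.centralizer {u} :=
  derived_le_centralizer (mem_center_of_moves hz h)

variable [Finite G] {z : G} {S : Subgroup G} [S.Normal]

/-- A nonabelian normal subgroup inside the derived group with squares in `{1, z}` has a central
involution other than `z`. -/
theorem exists_central_involution (hG : IsPGroup 2 G) (hz : ∀ g, g * z = z * g)
    (hS : S ≤ derivedSeries G 1) (hsS : ∀ s ∈ S, s * s = 1 ∨ s * s = z)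
    (hne : ¬ S ≤ Subgroup.centralizer (S : Set G)) :
    ∃ t ∈ S, (∀ s ∈ S, t * s = s * t) ∧ t * t = 1 ∧ t ≠ 1 ∧ t ≠ z := by
  by_contra hcon
  push Not at hcon
  set C₀ : Subgroup G := S ⊓ Subgroup.centralizer (S : Set G) with hC₀
  haveI hn : C₀.Normal := Subgroup.normal_inf_normal S _
  haveI : (S.map (QuotientGroup.mk' C₀)).Normal :=
    Subgroup.Normal.map inferInstance _ (QuotientGroup.mk'_surjective C₀)
  have hne' : S.map (QuotientGroup.mk' C₀) ≠ ⊥ := by
    rw [Ne, Subgroup.map_eq_bot_iff, QuotientGroup.ker_mk']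
    exact fun hle => hne (hle.trans inf_le_right)
  obtain ⟨c, ⟨u, huS, rfl⟩, hu1, hucen⟩ := exists_central_mem (hG.to_quotient C₀) _ hne'
  have hu : u ∉ C₀ := fun h => hu1 ((QuotientGroup.eq_one_iff u).mpr h)
  have hd : ∀ g : G, g * u * g⁻¹ = u ∨ g * u * g⁻¹ = u * z := by
    intro g
    set d := g * u * g⁻¹ * u⁻¹ with hddef
    have hdC : d ∈ S ∧ ∀ s ∈ S, d * s = s * d := by
      have h : d ∈ C₀ := by
        rw [← QuotientGroup.eq_one_iff, hddef, QuotientGroup.mk_mul, QuotientGroup.mk_mul,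
          QuotientGroup.mk_mul, QuotientGroup.mk_inv, QuotientGroup.mk_inv]
        have h := hucen (g : G ⧸ C₀)
        change (g : G ⧸ C₀) * (u : G ⧸ C₀) = (u : G ⧸ C₀) * (g : G ⧸ C₀) at h
        rw [h, mul_inv_cancel_right, mul_inv_cancel]
      exact ⟨h.1, fun s hs => (Subgroup.mem_centralizer_iff.mp h.2 s hs).symm⟩
    have hdu : d * u = g * u * g⁻¹ := inv_mul_cancel_right _ _
    have hdd : d * d = 1 := by
      have h1 : (g * u * g⁻¹) * (g * u * g⁻¹) = u * u := by
        rw [show g * u * g⁻¹ * (g * u * g⁻¹) = g * (u * u) * g⁻¹ by group]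
        rcases hsS u huS with h | h
        · rw [h, mul_one, mul_inv_cancel]
        · rw [h, hz g, mul_inv_cancel_right]
      rw [← hdu, show d * u * (d * u) = d * (u * d) * u by group, ← hdC.2 u huS,
        show d * (d * u) * u = d * d * (u * u) by group, mul_eq_right] at h1
      exact h1
    by_cases hd1 : d = 1
    · exact Or.inl (by rw [← hdu, hd1, one_mul])
    · exact Or.inr (by rw [← hdu, hcon d hdC.1 hdC.2 hdd hd1, hz u])
  refine hu ⟨huS, Subgroup.mem_centralizer_iff.mpr fun s hs => ?_⟩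
  exact Subgroup.mem_centralizer_singleton_iff.mp (derived_le_stab hz hd (hS hs))

/-- The involution may be chosen fixed up to `z`. -/
theorem exists_fixed_mod (hG : IsPGroup 2 G) (hz : ∀ g, g * z = z * g) (hzz : z * z = 1)
    (h : ∃ t ∈ S, (∀ s ∈ S, t * s = s * t) ∧ t * t = 1 ∧ t ≠ 1 ∧ t ≠ z) :
    ∃ t ∈ S, (∀ s ∈ S, t * s = s * t) ∧ t * t = 1 ∧
      t ≠ 1 ∧ t ≠ z ∧ ∀ g, g * t * g⁻¹ = t ∨ g * t * g⁻¹ = t * z := by
  obtain ⟨t, htS, htc, htt, ht1, htz⟩ := h
  let Ω : Subgroup G :=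
    { carrier := {s | s ∈ S ∧ (∀ s' ∈ S, s * s' = s' * s) ∧ s * s = 1}
      one_mem' := ⟨one_mem _, fun s _ => by rw [one_mul, mul_one], one_mul _⟩
      mul_mem' := fun {a b} ha hb => ⟨mul_mem ha.1 hb.1, fun s hs =>
        ((show Commute a s from ha.2.1 s hs).mul_left (hb.2.1 s hs)).eq, by
        rw [mul_assoc, ← mul_assoc b, ← ha.2.1 b hb.1, mul_assoc a b b, hb.2.2, mul_one, ha.2.2]⟩
      inv_mem' := fun {a} ha => by rw [inv_eq_of_mul_eq_one_right ha.2.2]; exact ha }
  haveI : Ω.Normal := ⟨fun s hs g => ⟨Subgroup.Normal.conj_mem inferInstance s hs.1 g,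
    fun s' hs' => by
      have h := hs.2.1 _ (Subgroup.Normal.conj_mem inferInstance s' hs' g⁻¹)
      calc g * s * g⁻¹ * s' = g * (s * (g⁻¹ * s' * g⁻¹⁻¹)) * g⁻¹ := by group
        _ = g * (g⁻¹ * s' * g⁻¹⁻¹ * s) * g⁻¹ := by rw [h]
        _ = s' * (g * s * g⁻¹) := by group, by
    rw [show g * s * g⁻¹ * (g * s * g⁻¹) = g * (s * s) * g⁻¹ by group, hs.2.2, mul_one,
      mul_inv_cancel]⟩⟩
  haveI : (Subgroup.zpowers z).Normal := ⟨fun a ha g => by
    obtain ⟨i, rfl⟩ := Subgroup.mem_zpowers_iff.mp ha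
    rw [((show Commute g z from hz g).zpow_right i).eq, mul_inv_cancel_right]
    exact ha⟩
  set π := QuotientGroup.mk' (Subgroup.zpowers z)
  haveI : (Ω.map π).Normal := Subgroup.Normal.map inferInstance _ (QuotientGroup.mk'_surjective _)
  have hzpow : ∀ a ∈ Subgroup.zpowers z, a = 1 ∨ a = z := fun a ha => by
    obtain ⟨i, rfl⟩ := Subgroup.mem_zpowers_iff.mp ha
    rcases Int.even_or_odd' i with ⟨j, rfl | rfl⟩
    · left; rw [zpow_mul, zpow_two, hzz, one_zpow]
    · right; rw [zpow_add_one, zpow_mul, zpow_two, hzz, one_zpow, one_mul]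
  obtain ⟨c, ⟨t', ht', rfl⟩, hc1, hccen⟩ := exists_central_mem (hG.to_quotient _) (Ω.map π) (by
    rw [Ne, Subgroup.map_eq_bot_iff, QuotientGroup.ker_mk']
    intro hle
    rcases hzpow t (hle ⟨htS, htc, htt⟩) with h | h
    · exact ht1 h
    · exact htz h)
  refine ⟨t', ht'.1, ht'.2.1, ht'.2.2, fun h => hc1 (by rw [h, map_one]), fun h => hc1 (by
    rw [h]; exact (QuotientGroup.eq_one_iff z).mpr (Subgroup.mem_zpowers z)), fun g => ?_⟩
  have h := hccen (π g)
  rw [← map_mul, ← map_mul] at h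
  rcases hzpow _ (QuotientGroup.eq.mp h.symm) with h1 | h1
  · left
    rw [inv_mul_eq_one] at h1
    rw [← h1, mul_inv_cancel_right]
  · right
    rw [inv_mul_eq_iff_eq_mul] at h1
    rw [h1, mul_assoc t' g, hz g, ← mul_assoc, mul_inv_cancel_right]

end Cfsg.Agent.Lib.TwoLengthDer
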