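/-
A central inverting involution `z` and an involution `t` moved only inside `t⟨z⟩`.
-/
import Cfsg.Agent.Lib.TwoLengthDer.Grp

set_option autoImplicit false
set_option linter.style.haveILetI false
set_option linter.unusedSectionVars false

namespace Cfsg.Agent.Lib.TwoLengthDer

universe u v

variable {q : ℕ} {E R : Type u} [Group E] [Finite E] [Group R] [Finite R] {k : Type v} [Field k]
  [IsAlgClosed k] [CharP k 2] {W : Type u} [AddCommGroup W] [Module k W] [FiniteDimensional k W]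
  [Nontrivial W]

namespace Heis

variable (X : Heis q E R k W)

theorem act_act (g h : R) (p : E) : X.act g (X.act h p) = X.act (g * h) p := by
  rw [map_mul]; rfl

/-- The data. -/
structure Pair (z t : R) : Prop where
  cent : ∀ g, g * z = z * g
  zz : z * z = 1
  tt : t * t = 1
  z_ne : X.act z ≠ 1
  inv : ∀ p, p ∈ X.neg z
  conj : ∀ g, g * t * g⁻¹ = t ∨ g * t * g⁻¹ = t * z
  t_ne : X.act t ≠ 1
  tz_ne : X.act (t * z) ≠ 1

namespace Pair

variable {X} {z t : R} (P : X.Pair z t)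
include P

theorem tz_tz : t * z * (t * z) = 1 := by
  rw [mul_assoc, ← mul_assoc z, ← P.cent t, mul_assoc t z z, P.zz, mul_one, P.tt]

theorem fix_z {p : E} (hp : X.act z p = p) : p ∈ Subgroup.center E := X.inter hp (P.inv p)

theorem neg_le {p : E} (hp : p ∈ X.neg t) : p ∈ X.fix (t * z) := by
  obtain ⟨u, hu, v, hv, rfl⟩ := X.exists_decomp P.tz_tz p
  have hut : u ∈ X.neg t := by
    have h2 : X.act z u = X.act t u := by
      conv_rhs => rw [← X.mem_fix.mp hu, X.act_act, ← mul_assoc, P.tt, one_mul]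
    rw [X.mem_neg, ← h2]
    exact P.inv u
  have hvt : v ∈ X.neg t := by
    have h := mul_mem (inv_mem hut) hp
    rwa [inv_mul_cancel_left] at h
  obtain ⟨e, he, hev⟩ : ∃ e ∈ Subgroup.center E, X.act z v = e * v⁻¹ :=
    ⟨_, X.mem_neg.mp (P.inv v), (mul_inv_cancel_right _ _).symm⟩
  have h3 : X.act (t * z) v * v ∈ Subgroup.center E := hv
  rw [← X.act_act, hev, map_mul, map_inv, X.center_fixed t he] at h3
  have hc : X.act t v * v ∈ Subgroup.center E := X.mem_neg.mp hvt
  have h5 : (X.act t v)⁻¹ * v ∈ Subgroup.center E := by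
    simpa [mul_assoc] using mul_mem (inv_mem he) h3
  have h4 : v * v ∈ Subgroup.center E := by
    have h6 := mul_mem hc h5
    rwa [← mul_assoc, ← Subgroup.mem_center_iff.mp hc (X.act t v)⁻¹, inv_mul_cancel_left] at h6
  exact mul_mem hu (X.center_le_fix _ (X.sqrt_mem h4))

theorem dec (p : E) : ∃ a ∈ X.fix t, ∃ b ∈ X.fix (t * z), a * b = p := by
  obtain ⟨a, ha, b, hb, hab⟩ := X.exists_decomp P.tt p
  exact ⟨a, ha, b, P.neg_le hb, hab⟩

theorem comm {a b : E} (ha : a ∈ X.fix t) (hb : b ∈ X.fix (t * z)) : a * b = b * a := by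
  refine X.comm_fix_neg ha ?_
  obtain ⟨u, hu, v, hv, rfl⟩ := X.exists_decomp P.tt b
  have huc : u ∈ Subgroup.center E := by
    refine P.fix_z ?_
    have h1 : u ∈ X.fix (t * z) := by
      have h := mul_mem hb (inv_mem (P.neg_le hv))
      rwa [mul_inv_cancel_right] at h
    conv_lhs => rw [← X.mem_fix.mp hu, X.act_act, ← P.cent t]
    exact X.mem_fix.mp h1
  exact mul_mem (X.center_le_neg t huc) hv

theorem ext {g h : R} (hA : ∀ p ∈ X.fix t, X.act g p = X.act h p)
    (hB : ∀ p ∈ X.fix (t * z), X.act g p = X.act h p) : X.act g = X.act h :=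
  MulEquiv.ext fun p => by
    obtain ⟨a, ha, b, hb, rfl⟩ := P.dec p
    rw [map_mul, map_mul, hA a ha, hB b hb]

theorem not_fix_z : ¬ ∀ p ∈ X.fix t, X.act z p = p := fun h => P.tz_ne <| by
  rw [← map_one X.act]
  refine P.ext (fun p hp => ?_) fun p hp => ?_
  · rw [map_one, MulAut.one_apply]
    exact X.mem_fix.mp (X.center_le_fix (t * z) (P.fix_z (h p hp)))
  · rw [map_one, MulAut.one_apply]
    exact X.mem_fix.mp hp

theorem stab_tz {g : R} (hg : g * t = t * g) : g * (t * z) = t * z * g := by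
  rw [← mul_assoc, hg, mul_assoc, P.cent g, mul_assoc]

theorem stab_fix {g : R} (hg : g * t = t * g) {p : E} (hp : p ∈ X.fix t) :
    X.act g p ∈ X.fix t := by
  rw [X.mem_fix, X.act_act, ← hg, ← X.act_act, X.mem_fix.mp hp]

theorem stab_fix' {g : R} (hg : g * t = t * g) {p : E} (hp : p ∈ X.fix (t * z)) :
    X.act g p ∈ X.fix (t * z) := by
  rw [X.mem_fix, X.act_act, ← P.stab_tz hg, ← X.act_act, X.mem_fix.mp hp]

theorem swap_tz {x : R} (hx : x * t * x⁻¹ = t * z) : x * (t * z) * x⁻¹ = t := by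
  rw [← mul_assoc, mul_assoc (x * t) z, ← P.cent x⁻¹, ← mul_assoc, hx, mul_assoc, P.zz, mul_one]

theorem swap_inv {x : R} (hx : x * t * x⁻¹ = t * z) : x⁻¹ * t * x = t * z := by
  nth_rw 1 [← P.swap_tz hx]
  group

theorem swap_fix {x : R} (hx : x * t * x⁻¹ = t * z) {p : E} (hp : p ∈ X.fix t) :
    X.act x p ∈ X.fix (t * z) := by
  rw [X.mem_fix, X.act_act, ← mul_inv_eq_iff_eq_mul.mp hx, ← X.act_act, X.mem_fix.mp hp]

theorem swap_fix' {x : R} (hx : x * t * x⁻¹ = t * z) {p : E} (hp : p ∈ X.fix (t * z)) :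
    X.act x p ∈ X.fix t := by
  rw [X.mem_fix, X.act_act, ← mul_inv_eq_iff_eq_mul.mp (P.swap_tz hx), ← X.act_act,
    X.mem_fix.mp hp]

end Pair

end Heis

end Cfsg.Agent.Lib.TwoLengthDer
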