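/-
The stabiliser of `t` on the fixed space of `t`.
-/
import Cfsg.Agent.Lib.TwoLengthDer.Pair

set_option autoImplicit false
set_option linter.style.haveILetI false
set_option linter.unusedSectionVars false

namespace Cfsg.Agent.Lib.TwoLengthDer

universe u v

variable {q : ℕ} {E R : Type u} [Group E] [Finite E] [Group R] [Finite R] {k : Type v} [Field k]
  [IsAlgClosed k] [CharP k 2] {W : Type u} [AddCommGroup W] [Module k W] [FiniteDimensional k W]
  [Nontrivial W]

namespace Heis

variable (X : Heis q E R k W)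

/-- The elements centralising `t` and fixing its fixed space. -/
def fixer (t : R) : Subgroup R where
  carrier := {g | g * t = t * g ∧ ∀ p ∈ X.fix t, X.act g p = p}
  one_mem' := ⟨by rw [one_mul, mul_one], fun p _ => by rw [map_one, MulAut.one_apply]⟩
  mul_mem' {a b} ha hb := ⟨((show Commute a t from ha.1).mul_left hb.1).eq, fun p hp => by
    rw [← X.act_act, hb.2 p hp, ha.2 p hp]⟩
  inv_mem' {a} ha := ⟨(show Commute a t from ha.1).inv_left.eq, fun p hp => by
    conv_lhs => rw [← ha.2 p hp]
    rw [X.act_act, inv_mul_cancel, map_one, MulAut.one_apply]⟩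

theorem mem_fixer {t g : R} :
    g ∈ X.fixer t ↔ g * t = t * g ∧ ∀ p ∈ X.fix t, X.act g p = p := Iff.rfl

namespace Pair

variable {X} {z t : R} (P : X.Pair z t)
include P

/-- The fixed space of `t` as a part for a subgroup centralising `t`. -/
def part (S : Subgroup R) (hS : ∀ g ∈ S, g * t = t * g) : Part X S.subtype where
  A := X.fix t
  inv g _ hp := P.stab_fix (hS g g.2) hp
  center_le := X.center_le_fix t
  nondeg a ha h := X.fix_nondeg P.tt ha h

/-- Nine classes in the fixed space of `t`. -/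
theorem index_nine {n : ℕ} (hk : iterComm X.op (n + 3) = ⊥) (hz : z ∈ derivedSeries R (n + 2))
    (htS : t ∈ derivedSeries R (n + 1)) (htc : ∀ s ∈ derivedSeries R (n + 1), s * t = t * s) :
    (Subgroup.center E).relIndex (X.fix t) = 9 := by
  set S := derivedSeries R (n + 1) with hS
  let PP := P.part S htc
  let U : Submodule k W := LinearMap.range (X.op t - 1)
  have hU : U ≠ ⊥ := fun h => P.t_ne (X.act_eq_one_of_op
    (sub_eq_zero.mp (LinearMap.range_eq_bot.mp h)))
  haveI : Nontrivial U := Submodule.nontrivial_iff_ne_bot.mpr hU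
  let Y := PP.heis (X.pR.to_subgroup S) U hU
    (by
      rintro a ha _ ⟨v, rfl⟩
      refine ⟨X.ρ a v, ?_⟩
      rw [LinearMap.sub_apply, LinearMap.sub_apply, Module.End.one_apply, Module.End.one_apply,
        map_sub, X.semi_apply, X.mem_fix.mp ha])
    (by
      rintro g _ ⟨v, rfl⟩
      refine ⟨X.op (g : R) v, ?_⟩
      rw [LinearMap.sub_apply, LinearMap.sub_apply, Module.End.one_apply, Module.End.one_apply,
        map_sub]
      change X.op t (X.op (g : R) v) - _ = X.op (g : R) (X.op t v) - _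
      rw [← Module.End.mul_apply, ← map_mul, ← htc g g.2, map_mul, Module.End.mul_apply]
      rfl)
  have hkY : iterComm Y.op 2 = ⊥ := by
    rw [eq_bot_iff]
    refine Submodule.span_le.mpr ?_
    rintro _ ⟨d, hd, v, hv, rfl⟩
    have hdR : (d : R) ∈ derivedSeries R (n + 2) := by
      have h := derivedSeries_derived R (n + 1) 1
      rw [← h]
      exact ⟨d, hd, rfl⟩
    have hle : iterComm Y.op 1 ≤ LinearMap.ker (Y.op d - 1) := by
      refine Submodule.span_le.mpr ?_
      rintro _ ⟨s, -, v', -, rfl⟩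
      obtain ⟨w, hw⟩ := v'.2
      refine LinearMap.mem_ker.mpr (Subtype.ext ?_)
      change X.op (d : R) (X.op (s : R) (v' : W) - v') - (X.op (s : R) (v' : W) - v') = 0
      rw [← hw]
      have h := LinearMap.congr_fun (kills_three X.op hk hdR s.2 htS) w
      simp only [Module.End.mul_apply, LinearMap.sub_apply, Module.End.one_apply] at h ⊢
      rwa [LinearMap.zero_apply] at h
    rw [SetLike.mem_coe, Submodule.mem_bot]
    have h := hle hv
    rwa [LinearMap.mem_ker, LinearMap.sub_apply, Module.End.one_apply] at h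
  obtain ⟨zS, hzS, hzSv⟩ : ∃ zS ∈ derivedSeries S 1, (zS : R) = z := by
    have h := derivedSeries_derived R (n + 1) 1
    rw [← h] at hz
    obtain ⟨zS, hzS, hzSv⟩ := hz
    exact ⟨zS, hzS, hzSv⟩
  haveI := Y.nontrivial_inert
  have hYz : ∀ p : PP.A,
      ((Y.reduce.act (zS : _ ⧸ Y.act.ker) p : PP.A) : E) = X.act z p := fun p => by
    rw [Y.reduce_act, ← hzSv]; rfl
  obtain ⟨-, h9, -⟩ := Y.reduce.two Y.reduce_injective (Y.reduce_kills hkY)
    (z := (zS : _ ⧸ Y.act.ker))
    (by
      rw [← map_derivedSeries_eq (QuotientGroup.mk'_surjective Y.act.ker) 1]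
      exact ⟨zS, hzS, rfl⟩)
    (fun h => P.not_fix_z fun p hp => by
      have h1 := hYz ⟨p, hp⟩
      rw [h, map_one] at h1
      exact h1.symm)
  have htop : Y.reduce.neg (zS : _ ⧸ Y.act.ker) = ⊤ := eq_top_iff.mpr fun p _ =>
    PP.mem_center.mpr (by rw [Subgroup.coe_mul, hYz]; exact P.inv p)
  rw [htop, Subgroup.relIndex_top_right, PP.center_index] at h9
  exact h9

/-- The derived group centralises `t`. -/
theorem derived_le : derivedSeries R 1 ≤ Subgroup.centralizer {t} :=
  derived_le_stab P.cent P.conj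

/-- The stabiliser on nine classes. -/
theorem stab (h9 : (Subgroup.center E).relIndex (X.fix t) = 9) :
    (∀ w ∈ derivedSeries R 3, ∀ p ∈ X.fix t, X.act w p = p) ∧
      (X.fixer t).relIndex (Subgroup.centralizer {t}) ≤ 8 ∧
      (z ∈ derivedSeries R 2 → ∀ g, g * t = t * g → (∀ p ∈ X.fix t, X.act g p = p) ∨
        (∀ p ∈ X.fix t, X.act g p = X.act z p) ∨
        ∀ p ∈ X.fix t, X.act (g * g) p = X.act z p) := by
  set M : Subgroup R := Subgroup.centralizer {t} with hM
  have hMt : ∀ {g : R}, g ∈ M ↔ g * t = t * g := fun {g} =>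
    Subgroup.mem_centralizer_singleton_iff
  have hzM : z ∈ M := hMt.mpr (P.cent t).symm
  let PP := P.part M fun g hg => hMt.mp hg
  haveI : Nontrivial (⊤ : Submodule k W) := Submodule.nontrivial_iff_ne_bot.mpr top_ne_bot
  let Y := PP.heis (X.pR.to_subgroup M) ⊤ top_ne_bot (fun _ _ _ _ => Submodule.mem_top)
    (fun _ _ _ => Submodule.mem_top)
  haveI := Y.nontrivial_inert
  have h9Y : (Subgroup.center PP.A).index = 9 := PP.center_index.trans h9
  have h8 := Y.reduce.card_le_eight Y.reduce_injective h9Y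
  have hpR : IsPGroup 2 (M ⧸ Y.act.ker) := (X.pR.to_subgroup M).to_quotient _
  have hker : ∀ {g : M}, g ∈ Y.act.ker ↔ ∀ p ∈ X.fix t, X.act g p = p := fun {g} =>
    ⟨fun hg p hp => congrArg Subtype.val (MulEquiv.congr_fun (MonoidHom.mem_ker.mp hg) ⟨p, hp⟩),
      fun h => MonoidHom.mem_ker.mpr (MulEquiv.ext fun p => Subtype.ext (h p p.2))⟩
  have hMder : ∀ j, derivedSeries R (j + 1) ≤ (derivedSeries M j).map M.subtype := by
    intro j
    induction j with
    | zero =>
      rw [derivedSeries_zero (G := M), ← MonoidHom.range_eq_map, Subgroup.range_subtype]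
      exact P.derived_le
    | succ j ihj =>
      rw [derivedSeries_succ R (j + 1), derivedSeries_succ M j, Subgroup.map_commutator]
      exact Subgroup.commutator_mono ihj ihj
  have hder : ∀ {j : ℕ} {w : M}, w ∈ derivedSeries M j →
      (w : M ⧸ Y.act.ker) ∈ derivedSeries (M ⧸ Y.act.ker) j := fun {j w} hw => by
    rw [← map_derivedSeries_eq (QuotientGroup.mk'_surjective Y.act.ker) j]
    exact ⟨w, hw, rfl⟩
  refine ⟨fun w hw p hp => ?_, ?_, fun hz g hg => ?_⟩
  · obtain ⟨w', hw', rfl⟩ := hMder 2 hw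
    refine hker.mp ((QuotientGroup.eq_one_iff w').mp (Subgroup.mem_bot.mp ?_)) p hp
    rw [← derived_two_eq_bot hpR h8]
    exact hder hw'
  · refine le_trans (le_of_eq ?_) h8
    rw [Subgroup.relIndex, Subgroup.index]
    congr 2
    ext g
    rw [Subgroup.mem_subgroupOf, X.mem_fixer, hker]
    exact and_iff_right (hMt.mp g.2)
  · obtain ⟨w, hw, hwz⟩ := hMder 1 hz
    have hwz' : (w : R) = z := hwz
    have hwne : (w : M ⧸ Y.act.ker) ≠ 1 := fun h => P.not_fix_z fun p hp => by
      rw [← hwz']; exact hker.mp ((QuotientGroup.eq_one_iff w).mp h) p hp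
    have hww : (w : M ⧸ Y.act.ker) * w = 1 := by
      rw [← QuotientGroup.mk_mul, show w * w = 1 from Subtype.ext (by
        rw [Subgroup.coe_mul, hwz']; exact P.zz), QuotientGroup.mk_one]
    have hRA : ∀ a b : M, (a : M ⧸ Y.act.ker) = b →
        ∀ p ∈ X.fix t, X.act a p = X.act b p := by
      intro a b hab p hp
      have h1 := hker.mp (QuotientGroup.eq.mp hab) p hp
      rw [Subgroup.coe_mul, Subgroup.coe_inv, ← X.act_act] at h1
      have h2 := congrArg (X.act (a : R)) h1
      rw [X.act_act, mul_inv_cancel, map_one, MulAut.one_apply] at h2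
      exact h2.symm
    rcases Y.reduce.quaternion Y.reduce_injective h9Y (hder hw) hwne hww
        ((⟨g, hMt.mpr hg⟩ : M) : M ⧸ Y.act.ker) with h | h | h
    · refine Or.inl fun p hp => ?_
      have h1 := hRA _ 1 (h.trans (QuotientGroup.mk_one _).symm) p hp
      rwa [Subgroup.coe_one, map_one, MulAut.one_apply] at h1
    · refine Or.inr (Or.inl fun p hp => ?_)
      have h1 := hRA _ w h p hp
      rwa [hwz'] at h1
    · rw [← QuotientGroup.mk_mul] at h
      refine Or.inr (Or.inr fun p hp => ?_)
      have h1 := hRA _ w h p hp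
      rwa [Subgroup.coe_mul, hwz'] at h1

end Pair

end Heis

end Cfsg.Agent.Lib.TwoLengthDer
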