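/-
Exactly three commutator steps: the swapped pair gives a contradiction.
-/
import Cfsg.Agent.Lib.TwoLengthDer.Stab

set_option autoImplicit false
set_option linter.style.haveILetI false
set_option linter.unusedSectionVars false

namespace Cfsg.Agent.Lib.TwoLengthDer

open scoped commutatorElement

universe u v

variable {q : ℕ} {E R : Type u} [Group E] [Finite E] [Group R] [Finite R] {k : Type v} [Field k]
  [IsAlgClosed k] [CharP k 2] {W : Type u} [AddCommGroup W] [Module k W] [FiniteDimensional k W]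
  [Nontrivial W]

namespace Heis

variable {X : Heis q E R k W}

namespace Pair

variable {z t : R} (P : X.Pair z t)
include P

/-- The elements acting as `1` or `z` on the fixed space of `t`. -/
def signs : Subgroup R where
  carrier := {g | g * t = t * g ∧
    ((∀ p ∈ X.fix t, X.act g p = p) ∨ ∀ p ∈ X.fix t, X.act g p = X.act z p)}
  one_mem' := ⟨by rw [one_mul, mul_one], Or.inl fun p _ => by rw [map_one, MulAut.one_apply]⟩
  mul_mem' {g h} hg hh := ⟨((show Commute g t from hg.1).mul_left hh.1).eq, by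
    have hz : ∀ {p}, p ∈ X.fix t → X.act z p ∈ X.fix t := fun hp =>
      P.stab_fix (P.cent t).symm hp
    rcases hh.2 with hh | hh <;> rcases hg.2 with hg | hg
    · exact Or.inl fun p hp => by rw [← X.act_act, hh p hp, hg p hp]
    · exact Or.inr fun p hp => by rw [← X.act_act, hh p hp, hg p hp]
    · exact Or.inr fun p hp => by rw [← X.act_act, hh p hp, hg _ (hz hp)]
    · exact Or.inl fun p hp => by
        rw [← X.act_act, hh p hp, hg _ (hz hp), X.act_act, P.zz, map_one, MulAut.one_apply]⟩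
  inv_mem' {g} hg := ⟨(show Commute g t from hg.1).inv_left.eq, by
    rcases hg.2 with h | h
    · refine Or.inl fun p hp => ?_
      conv_lhs => rw [← h p hp]
      rw [X.act_act, inv_mul_cancel, map_one, MulAut.one_apply]
    · refine Or.inr fun p hp => ?_
      have h' := h _ (P.stab_fix (P.cent t).symm hp)
      rw [X.act_act z, P.zz, map_one, MulAut.one_apply] at h'
      conv_lhs => rw [← h']
      rw [X.act_act, inv_mul_cancel, map_one, MulAut.one_apply]⟩

/-- Some element fixes one side and is no sign on the other. -/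
theorem exists_one_sided (hz : z ∈ derivedSeries R 2)
    (h9 : (Subgroup.center E).relIndex (X.fix t) = 9) :
    ∃ ν, ν * t = t * ν ∧ (∀ p ∈ X.fix t, X.act ν p = p) ∧
      ¬ ((∀ p ∈ X.fix (t * z), X.act ν p = p) ∨
        ∀ p ∈ X.fix (t * z), X.act ν p = X.act z p) := by
  obtain ⟨μ, hμ, hμB⟩ : ∃ μ ∈ P.signs, ¬ ((∀ p ∈ X.fix (t * z), X.act μ p = p) ∨
      ∀ p ∈ X.fix (t * z), X.act μ p = X.act z p) := by
    by_contra hcon
    push Not at hcon
    set M : Subgroup R := Subgroup.centralizer {t} with hM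
    have hMt : ∀ {g : R}, g ∈ M ↔ g * t = t * g := fun {g} =>
      Subgroup.mem_centralizer_singleton_iff
    have hzM : z * t = t * z := (P.cent t).symm
    set NA := P.signs with hNA
    haveI : NA.Normal := ⟨fun g hg x => by
      have hconj : ∀ p, X.act (x * g * x⁻¹) p = X.act x (X.act g (X.act x⁻¹ p)) := fun p => by
        rw [X.act_act, X.act_act, mul_assoc]
      have hxx : ∀ p, X.act x (X.act x⁻¹ p) = p := fun p => by
        rw [X.act_act, mul_inv_cancel, map_one, MulAut.one_apply]
      have hzx : ∀ p, X.act x (X.act z (X.act x⁻¹ p)) = X.act z p := fun p => by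
        rw [X.act_act, X.act_act, P.cent x, mul_assoc, mul_inv_cancel, mul_one]
      rcases P.conj x with hx | hx
      · have hxM : x ∈ M := hMt.mpr (mul_inv_eq_iff_eq_mul.mp hx)
        refine ⟨hMt.mp (mul_mem (mul_mem hxM (hMt.mpr hg.1)) (inv_mem hxM)), ?_⟩
        have hin : ∀ {p}, p ∈ X.fix t → X.act x⁻¹ p ∈ X.fix t := fun hp =>
          P.stab_fix (hMt.mp (inv_mem hxM)) hp
        rcases hg.2 with h | h
        · exact Or.inl fun p hp => by rw [hconj, h _ (hin hp), hxx]
        · exact Or.inr fun p hp => by rw [hconj, h _ (hin hp), hzx]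
      · have hx' : x⁻¹ * t * x⁻¹⁻¹ = t * z := by rw [inv_inv]; exact P.swap_inv hx
        refine ⟨?_, ?_⟩
        · refine mul_inv_eq_iff_eq_mul.mp ?_
          calc x * g * x⁻¹ * t * (x * g * x⁻¹)⁻¹
              = x * (g * (x⁻¹ * t * x) * g⁻¹) * x⁻¹ := by group
            _ = x * (t * z) * x⁻¹ := by
              rw [P.swap_inv hx, P.stab_tz hg.1, mul_inv_cancel_right]
            _ = t := P.swap_tz hx
        · rcases hcon g hg with h | h
          · exact Or.inl fun p hp => by rw [hconj, h _ (P.swap_fix hx' hp), hxx]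
          · exact Or.inr fun p hp => by rw [hconj, h _ (P.swap_fix hx' hp), hzx]⟩
    have hNAM : NA ≤ M := fun g hg => hMt.mpr hg.1
    have hidxM : M.index ≤ 2 := by
      have hmem : ∀ c : R ⧸ M, c.out * t * c.out⁻¹ ∈ ({t, t * z} : Set R) := fun c =>
        P.conj c.out
      refine (Nat.card_le_card_of_injective
        (fun c : R ⧸ M => (⟨_, hmem c⟩ : ({t, t * z} : Set R))) fun a b h => ?_).trans ?_
      · have hab : a.out * t * a.out⁻¹ = b.out * t * b.out⁻¹ := congrArg Subtype.val h
        rw [← a.out_eq', ← b.out_eq']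
        refine QuotientGroup.eq.mpr (hMt.mpr ?_)
        calc a.out⁻¹ * b.out * t = a.out⁻¹ * (b.out * t * b.out⁻¹) * b.out := by group
          _ = a.out⁻¹ * (a.out * t * a.out⁻¹) * b.out := by rw [hab]
          _ = t * (a.out⁻¹ * b.out) := by group
      · rw [Nat.card_coe_set_eq]
        exact (Set.ncard_insert_le _ _).trans (by rw [Set.ncard_singleton])
    have hidx : NA.relIndex M ≤ 4 := by
      have hKN : X.fixer t ≤ NA := fun g hg => ⟨hg.1, Or.inl hg.2⟩
      have hlt : 2 ≤ (X.fixer t).relIndex NA := by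
        by_contra h
        have hne0 : (X.fixer t).relIndex NA ≠ 0 := by
          rw [Subgroup.relIndex]; exact Subgroup.index_ne_zero_of_finite
        have hle : NA ≤ X.fixer t := Subgroup.relIndex_eq_one.mp (by omega)
        exact P.not_fix_z (hle (show z ∈ NA from ⟨hzM, Or.inr fun _ _ => rfl⟩)).2
      have h := Subgroup.relIndex_mul_relIndex (X.fixer t) NA M hKN hNAM
      have h8 := (P.stab h9).2.1
      rw [← hM] at h8
      nlinarith
    have hQ : Nat.card (R ⧸ NA) ≤ 8 := by
      rw [← Subgroup.index_eq_card, ← Subgroup.relIndex_mul_index hNAM]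
      calc NA.relIndex M * M.index ≤ 4 * 2 := Nat.mul_le_mul hidx hidxM
        _ = 8 := rfl
    have hD := card_derived_le_two (X.pR.to_quotient NA) hQ
    have hstab : ∀ {a : R}, a ∈ derivedSeries R 1 → a * t = t * a := fun ha =>
      hMt.mp (P.derived_le ha)
    -- the derived group acts commutatively on the fixed space
    have hcomA : ∀ a ∈ derivedSeries R 1, ∀ b ∈ derivedSeries R 1, ∀ p ∈ X.fix t,
        X.act (a * b) p = X.act (b * a) p := by
      intro a ha b hb p hp
      have hN : ∀ g ∈ NA, ∀ x, x * t = t * x → ∀ p ∈ X.fix t,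
          X.act (g * x) p = X.act (x * g) p := by
        intro g hg x hx p hp
        rw [← X.act_act, ← X.act_act]
        rcases hg.2 with h | h
        · rw [h p hp, h _ (P.stab_fix hx hp)]
        · rw [h p hp, h _ (P.stab_fix hx hp), X.act_act, X.act_act, P.cent x]
      by_cases ha1 : a ∈ NA
      · exact hN a ha1 b (hstab hb) p hp
      by_cases hb1 : b ∈ NA
      · exact (hN b hb1 a (hstab ha) p hp).symm
      have hmap : ∀ g ∈ derivedSeries R 1, (g : R ⧸ NA) ∈ derivedSeries (R ⧸ NA) 1 :=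
        fun g hg => by
          rw [← map_derivedSeries_eq (QuotientGroup.mk'_surjective NA) 1]
          exact ⟨g, hg, rfl⟩
      have hne : ∀ c (hc : c ∈ derivedSeries R 1), c ∉ NA →
          (⟨_, hmap c hc⟩ : derivedSeries (R ⧸ NA) 1) ≠ 1 := fun c hc hcN h =>
        hcN ((QuotientGroup.eq_one_iff c).mp (congrArg Subtype.val h))
      haveI : Nontrivial (derivedSeries (R ⧸ NA) 1) := ⟨⟨_, _, hne a ha ha1⟩⟩
      have h2 : Nat.card (derivedSeries (R ⧸ NA) 1) = 2 :=
        le_antisymm hD Finite.one_lt_card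
      obtain ⟨y, -, huniq⟩ := (Nat.card_eq_two_iff' (1 : derivedSeries (R ⧸ NA) 1)).mp h2
      have hab : (a : R ⧸ NA) = b :=
        congrArg Subtype.val ((huniq _ (hne a ha ha1)).trans (huniq _ (hne b hb hb1)).symm)
      obtain ⟨g, hg, rfl⟩ : ∃ g ∈ NA, a * g = b :=
        ⟨a⁻¹ * b, QuotientGroup.eq.mp hab, mul_inv_cancel_left _ _⟩
      rw [mul_assoc a g a, ← X.act_act, ← X.act_act a (g * a), hN g hg a (hstab ha) p hp]
    refine P.not_fix_z fun p hp => ?_
    have hle : derivedSeries R 2 ≤ X.fixer t := by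
      rw [derivedSeries_succ, Subgroup.commutator_le]
      intro a ha b hb
      have hab : a * b * (b * a)⁻¹ = ⁅a, b⁆ := by rw [commutatorElement_def]; group
      have hinvst : (b * a)⁻¹ * t = t * (b * a)⁻¹ :=
        hMt.mp (inv_mem (hMt.mpr ((show Commute b t from hstab hb).mul_left (hstab ha)).eq))
      rw [X.mem_fixer, ← hab]
      refine ⟨((show Commute (a * b) t from
        ((show Commute a t from hstab ha).mul_left (hstab hb))).mul_left hinvst).eq,
        fun p hp => ?_⟩
      rw [← X.act_act, hcomA a ha b hb _ (P.stab_fix hinvst hp), X.act_act, mul_inv_cancel,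
        map_one, MulAut.one_apply]
    exact (hle hz).2 p hp
  rcases hμ.2 with h | h
  · exact ⟨μ, hμ.1, h, hμB⟩
  refine ⟨μ * (t * z), ?_, fun p hp => ?_, fun hh => hμB ?_⟩
  · exact ((show Commute μ t from hμ.1).mul_left
      ((Commute.refl t).mul_left (P.cent t).symm)).eq
  · have hzp := P.stab_fix (P.cent t).symm hp
    rw [← X.act_act, ← X.act_act t, X.mem_fix.mp hzp, h _ hzp, X.act_act, P.zz, map_one,
      MulAut.one_apply]
  · have e : ∀ p ∈ X.fix (t * z), X.act (μ * (t * z)) p = X.act μ p := fun p hp => by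
      rw [← X.act_act, X.mem_fix.mp hp]
    exact hh.imp (fun h1 p hp => (e p hp).symm.trans (h1 p hp))
      fun h1 p hp => (e p hp).symm.trans (h1 p hp)

/-- Three steps are impossible with a swapped pair. -/
theorem false_three (hf : Function.Injective X.act) (hk : iterComm X.op 3 = ⊥)
    (hz : z ∈ derivedSeries R 2) (h9 : (Subgroup.center E).relIndex (X.fix t) = 9)
    (hswap : ∃ x, x * t * x⁻¹ = t * z) : False := by
  obtain ⟨x₀, hx₀⟩ := hswap
  obtain ⟨ν, hνM, hνA, hνB⟩ := P.exists_one_sided hz h9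
  have hx₀' : x₀⁻¹ * t * x₀⁻¹⁻¹ = t * z := by rw [inv_inv]; exact P.swap_inv hx₀
  set ν' := x₀ * ν * x₀⁻¹ with hν'def
  have hν'conj : ∀ p, X.act ν' p = X.act x₀ (X.act ν (X.act x₀⁻¹ p)) := fun p => by
    rw [hν'def, X.act_act, X.act_act, mul_assoc]
  have hν'B : ∀ p ∈ X.fix (t * z), X.act ν' p = p := fun p hp => by
    rw [hν'conj, hνA _ (P.swap_fix' hx₀' hp), X.act_act, mul_inv_cancel, map_one,
      MulAut.one_apply]
  have hν'M : ν' * t = t * ν' := by
    refine mul_inv_eq_iff_eq_mul.mp ?_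
    calc ν' * t * ν'⁻¹ = x₀ * (ν * (x₀⁻¹ * t * x₀) * ν⁻¹) * x₀⁻¹ := by rw [hν'def]; group
      _ = x₀ * (t * z) * x₀⁻¹ := by rw [P.swap_inv hx₀, P.stab_tz hνM, mul_inv_cancel_right]
      _ = t := P.swap_tz hx₀
  have hback : ∀ c : R, (∀ x, x * c = c * x) → (∀ p ∈ X.fix t, X.act ν' p = X.act c p) →
      ∀ p ∈ X.fix (t * z), X.act ν p = X.act c p := fun c hc h p hp => by
    have h1 := h _ (P.swap_fix' hx₀ hp)
    rw [hν'conj, X.act_act x₀⁻¹, inv_mul_cancel, map_one, MulAut.one_apply] at h1
    have h2 := congrArg (X.act x₀⁻¹) h1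
    simp only [X.act_act, mul_assoc] at h2
    rwa [inv_mul_cancel_left, ← hc x₀, inv_mul_cancel_left] at h2
  have hν'sq : ν' * ν' = t * z := hf <| P.ext
    (fun p hp => by
      rcases (P.stab h9).2.2 hz ν' hν'M with h | h | h
      · refine absurd (Or.inl fun p' hp' => ?_) hνB
        have h2 := hback 1 (fun x => by simp) (fun p hp => by
          rw [h p hp, map_one, MulAut.one_apply]) p' hp'
        rwa [map_one, MulAut.one_apply] at h2
      · exact absurd (Or.inr (hback z P.cent h)) hνB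
      · rw [h p hp, ← X.act_act t, X.mem_fix.mp (P.stab_fix (P.cent t).symm hp)])
    (fun p hp => by rw [← X.act_act ν', hν'B p hp, hν'B p hp, X.mem_fix.mp hp])
  have hνsq : ν * ν = t := by
    have h1 : ν * ν = x₀⁻¹ * (ν' * ν') * x₀ := by rw [hν'def]; group
    rw [h1, hν'sq, ← mul_assoc, mul_assoc (x₀⁻¹ * t) z, ← P.cent x₀, ← mul_assoc,
      P.swap_inv hx₀, mul_assoc, P.zz, mul_one]
  have hcomm : Commute ν' ν := hf <| P.ext
    (fun p hp => by
      rw [← X.act_act ν' ν, ← X.act_act ν ν', hνA p hp, hνA _ (P.stab_fix hν'M hp)])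
    (fun p hp => by
      rw [← X.act_act ν' ν, ← X.act_act ν ν', hν'B p hp, hν'B _ (P.stab_fix' hνM hp)])
  have hν1 : X.act ν ≠ 1 := fun h => hνB (Or.inl fun p _ => by rw [h]; rfl)
  have hν'1 : X.act ν' ≠ 1 := fun h => hν1 (by
    have e : ν = x₀⁻¹ * ν' * x₀ := by rw [hν'def]; group
    rw [e, map_mul, map_mul, h, mul_one, ← map_mul, inv_mul_cancel, map_one])
  have hyD : ν' * ν⁻¹ ∈ derivedSeries R 1 := mem_commutator_one x₀ ν
  have hfin := X.no_swap_pair hk hz hyD hcomm hνsq hν'sq P.tt P.tz_tz hνA hν'B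
    (fun p => by
      obtain ⟨a, ha, b, hb, rfl⟩ := P.dec p
      exact ⟨b, hb, a, ha, (P.comm ha hb).symm⟩)
    P.dec hν1 hν'1 P.tz_ne (fun p hp => X.mem_fix.mp hp)
  refine P.t_ne (MulEquiv.ext fun p => ?_)
  obtain ⟨a, ha, b, hb, rfl⟩ := P.dec p
  rw [map_mul, X.mem_fix.mp ha, hfin b hb, MulAut.one_apply]

end Pair

end Heis

end Cfsg.Agent.Lib.TwoLengthDer
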