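/-
At least three commutator steps: the last member of the derived series acts trivially.
-/
import Cfsg.Agent.Lib.TwoLengthDer.Swap

set_option autoImplicit false
set_option linter.style.haveILetI false
set_option linter.unusedSectionVars false

namespace Cfsg.Agent.Lib.TwoLengthDer

universe u v

variable {q : ℕ} {E R : Type u} [Group E] [Finite E] [Group R] [Finite R] {k : Type v} [Field k]
  [IsAlgClosed k] [CharP k 2] {W : Type u} [AddCommGroup W] [Module k W] [FiniteDimensional k W]
  [Nontrivial W]

namespace Heis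

variable (X : Heis q E R k W)
include X

theorem sq_sub_one (g : R) : X.op (g * g) - 1 = (X.op g - 1) * (X.op g - 1) := by
  have hneg : ∀ A : Module.End k W, -A = A := fun A => by
    rw [← neg_one_smul k, CharTwo.neg_eq, one_smul]
  have hdd : ∀ A : Module.End k W, A + A = 0 := fun A => by
    nth_rw 1 [← hneg A]; exact neg_add_cancel A
  simp only [sub_eq_add_neg, hneg, map_mul, add_mul, mul_add, one_mul, mul_one]
  rw [add_assoc (X.op g * X.op g), ← add_assoc (X.op g) (X.op g), hdd, zero_add]

/-- Squares in the penultimate member. -/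
theorem sq_mem (hf : Function.Injective X.act) {n : ℕ} (hk : iterComm X.op (n + 3) = ⊥) {z : R}
    (hz : z ∈ derivedSeries R (n + 2)) (hz1 : z ≠ 1) (hzz : z * z = 1)
    (hcent : ∀ g, g * z = z * g) (hnegtop : X.neg z = ⊤) {s : R}
    (hs : s ∈ derivedSeries R (n + 1)) : s * s = 1 ∨ s * s = z := by
  haveI : Fact (Nat.Prime 2) := ⟨Nat.prime_two⟩
  have hact : ∀ g : R, g ≠ 1 → X.act g ≠ 1 := fun g hg h => hg (hf (h.trans (map_one _).symm))
  let Kill : Subgroup R :=
    { carrier := {g | (X.op z - 1) * (X.op g - 1) = 0}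
      one_mem' := by simp
      mul_mem' := fun {g h} (hg : _ = _) (hh : _ = _) => by
        change (X.op z - 1) * (X.op (g * h) - 1) = 0
        have e : X.op (g * h) - 1 = (X.op g - 1) * X.op h + (X.op h - 1) := by
          rw [map_mul, sub_mul, one_mul]; abel
        rw [e, mul_add, ← mul_assoc, hg, hh, zero_mul, zero_add]
      inv_mem' := fun {g} (hg : _ = _) => by
        change (X.op z - 1) * (X.op g⁻¹ - 1) = 0
        have e : X.op g⁻¹ - 1 = -((X.op g - 1) * X.op g⁻¹) := by
          rw [sub_mul, one_mul, ← map_mul, mul_inv_cancel, map_one, neg_sub]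
        rw [e, mul_neg, ← mul_assoc, hg, zero_mul, neg_zero] }
  have hKillz : ∀ t ∈ Kill, t * t = 1 → t = 1 ∨ t = z := fun t ht htt => by
    by_cases h1 : t = 1
    · exact Or.inl h1
    refine Or.inr (hf (X.act_eq_of_kills hzz htt (hact z hz1) (hact t h1) ht ?_))
    have h : (X.op z - 1) * (X.op t - 1) = 0 := ht
    have hc : Commute (X.op t) (X.op z) := (show Commute t z from hcent t).map X.op
    rw [← h]
    simp only [sub_mul, mul_sub, mul_one, one_mul, hc.eq]
    abel
  have hsK : s * s ∈ Kill := by
    change (X.op z - 1) * (X.op (s * s) - 1) = 0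
    rw [X.sq_sub_one]
    exact kills_three X.op hk hz hs hs
  refine or_iff_not_imp_left.mpr fun hx1 => ?_
  set x := s * s with hx
  by_contra hxz
  obtain ⟨i, -, hi⟩ := (Nat.dvd_prime_pow Nat.prime_two).mp
    (orderOf_dvd_of_pow_eq_one (X.pR x).choose_spec)
  have hi2 : 2 ≤ i := by
    by_contra hlt
    have h2 : x * x = 1 := by
      rw [← pow_two, ← orderOf_dvd_iff_pow_eq_one, hi]
      exact pow_dvd_pow 2 (show i ≤ 1 by omega)
    rcases hKillz x hsK h2 with h | h
    · exact hx1 h
    · exact hxz h
  set w := x ^ 2 ^ (i - 2) with hw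
  have hwK : w ∈ Kill := pow_mem hsK _
  have hww : w * w = z := by
    refine (hKillz (w * w) (mul_mem hwK hwK) ?_).resolve_left fun h1 => ?_
    · rw [hw, ← pow_add, ← pow_add,
        show 2 ^ (i - 2) + 2 ^ (i - 2) + (2 ^ (i - 2) + 2 ^ (i - 2)) = 2 ^ i by
          rw [← two_mul, ← two_mul, ← pow_succ', ← pow_succ', show i - 2 + 1 + 1 = i by omega],
        ← hi, pow_orderOf_eq_one]
    · have h2 : orderOf x ∣ 2 ^ (i - 1) := orderOf_dvd_of_pow_eq_one (by
        rw [show i - 1 = i - 2 + 1 by omega, pow_succ, pow_mul, pow_two, ← hw, h1])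
      rw [hi, Nat.pow_dvd_pow_iff_le_right (by norm_num)] at h2
      omega
  obtain ⟨-, h9⟩ := X.plane_of_sq hww hzz (hact z hz1) hwK
  rw [hnegtop, Subgroup.relIndex_top_right] at h9
  refine hz1 ((Subgroup.mem_bot).mp ?_)
  rw [← derived_two_eq_bot X.pR (X.card_le_eight hf h9)]
  exact derivedSeries_antitone R (by omega) hz

/-- The inductive step. -/
theorem step (n : ℕ)
    (ih : ∀ (A : Type u) [Group A] [Finite A] (W' : Type u) [AddCommGroup W'] [Module k W']
      [FiniteDimensional k W'] [Nontrivial W'] (Y : Heis q A R k W'),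
      Nat.card A < Nat.card E → iterComm Y.op (n + 3) = ⊥ →
      ∀ z ∈ derivedSeries R (n + 2), Y.act z = 1)
    (hf : Function.Injective X.act) (hk : iterComm X.op (n + 3) = ⊥) :
    ∀ z ∈ derivedSeries R (n + 2), z = 1 := by
  haveI : Fact (Nat.Prime 2) := ⟨Nat.prime_two⟩
  intro z hz
  by_contra hz1
  have hact : ∀ g : R, g ≠ 1 → X.act g ≠ 1 := fun g hg h => hg (hf (h.trans (map_one _).symm))
  have hzne := hact z hz1
  have hinvol : ∀ z' ∈ derivedSeries R (n + 2), z' * z' = 1 := fun z' hz' =>
    hf ((X.act_eq_one_of_op (sub_eq_zero.mp (by rw [X.sq_sub_one,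
      kills_two X.op hk hz' hz']))).trans (map_one _).symm)
  have hzz := hinvol z hz
  have hcent : ∀ g, g * z = z * g := fun g => by
    have hz' := (derivedSeries_normal R _).conj_mem z hz g
    have h : g * z * g⁻¹ = z := hf (X.act_eq_of_kills hzz (hinvol _ hz') hzne
      (hact _ fun h1 => hz1 (conj_eq_one_iff.mp h1))
      (kills_two X.op hk hz hz') (kills_two X.op hk hz' hz))
    exact mul_inv_eq_iff_eq_mul.mp h
  -- invariant proper parts are fixed by `z`
  have hrestrict : ∀ (P : Part X (MonoidHom.id R)), P.A ≠ ⊤ → ∀ p ∈ P.A, X.act z p = p := by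
    intro P hP p hp
    haveI : Nontrivial (⊤ : Submodule k W) := Submodule.nontrivial_iff_ne_bot.mpr top_ne_bot
    let Y := P.heis X.pR ⊤ top_ne_bot (fun _ _ _ _ => Submodule.mem_top)
      (fun _ _ _ => Submodule.mem_top)
    have hkY : iterComm Y.op (n + 3) = ⊥ :=
      iterComm_restrict_eq_bot X.op Y.op (MonoidHom.id R) Function.surjective_id
        (⊤ : Submodule k W).subtype (Submodule.subtype_injective _) (fun _ _ => rfl) hk
    have hlt : Nat.card P.A < Nat.card E :=
      lt_of_le_of_ne (Subgroup.card_le_card_group P.A) fun h =>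
        hP (Subgroup.eq_top_of_card_eq P.A h)
    exact congrArg Subtype.val (MulEquiv.congr_fun (ih P.A _ Y hlt hkY z hz) ⟨p, hp⟩)
  have hnegtop : X.neg z = ⊤ := by
    by_contra hne
    refine hzne (MulEquiv.ext fun p => ?_)
    obtain ⟨u, hu, v, hv, rfl⟩ := X.exists_decomp hzz p
    rw [MulAut.one_apply, map_mul, X.mem_fix.mp hu, hrestrict
      { A := X.neg z
        inv := fun g p hp => by
          change X.act z (X.act g p) * X.act g p ∈ Subgroup.center E
          rw [X.act_act, ← hcent g, ← X.act_act, ← map_mul (X.act g), X.center_fixed g hp]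
          exact hp
        center_le := X.center_le_neg z
        nondeg := fun b hb h => X.neg_nondeg hzz hb h } hne v hv]
  have hinv : ∀ p, p ∈ X.neg z := fun p => hnegtop ▸ Subgroup.mem_top p
  -- the involution `t`
  set S := derivedSeries R (n + 1) with hS
  haveI : S.Normal := derivedSeries_normal R _
  have hne : ¬ S ≤ Subgroup.centralizer (S : Set R) := fun hle => by
    refine hz1 ((Subgroup.mem_bot).mp ?_)
    have hbot : derivedSeries R (n + 2) = ⊥ := by
      rw [derivedSeries_succ, Subgroup.commutator_eq_bot_iff_le_centralizer]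
      exact hle
    exact hbot ▸ hz
  obtain ⟨t, htS, htc, htt, ht1, htz, htR⟩ :=
    exists_fixed_mod (S := S) X.pR hcent hzz (exists_central_involution (S := S) X.pR hcent
      (derivedSeries_antitone R (show 1 ≤ n + 1 by omega))
      (fun s hs => X.sq_mem hf hk hz hz1 hzz hcent hnegtop hs) hne)
  have htz1 : t * z ≠ 1 := fun h => htz (by
    have h2 := congrArg (· * z) h
    simpa [mul_assoc, hzz] using h2)
  have P : X.Pair z t :=
    { cent := hcent, zz := hzz, tt := htt, z_ne := hzne, inv := hinv, conj := htR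
      t_ne := hact t ht1, tz_ne := hact _ htz1 }
  have hswap : ∃ x, x * t * x⁻¹ = t * z := by
    by_contra hall
    push Not at hall
    refine P.not_fix_z (hrestrict
      { A := X.fix t
        inv := fun g p hp =>
          P.stab_fix (mul_inv_eq_iff_eq_mul.mp ((htR g).resolve_right (hall g))) hp
        center_le := X.center_le_fix t
        nondeg := fun a ha h => X.fix_nondeg htt ha h } fun h => P.t_ne ?_)
    exact MulEquiv.ext fun p => by
      have h' : X.fix t = ⊤ := h
      rw [MulAut.one_apply]; exact X.mem_fix.mp (h'.symm ▸ Subgroup.mem_top p)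
  have h9 := P.index_nine hk hz htS (fun s hs => (htc s hs).symm)
  rcases Nat.eq_zero_or_pos n with hn | hn
  swap
  · exact P.not_fix_z fun p hp =>
      (P.stab h9).1 z (derivedSeries_antitone R (show 3 ≤ n + 2 by omega) hz) p hp
  subst hn
  exact P.false_three hf hk hz h9 hswap

/-- **At least three commutator steps.** -/
theorem top_trivial (n : ℕ) (hn : iterComm X.op (n + 3) = ⊥) :
    ∀ z ∈ derivedSeries R (n + 2), X.act z = 1 := by
  induction hc : Nat.card E using Nat.strong_induction_on generalizing E R W with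
  | _ m ih =>
  subst hc
  haveI := X.nontrivial_inert
  intro z hz
  have h := X.reduce.step n (fun A _ _ W' _ _ _ _ Y hlt hkY => ih _ hlt Y hkY rfl)
    X.reduce_injective (X.reduce_kills hn) (z : R ⧸ X.act.ker)
    (by
      rw [← map_derivedSeries_eq (QuotientGroup.mk'_surjective X.act.ker) (n + 2)]
      exact ⟨z, hz, rfl⟩)
  exact (QuotientGroup.eq_one_iff z).mp h

end Heis

end Cfsg.Agent.Lib.TwoLengthDer
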