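/-
At one weight: the last member of the derived series acts trivially modulo the radical or through
squares of plane elements from the member before it.
-/
import Cfsg.Agent.Lib.TwoLengthDer.Depth
import Cfsg.Agent.Lib.TwoLengthDer.Top

set_option autoImplicit false
set_option linter.style.haveILetI false
set_option linter.unusedSectionVars false

namespace Cfsg.Agent.Lib.TwoLengthDer

open Cfsg.Agent.Lib.FpfHeight Cfsg.Agent.Lib.TwoLengthExp
open scoped commutatorElement

universe u v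

/-- The system on the quotient by the kernel of an action. -/
theorem exists_heis_of_ker {q : ℕ} (hq : q.Prime) (hq2 : q ≠ 2) {P Rg : Type u} [Group P] [Finite P]
    [Group Rg] [Finite Rg] {k : Type v} [Field k] {W : Type u} [AddCommGroup W] [Module k W]
    (ρ₂ : P →* Module.End k W) (op : Rg →* Module.End k W) (σ : Rg →* MulAut P)
    (hsemi : ∀ g p, op g * ρ₂ p = ρ₂ (σ g p) * op g)
    (hscal : ∀ p : P, (p : P ⧸ ρ₂.ker) ∈ Subgroup.center (P ⧸ ρ₂.ker) → ∃ a : k, ρ₂ p = a • 1)
    (hcomm : ∀ u v : P, ((u * v * u⁻¹ * v⁻¹ : P) : P ⧸ ρ₂.ker) ∈ Subgroup.center (P ⧸ ρ₂.ker))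
    (hpow : ∀ p : P, ((p ^ q : P) : P ⧸ ρ₂.ker) ∈ Subgroup.center (P ⧸ ρ₂.ker))
    (hP : IsPGroup q P) (hR : IsPGroup 2 Rg) :
    ∃ X : Heis q (P ⧸ ρ₂.ker) Rg k W, X.op = op ∧
      ∀ (g : Rg) (p : P), X.act g (p : P ⧸ ρ₂.ker) = ((σ g p : P) : P ⧸ ρ₂.ker) := by
  have hinv : ∀ g : Rg, ∀ p ∈ ρ₂.ker, σ g p ∈ ρ₂.ker := fun g p hp => by
    have h := hsemi g p
    rw [MonoidHom.mem_ker.mp hp, mul_one] at h
    have h2 := congrArg (· * op g⁻¹) h
    simp only [mul_assoc, ← map_mul op, mul_inv_cancel, map_one, mul_one] at h2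
    exact MonoidHom.mem_ker.mpr h2.symm
  let act : Rg →* MulAut (P ⧸ ρ₂.ker) :=
    { toFun := fun g => Basic.quotAut (σ g) ρ₂.ker (hinv g)
      map_one' := MulEquiv.ext fun c => by
        obtain ⟨p, rfl⟩ := QuotientGroup.mk_surjective c
        simp
      map_mul' := fun g g' => MulEquiv.ext fun c => by
        obtain ⟨p, rfl⟩ := QuotientGroup.mk_surjective c
        simp [MulAut.mul_apply] }
  exact ⟨
    { act := act
      ρ := QuotientGroup.lift ρ₂.ker ρ₂ le_rfl
      op := op
      inj := (injective_iff_map_eq_one _).mpr fun c hc => by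
        obtain ⟨p, rfl⟩ := QuotientGroup.mk_surjective c
        exact (QuotientGroup.eq_one_iff p).mpr (MonoidHom.mem_ker.mpr hc)
      semi := fun g c => by
        obtain ⟨p, rfl⟩ := QuotientGroup.mk_surjective c
        exact hsemi g p
      scalar := fun c hc => by
        obtain ⟨p, rfl⟩ := QuotientGroup.mk_surjective c
        exact hscal p hc
      comm := fun c c' => by
        obtain ⟨u, rfl⟩ := QuotientGroup.mk_surjective c
        obtain ⟨p, rfl⟩ := QuotientGroup.mk_surjective c'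
        exact hcomm u p
      prime := hq
      ne_two := hq2
      pow := fun c => by
        obtain ⟨p, rfl⟩ := QuotientGroup.mk_surjective c
        exact hpow p
      pE := hP.to_quotient _
      pR := hR }, rfl, fun _ _ => rfl⟩

section Abstract

variable {q : ℕ} {E R : Type u} [Group E] [Finite E] [Group R] [Finite R] {k : Type v} [Field k]
  [IsAlgClosed k] [CharP k 2] {W : Type u} [AddCommGroup W] [Module k W] [FiniteDimensional k W]
  [Nontrivial W]

/-- Two steps, seen modulo the centre. -/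
theorem Heis.two_mod_center (X : Heis q E R k W) (hk : iterComm X.op 2 = ⊥) {z : R}
    (hz : z ∈ derivedSeries R 1) (hz1 : X.act z ≠ 1) :
    q = 3 ∧ (Subgroup.center E).relIndex (X.neg z) = 9 ∧
      (∀ z' ∈ derivedSeries R 1, X.act z' = 1 ∨ X.act z' = X.act z) ∧
      (∃ g : R, X.act (g * g) = X.act z ∧ ∀ e, X.act g e * e⁻¹ ∈ X.neg z) ∧
      ∀ g : R, (∀ h : R, X.act (g * h) = X.act (h * g)) ∨
        (X.act (g * g) = X.act z ∧ ∀ e, X.act g e * e⁻¹ ∈ X.neg z) := by
  haveI := X.nontrivial_inert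
  have hzR : (z : R ⧸ X.act.ker) ∈ derivedSeries (R ⧸ X.act.ker) 1 := by
    rw [← map_derivedSeries_eq (QuotientGroup.mk'_surjective X.act.ker) 1]
    exact ⟨z, hz, rfl⟩
  have hzne : (z : R ⧸ X.act.ker) ≠ 1 := fun h => hz1 ((QuotientGroup.eq_one_iff z).mp h)
  obtain ⟨hq, h9, hzz, hfix, huniq, htri⟩ :=
    X.reduce.two X.reduce_injective (X.reduce_kills hk) hzR hzne
  have hneg : X.reduce.neg (z : R ⧸ X.act.ker) = X.neg z := rfl
  have heq : ∀ {a b : R}, (a : R ⧸ X.act.ker) = b → X.act a = X.act b := fun {a b} h => by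
    rw [← X.reduce_act a, ← X.reduce_act b, h]
  have hzc : ∀ h : R, X.act (z * h) = X.act (h * z) := fun h => by
    have hmem : h * z * h⁻¹ ∈ derivedSeries R 1 := (derivedSeries_normal R 1).conj_mem z hz h
    have hmem' : ((h * z * h⁻¹ : R) : R ⧸ X.act.ker) ∈ derivedSeries (R ⧸ X.act.ker) 1 := by
      rw [← map_derivedSeries_eq (QuotientGroup.mk'_surjective X.act.ker) 1]
      exact ⟨_, hmem, rfl⟩
    rcases huniq _ hmem' with h1 | h1
    · refine absurd ?_ hz1
      have h2 := heq (h1.trans (QuotientGroup.mk_one _).symm)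
      rw [map_mul, map_mul, map_one, map_inv, mul_inv_eq_one, mul_eq_left] at h2
      exact h2
    · have h2 := heq h1
      rw [map_mul, map_mul, map_inv, mul_inv_eq_iff_eq_mul] at h2
      rw [map_mul, map_mul, h2]
  have hsq : ∀ g : R, (g : R ⧸ X.act.ker) * g = z →
      X.act (g * g) = X.act z ∧ ∀ e, X.act g e * e⁻¹ ∈ X.neg z := fun g h => by
    refine ⟨heq (by rw [QuotientGroup.mk_mul]; exact h), fun e => ?_⟩
    have hzzR : X.act (z * z) = 1 := by
      rw [← map_one X.act]
      exact heq (by rw [QuotientGroup.mk_mul, QuotientGroup.mk_one]; exact hzz)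
    obtain ⟨u, hu, v, hv, rfl⟩ := X.reduce.exists_decomp hzz e
    have hu' : X.act g u = u := hfix (g : R ⧸ X.act.ker) u hu
    rw [hneg] at hv
    have hgv : X.act g v ∈ X.neg z := by
      rw [X.mem_neg] at hv ⊢
      rw [← MulAut.mul_apply, ← map_mul, hzc g, map_mul, MulAut.mul_apply, ← map_mul (X.act g),
        X.center_fixed g hv]
      exact hv
    have hd : X.act g v * v⁻¹ ∈ X.neg z := mul_mem hgv (inv_mem hv)
    rw [map_mul, hu', mul_inv_rev, show u * X.act g v * (v⁻¹ * u⁻¹) =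
      (u * (X.act g v * v⁻¹) * u⁻¹ * (X.act g v * v⁻¹)⁻¹) * (X.act g v * v⁻¹) by group]
    exact mul_mem (X.center_le_neg z (X.comm _ _)) hd
  refine ⟨hq, hneg ▸ h9, fun z' hz' => ?_, ?_, fun g => ?_⟩
  · have hmem : (z' : R ⧸ X.act.ker) ∈ derivedSeries (R ⧸ X.act.ker) 1 := by
      rw [← map_derivedSeries_eq (QuotientGroup.mk'_surjective X.act.ker) 1]
      exact ⟨z', hz', rfl⟩
    rcases huniq _ hmem with h | h
    · exact Or.inl ((QuotientGroup.eq_one_iff z').mp h)
    · exact Or.inr (heq h)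
  · by_contra hcon
    push Not at hcon
    have hall : ∀ g : R, (g : R ⧸ X.act.ker) = 1 ∨ (g : R ⧸ X.act.ker) = z := fun g => by
      rcases htri (g : R ⧸ X.act.ker) with h | h | h
      · exact Or.inl h
      · exact Or.inr h
      · obtain ⟨e, he⟩ := hcon g (hsq g h).1
        exact absurd ((hsq g h).2 e) he
    have hle : derivedSeries R 1 ≤ X.act.ker := by
      rw [derivedSeries_one, commutator_def, Subgroup.commutator_le]
      intro a _ b _
      rw [← QuotientGroup.eq_one_iff, commutatorElement_def, QuotientGroup.mk_mul,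
        QuotientGroup.mk_mul, QuotientGroup.mk_mul, QuotientGroup.mk_inv, QuotientGroup.mk_inv]
      rcases hall a with ha | ha <;> rcases hall b with hb | hb <;> rw [ha, hb] <;> group
    exact hz1 (hle hz)
  · rcases htri (g : R ⧸ X.act.ker) with h | h | h
    · refine Or.inl fun a => ?_
      have h1 : X.act g = 1 := (QuotientGroup.eq_one_iff g).mp h
      rw [map_mul, map_mul, h1, one_mul, mul_one]
    · refine Or.inl fun a => ?_
      rw [map_mul, map_mul, heq h, ← map_mul, ← map_mul, hzc]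
    · exact Or.inr (hsq g h)

/-- The two steps read on an image `U` of the quotient by the centre. -/
theorem Heis.abstract_dichotomy (X : Heis q E R k W) {V : Type u} [CommGroup V] [Finite V]
    (φ : E →* V) (hφ : Function.Surjective φ) (hker : φ.ker = Subgroup.center E)
    {Γ : Type u} [Group Γ] [Finite Γ] [DistribMulAction Γ (Additive V)]
    (hfaith : ∀ g g' : Γ, (∀ u : Additive V, g • u = g' • u) → g = g') (θ : R →* Γ)
    (hθ : ∀ g e, θ g • Additive.ofMul (φ e) = Additive.ofMul (φ (X.act g e)))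
    {m : ℕ} (hm : 1 ≤ m) (hk : iterComm X.op m = ⊥) :
    (∀ z ∈ derivedSeries R (m - 1), θ z = 1) ∨
      (m = 2 ∧ (∀ a : R, (∀ b : R, θ a * θ b = θ b * θ a) ∨
          (IsPlane q (Additive V) (θ a) ∧ ∃ z ∈ derivedSeries R 1, θ z = θ a * θ a)) ∧
        ∀ z ∈ derivedSeries R 1, θ z = 1 ∨
          ∃ b : R, IsPlane q (Additive V) (θ b) ∧ θ z = θ b * θ b) := by
  have hsurj : ∀ u : Additive V, ∃ e, Additive.ofMul (φ e) = u := fun u => by
    obtain ⟨e, he⟩ := hφ (Additive.toMul u)
    exact ⟨e, by rw [he]; rfl⟩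
  have hback : ∀ g g' : R, X.act g = X.act g' → θ g = θ g' := fun g g' h =>
    hfaith _ _ fun u => by
      obtain ⟨e, rfl⟩ := hsurj u
      rw [hθ, hθ, h]
  have hone : ∀ g : R, X.act g = 1 → θ g = 1 := fun g h =>
    (hback g 1 (h.trans (map_one _).symm)).trans (map_one θ)
  rcases Nat.lt_trichotomy m 2 with hm2 | hm2 | hm2
  · refine Or.inl fun z hz => hone z (X.act_eq_one_of_op (LinearMap.ext fun v => ?_))
    obtain rfl : m = 1 := by omega
    rw [Module.End.one_apply]
    exact kills_top X.op (m := 0) hk hz (v := v) Submodule.mem_top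
  swap
  · obtain ⟨n, rfl⟩ : ∃ n, m = n + 3 := ⟨m - 3, by omega⟩
    exact Or.inl fun z hz => hone z (X.top_trivial n hk z hz)
  subst hm2
  by_cases htriv : ∀ g ∈ derivedSeries R 1, X.act g = 1
  · exact Or.inl fun z hz => hone z (htriv z hz)
  push Not at htriv
  obtain ⟨z₀, hz₀, hz₀ne⟩ := htriv
  obtain ⟨hq3, h9, huniq, ⟨g₀, hg₀, hmov₀⟩, htri⟩ := X.two_mod_center hk hz₀ hz₀ne
  have hplane : ∀ g : R, X.act (g * g) = X.act z₀ → (∀ e, X.act g e * e⁻¹ ∈ X.neg z₀) →
      IsPlane q (Additive V) (θ g) := by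
    intro g hgz hmov
    have hsub : plane (Additive V) (θ g) ≤ Subgroup.toAddSubgroup ((X.neg z₀).map φ) := by
      rintro x ⟨u, rfl⟩
      obtain ⟨c, rfl⟩ := hsurj u
      refine ⟨X.act g c * c⁻¹, hmov c, ?_⟩
      change φ (X.act g c * c⁻¹) =
        Additive.toMul (θ g • Additive.ofMul (φ c) - Additive.ofMul (φ c))
      rw [hθ, map_mul, map_inv, ← div_eq_mul_inv]
      rfl
    refine ⟨fun x hx => ?_, ?_, fun hbot => hz₀ne ?_⟩
    · obtain ⟨c, hc', hcx⟩ := hsub hx
      have hx' : x = Additive.ofMul (φ c) := congrArg Additive.ofMul hcx.symm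
      rw [hx', hθ, hθ, ← MulAut.mul_apply, ← map_mul, hgz]
      refine eq_neg_of_add_eq_zero_left (congrArg Additive.ofMul (?_ : φ _ * φ c = 1))
      rw [← map_mul, ← MonoidHom.mem_ker, hker]
      exact hc'
    · refine (Nat.card_le_card_of_injective _ (AddSubgroup.inclusion_injective hsub)).trans ?_
      have h := Subgroup.relIndex_ker (K := X.neg z₀) φ
      rw [hker, h9] at h
      exact le_of_eq ((Nat.card_congr Additive.toMul).trans
        (h.symm.trans (show 9 = q ^ 2 by rw [hq3]; norm_num)))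
    · refine X.act_eq_one_of_mod_center fun e => ?_
      have hfixall : ∀ u : Additive V, θ g • u = u := fun u =>
        sub_eq_zero.mp (AddSubgroup.mem_bot.mp (hbot ▸ sub_mem_plane _ u))
      rw [← hker, MonoidHom.mem_ker, map_mul, map_inv, inv_mul_eq_one]
      have h := hθ (g * g) e
      rw [map_mul, mul_smul, hfixall, hfixall, hgz] at h
      exact Additive.ofMul.injective h
  refine Or.inr ⟨rfl, fun a => ?_, fun z hz => ?_⟩
  · rcases htri a with h | ⟨h, hmov⟩
    · exact Or.inl fun b => by simpa only [map_mul] using hback _ _ (h b)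
    · exact Or.inr ⟨hplane a h hmov, z₀, hz₀, by rw [← map_mul]; exact hback _ _ h.symm⟩
  · rcases huniq z hz with h | h
    · exact Or.inl (hone z h)
    refine Or.inr ⟨g₀, hplane g₀ hg₀ hmov₀, ?_⟩
    rw [← map_mul]
    exact hback _ _ (h.trans hg₀.symm)

end Abstract

variable {H : Type u} [Group H] [Finite H] {k : Type v} [Field k] [IsAlgClosed k] [CharP k 2]
variable {M : Type u} [AddCommGroup M] [Module k M] [FiniteDimensional k M]

/-- **The dichotomy at a weight.** -/
theorem local_dichotomy (ρ : H →* Module.End k M) {d : ℕ} (hd : 2 ≤ d) (hD : DerHyp ρ d)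
    (T : Subgroup H) (hT : IsPGroup 2 T) (P Z : Subgroup H) [P.Normal] [Z.Normal]
    (hc : PlaneTwo.Central P Z) {q : ℕ} [Fact q.Prime] (hq : q ≠ 2) (hP : IsPGroup q P)
    (hPexp : ∀ p ∈ P, p ^ q ∈ Z)
    (lam : Z →* k) (w : M) (hw0 : w ≠ 0) (hw : ∀ z : Z, ρ (z : H) w = lam z • w) :
    derPart T (d - 1) ≤ stabWeight lam ∧
      ((∀ z : stabWeight lam, (z : H) ∈ derPart T (d - 1) → toImage hc lam z = 1) ∨
        (derPart T (d - 2) ≤ stabWeight lam ∧
          (∀ a : stabWeight lam, (a : H) ∈ derPart T (d - 2) →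
            (∀ b : stabWeight lam, (b : H) ∈ derPart T (d - 2) →
              toImage hc lam a * toImage hc lam b = toImage hc lam b * toImage hc lam a) ∨
            (IsPlane q (RadQuot hc lam) (toImage hc lam a) ∧
              ∃ z : stabWeight lam, (z : H) ∈ derPart T (d - 1) ∧
                toImage hc lam z = toImage hc lam a * toImage hc lam a)) ∧
          ∀ z : stabWeight lam, (z : H) ∈ derPart T (d - 1) → toImage hc lam z = 1 ∨
            ∃ b : stabWeight lam, (b : H) ∈ derPart T (d - 2) ∧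
              IsPlane q (RadQuot hc lam) (toImage hc lam b) ∧
              toImage hc lam z = toImage hc lam b * toImage hc lam b)) := by
  classical
  obtain ⟨f, hf, hstab, W₂, hWP, hWT, hW₂, hscal, hlam, hkill⟩ :=
    exists_weight_space ρ hD T hT P Z hc hq hP lam w hw0 hw
  refine ⟨(derPart_antitone T (by omega)).trans hstab, ?_⟩
  haveI : Nontrivial W₂ := Submodule.nontrivial_iff_ne_bot.mpr hW₂
  obtain ⟨v₀, hv₀, hv₀0⟩ := (Submodule.ne_bot_iff W₂).mp hW₂
  set R := PlaneTwo.radP hc lam with hR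
  set ρ₂ : P →* Module.End k W₂ := OddPower.resRep (ρ.comp P.subtype) W₂ hWP with hρ₂
  set K := ρ₂.ker with hK
  set Rg := derivedSeries T f
  set op : Rg →* Module.End k W₂ :=
    OddPower.resRep (ρ.comp (T.subtype.comp Rg.subtype)) W₂ hWT with hop
  have hcom2 : ∀ u p : P, ρ₂ (u * p * u⁻¹ * p⁻¹) = PlaneTwo.pair hc lam u p • 1 := fun u p =>
    LinearMap.ext fun v => Subtype.ext (hlam (PlaneTwo.com hc u p) v v.2)
  have hcenpre : ∀ p : P, (p : P ⧸ K) ∈ Subgroup.center (P ⧸ K) ↔ p ∈ R := by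
    intro p
    constructor
    · intro hp u
      have h1 : ρ₂ (u * p * u⁻¹ * p⁻¹) = 1 := by
        rw [← MonoidHom.mem_ker, ← hK, ← QuotientGroup.eq_one_iff, QuotientGroup.mk_mul,
          QuotientGroup.mk_mul, QuotientGroup.mk_mul, QuotientGroup.mk_inv, QuotientGroup.mk_inv,
          Subgroup.mem_center_iff.mp hp (u : P ⧸ K), mul_inv_cancel_right, mul_inv_cancel]
      rw [hcom2] at h1
      have h2 := congrArg Subtype.val (LinearMap.congr_fun h1 ⟨v₀, hv₀⟩)
      exact smul_left_injective k hv₀0 (h2.trans (one_smul k v₀).symm)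
    · intro hp
      refine Subgroup.mem_center_iff.mpr fun c => ?_
      obtain ⟨u, rfl⟩ := QuotientGroup.mk_surjective c
      rw [← mul_inv_eq_iff_eq_mul, ← mul_inv_eq_one, ← QuotientGroup.mk_mul,
        ← QuotientGroup.mk_inv, ← QuotientGroup.mk_mul, ← QuotientGroup.mk_inv,
        ← QuotientGroup.mk_mul, QuotientGroup.eq_one_iff, hK, MonoidHom.mem_ker, hcom2,
        hp u, one_smul]
  have hKR : K ≤ R := fun p hp => (hcenpre p).mp (by
    rw [(QuotientGroup.eq_one_iff p).mpr hp]; exact one_mem _)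
  -- the operators on `P ⧸ K`
  obtain ⟨X, hXop, hXact⟩ := exists_heis_of_ker (Fact.out : q.Prime) hq ρ₂ op
    ((MulAut.conjNormal (H := P)).comp (T.subtype.comp Rg.subtype))
    (fun g p => LinearMap.ext fun v => Subtype.ext (by
      change ρ ((g : T) : H) (ρ (p : H) v) =
        ρ ((MulAut.conjNormal (H := P) ((g : T) : H) p : P) : H) (ρ ((g : T) : H) v)
      rw [MulAut.conjNormal_apply, ← Module.End.mul_apply, ← Module.End.mul_apply, ← map_mul,
        ← map_mul, inv_mul_cancel_right]))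
    (fun p hp => by
      obtain ⟨a, ha⟩ := hscal p ((hcenpre p).mp hp)
      exact ⟨a, LinearMap.ext fun v => Subtype.ext (ha v v.2)⟩)
    (fun u p => (hcenpre _).mpr (PlaneTwo.mem_radP_of_mem hc lam (hc.comm _ u.2 _ p.2)))
    (fun p => (hcenpre _).mpr (PlaneTwo.mem_radP_of_mem hc lam
      (by rw [Subgroup.coe_pow]; exact hPexp p p.2)))
    hP (hT.to_subgroup Rg)
  -- back to the radical quotient
  let θ : Rg →* RadImage hc lam := (toImage hc lam).comp
    ((T.subtype.comp Rg.subtype).codRestrict (stabWeight lam) fun g => hstab ⟨g, g.2, rfl⟩)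
  let φ : P ⧸ K →* P ⧸ R := QuotientGroup.map K R (MonoidHom.id P) hKR
  have hφs : Function.Surjective φ := fun c => by
    obtain ⟨p, rfl⟩ := QuotientGroup.mk_surjective c
    exact ⟨(p : P ⧸ K), rfl⟩
  have hφker : φ.ker = Subgroup.center (P ⧸ K) := by
    ext c
    obtain ⟨p, rfl⟩ := QuotientGroup.mk_surjective c
    rw [MonoidHom.mem_ker, hcenpre]
    exact QuotientGroup.eq_one_iff p
  have hlift : ∀ (j : ℕ) (z : stabWeight lam), (z : H) ∈ derPart T (f + j) →
      ∃ g ∈ derivedSeries Rg j, θ g = toImage hc lam z := by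
    intro j z hz
    obtain ⟨y, hy, hyz⟩ := hz
    rw [← derivedSeries_derived T f j] at hy
    obtain ⟨g, hg, rfl⟩ := hy
    exact ⟨g, hg, congrArg (toImage hc lam) (Subtype.ext hyz)⟩
  have hab := X.abstract_dichotomy φ hφs hφker (Γ := RadImage hc lam)
    (fun g g' h => radImage_faithful hc lam h) θ (fun g c => by
      obtain ⟨p, rfl⟩ := QuotientGroup.mk_surjective c
      rw [hXact]
      rfl) (m := d - f) (by omega) (by rw [hXop]; exact hkill)
  rcases hab with h | ⟨hm, ha, hz'⟩
  · refine Or.inl fun z hz => ?_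
    obtain ⟨g, hg, hgz⟩ := hlift (d - f - 1) z (by rwa [show f + (d - f - 1) = d - 1 by omega])
    rw [← hgz]
    exact h g hg
  obtain rfl : f = d - 2 := by omega
  refine Or.inr ⟨hstab, fun a' ha' => ?_, fun z hz => ?_⟩
  · obtain ⟨g, -, hga⟩ := hlift 0 a' (by rwa [Nat.add_zero])
    rw [← hga]
    refine (ha g).imp (fun h b hb => ?_) ?_
    · obtain ⟨g', -, hgb⟩ := hlift 0 b (by rwa [Nat.add_zero])
      rw [← hgb]
      exact h g'
    · rintro ⟨hpl, z, hz1, hzg⟩
      refine ⟨hpl, ⟨((z : T) : H), hstab ⟨z, z.2, rfl⟩⟩, ?_, hzg⟩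
      refine ⟨z, ?_, rfl⟩
      have h := derivedSeries_derived T (d - 2) 1
      rw [show d - 1 = d - 2 + 1 by omega, SetLike.mem_coe, ← h]
      exact ⟨z, hz1, rfl⟩
  · obtain ⟨g, hg, hgz⟩ := hlift 1 z (by rwa [show d - 2 + 1 = d - 1 by omega])
    rw [← hgz]
    refine (hz' g hg).imp_right ?_
    rintro ⟨b, hb, hzb⟩
    exact ⟨⟨((b : T) : H), hstab ⟨b, b.2, rfl⟩⟩, ⟨b, b.2, rfl⟩, hb, hzb⟩

end Cfsg.Agent.Lib.TwoLengthDer
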