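/-
The last members of the derived series of the `2`-subgroups centralise the centres of the frame and
lie in `O_{2',2}`.
-/
import Cfsg.Agent.Lib.TwoLengthDer.Local
import Cfsg.Agent.Lib.TwoLengthExp.Frame

set_option autoImplicit false
set_option linter.style.haveILetI false
set_option linter.unusedSectionVars false

namespace Cfsg.Agent.Lib.TwoLengthDer

open Cfsg Cfsg.Agent.Lib Cfsg.Agent.Lib.FpfHeight Cfsg.Agent.Lib.TwoLengthExp Module
open scoped commutatorElement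

universe u v

variable {H : Type u} [Group H] [Finite H] {k : Type v} [Field k] [IsAlgClosed k] [CharP k 2]
variable {M : Type u} [AddCommGroup M] [Module k M] [FiniteDimensional k M]

theorem topDer_central (ρ : H →* Module.End k M) (hρ : Function.Injective ρ) {d : ℕ} (hd : 2 ≤ d)
    (hD : DerHyp ρ d) (F : Frame ρ) {T : Subgroup H} (hT : IsPGroup 2 T) {s : H}
    (hs : s ∈ derPart T (d - 1)) (i : Idx) : ∀ z ∈ F.Z i, s * z = z * s := by
  haveI := F.normalP i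
  haveI := F.normalZ i
  haveI : Fact (i : ℕ).Prime := ⟨i.2.1⟩
  intro z hz
  by_contra hne
  set c : F.Z i := MulAut.conjNormal s ⟨z, hz⟩ * (⟨z, hz⟩ : F.Z i)⁻¹ with hc
  have hc1 : c ≠ 1 := fun h => hne (by
    rw [hc, mul_inv_eq_one] at h
    exact mul_inv_eq_iff_eq_mul.mp (congrArg Subtype.val h))
  obtain ⟨w, lam, hw0, hw, hne1⟩ :=
    PlaneExponent.exists_weight ρ hρ (F.odd i) (F.abelian i) hc1
  refine hne1 ?_
  have hstab := (local_dichotomy ρ hd hD T hT (F.P i) (F.Z i) (F.central i) i.2.2 (F.isPGroup i)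
    (F.pow_mem i) lam w hw0 hw).1 hs
  rw [hc, map_mul, hstab ⟨z, hz⟩, ← map_mul, mul_inv_cancel, map_one]

/-- The two subgroups attached to a weight. -/
theorem exists_pair [Group.IsSolvable H] (ρ : H →* Module.End k M) {d : ℕ} (hd : 2 ≤ d)
    (hD : DerHyp ρ d) (H₁ : Subgroup H) [H₁.Normal] (P Z : Subgroup H) [P.Normal] [Z.Normal]
    (hc : PlaneTwo.Central P Z) {q : ℕ} [Fact q.Prime] (hq : q ≠ 2) (hP : IsPGroup q P)
    (hPexp : ∀ p ∈ P, p ^ q ∈ Z) (hH₁Z : ∀ g ∈ H₁, ∀ z ∈ Z, g * z = z * g)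
    (lam : Z →* k) (w : M) (hw0 : w ≠ 0) (hw : ∀ z : Z, ρ (z : H) w = lam z • w) :
    ∃ N O : Subgroup H₁, N.Normal ∧ O.Normal ∧
      (∀ h ∈ N, ∀ n : ℕ, Odd n → h ^ n = 1 → h ∈ O) ∧
      (∀ g ∈ O, ∀ a : ℕ, g ^ 2 ^ a = 1 →
        ∀ p : P, MulAut.conjNormal (g : H) p * p⁻¹ ∈ PlaneTwo.radP hc lam) ∧
      ∀ T : Subgroup H, IsPGroup 2 T → ∀ z ∈ derPart T (d - 1), ∀ h : z ∈ H₁,
        (⟨z, h⟩ : H₁) ∈ N := by
  classical
  have hH₁Γ : H₁ ≤ stabWeight lam := fun g hg z => congrArg lam (Subtype.ext (by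
    rw [MulAut.conjNormal_apply, hH₁Z g hg z z.2, mul_inv_cancel_right]))
  set R := PlaneTwo.radP hc lam with hR
  have hqS : ∀ c : RadQuot hc lam, q • c = 0 := fun c => by
    obtain ⟨p, rfl⟩ := radQuot_surjective hc lam c
    change Additive.ofMul ((p : P ⧸ R) ^ q) = Additive.ofMul 1
    rw [← QuotientGroup.mk_pow, (QuotientGroup.eq_one_iff _).mpr
      (PlaneTwo.mem_radP_of_mem hc lam (by rw [Subgroup.coe_pow]; exact hPexp p p.2))]
  obtain ⟨M', i1, i2, i3, L, hL, hrk⟩ := ScalarExt.exists_rep_rank q (RadQuot hc lam) hqS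
  set k' := AlgebraicClosure (ZMod q)
  have h2k : (2 : k') ≠ 0 := by
    intro h
    haveI : CharP k' q := charP_of_injective_algebraMap (algebraMap (ZMod q) k').injective q
    have h' := (CharP.cast_eq_zero_iff k' q 2).mp (by simpa using h)
    exact hq ((Nat.prime_dvd_prime_iff_eq Fact.out Nat.prime_two).mp h')
  let ρ' : RadImage hc lam →* Module.End k' M' :=
    (L.toMonoidHom.comp Basic.toEnd).comp (radAct hc lam).range.subtype
  have hρ' : Function.Injective ρ' := fun g g' h => radImage_faithful hc lam fun u => by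
    exact DFunLike.congr_fun (hL h) u
  set L₁ := (H₁.subgroupOf (stabWeight lam)).map (toImage hc lam) with hL₁
  haveI : L₁.Normal :=
    Subgroup.Normal.map inferInstance _ (radAct hc lam).rangeRestrict_surjective
  haveI : Group.IsSolvable (RadImage hc lam) :=
    Group.isSolvable_of_surjective (f := toImage hc lam) (radAct hc lam).rangeRestrict_surjective
  let ψ : H₁ →* L₁ := ((toImage hc lam).comp (Subgroup.inclusion hH₁Γ)).codRestrict L₁
    fun g => ⟨Subgroup.inclusion hH₁Γ g, g.2, rfl⟩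
  haveI : Fact (Nat.Prime 2) := ⟨Nat.prime_two⟩
  refine ⟨(pPrimePCore 2 L₁).comap ψ, (pPrimeCore 2 L₁).comap ψ,
    PSolvable.pPrimePCore_normal'.comap ψ, PSolvable.pPrimeCore_normal'.comap ψ, ?_, ?_, ?_⟩
  · intro h hh n hn hhn
    obtain ⟨a, ha⟩ := PSolvable.isPGroup_pCore ⟨_, hh⟩
    change ψ h ∈ pPrimeCore 2 L₁
    rw [← QuotientGroup.eq_one_iff]
    exact InvolutionConj.eq_one_of_two_pow (congrArg Subtype.val ha)
      (by rw [← QuotientGroup.mk_pow, ← map_pow, hhn, map_one]; rfl) hn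
  · intro g hg a hga
    have hcard : Odd (Nat.card (pPrimeCore 2 L₁)) :=
      Nat.coprime_two_right.mp PSolvable.card_pPrimeCore_coprime
    have h1 : (⟨ψ g, hg⟩ : pPrimeCore 2 L₁) ^ Nat.card (pPrimeCore 2 L₁) = 1 := pow_card_eq_one'
    have hψ1 : ψ g = 1 := InvolutionConj.eq_one_of_two_pow (a := a)
      (by rw [← map_pow, hga, map_one]) (congrArg Subtype.val h1) hcard
    have h2 : toImage hc lam (Subgroup.inclusion hH₁Γ g) = 1 := congrArg Subtype.val hψ1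
    intro p
    have h3 := (toImage_eq_one hc lam (g := Subgroup.inclusion hH₁Γ g)).mp h2 p
    exact h3
  · intro T hT z hz h
    obtain ⟨-, hdich⟩ := local_dichotomy ρ hd hD T hT P Z hc hq hP hPexp lam w hw0 hw
    change ψ ⟨z, h⟩ ∈ pPrimePCore 2 L₁
    have hψz : ((ψ ⟨z, h⟩ : L₁) : RadImage hc lam) = toImage hc lam ⟨z, hH₁Γ h⟩ := rfl
    have htriv : toImage hc lam ⟨z, hH₁Γ h⟩ = 1 → ψ ⟨z, h⟩ ∈ pPrimePCore 2 L₁ := fun h1 => by
      rw [show ψ ⟨z, h⟩ = 1 from Subtype.ext h1]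
      exact one_mem _
    rcases hdich with h1 | ⟨-, -, h2⟩
    · exact htriv (h1 _ hz)
    rcases h2 ⟨z, hH₁Γ h⟩ hz with h1 | ⟨b, -, hb, hzb⟩
    · exact htriv h1
    set y := toImage hc lam b with hy
    have hy2 : y ^ 2 = ((ψ ⟨z, h⟩ : L₁) : RadImage hc lam) := by rw [pow_two, hψz, hzb]
    have hy2L : y ^ 2 ∈ L₁ := hy2 ▸ (ψ ⟨z, h⟩).2
    set Ey : AddMonoid.End (RadQuot hc lam) := Basic.toEnd (y : MulAut (P ⧸ R)) with hEy
    have hEyu : ∀ u, Ey u = y • u := fun _ => rfl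
    have hρy : ρ' y = L Ey := rfl
    have hsq := PlaneSquare.square_mem h2k ρ' hρ' L₁ y hy2L ?_ ?_
    · rw [show ψ ⟨z, h⟩ = ⟨y ^ 2, hy2L⟩ from Subtype.ext hy2.symm]
      exact hsq
    · rw [hρy, ← map_one L, ← map_sub]
      refine hrk _ (plane (RadQuot hc lam) y) 2 (fun c => ?_) hb.card_le
      change Ey c - c ∈ _
      rw [hEyu]
      exact sub_mem_plane y c
    · rw [hρy, ← map_mul, ← map_one L, ← map_sub, ← map_add, ← map_mul]
      refine (congrArg L ?_).trans (map_zero L)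
      refine AddMonoidHom.ext fun c => ?_
      change Ey (Ey (Ey c - c)) + (Ey c - c) = 0
      rw [hEyu, hEyu, hEyu, hb.quad _ (sub_mem_plane y c), neg_add_cancel]

/-- The last members lie in `O_{2',2}`. -/
theorem topDer_mem_pPrimePCore [Group.IsSolvable H] (ρ : H →* Module.End k M)
    (hρ : Function.Injective ρ) {d : ℕ} (hd : 2 ≤ d) (hD : DerHyp ρ d) (F : Frame ρ)
    {T : Subgroup H} (hT : IsPGroup 2 T) {s : H} (hs : s ∈ derPart T (d - 1)) :
    s ∈ pPrimePCore 2 H := by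
  classical
  haveI : Fact (Nat.Prime 2) := ⟨Nat.prime_two⟩
  haveI hZn : ∀ i, (F.Z i).Normal := F.normalZ
  set H₁ := ⨅ i, Subgroup.centralizer (F.Z i : Set H) with hH₁
  haveI : H₁.Normal := Subgroup.normal_iInf_normal fun i => Subgroup.normal_centralizer
  have hH₁Z : ∀ i, ∀ g ∈ H₁, ∀ z ∈ F.Z i, g * z = z * g := fun i g hg z hz =>
    (Subgroup.mem_centralizer_iff.mp (Subgroup.mem_iInf.mp hg i) z hz).symm
  have hsH₁ : ∀ {T : Subgroup H}, IsPGroup 2 T → ∀ {s : H}, s ∈ derPart T (d - 1) → s ∈ H₁ :=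
    fun hT _ hs => Subgroup.mem_iInf.mpr fun i => Subgroup.mem_centralizer_iff.mpr fun z hz =>
      (topDer_central ρ hρ hd hD F hT hs i z hz).symm
  let J := Σ i : Idx, {lam : F.Z i →* k // ∃ w : M, w ≠ 0 ∧ ∀ z : F.Z i, ρ (z : H) w = lam z • w}
  have hJ : ∀ j : J, ∃ N O : Subgroup H₁, N.Normal ∧ O.Normal ∧
      (∀ h ∈ N, ∀ n : ℕ, Odd n → h ^ n = 1 → h ∈ O) ∧
      (∀ g ∈ O, ∀ a : ℕ, g ^ 2 ^ a = 1 → ∀ p : F.P j.1, haveI := F.normalP j.1
        MulAut.conjNormal (g : H) p * p⁻¹ ∈ PlaneTwo.radP (F.central j.1) j.2.1) ∧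
      ∀ T : Subgroup H, IsPGroup 2 T → ∀ z ∈ derPart T (d - 1), ∀ h : z ∈ H₁,
        (⟨z, h⟩ : H₁) ∈ N := fun ⟨i, lam, w, hw0, hw⟩ =>
    haveI := F.normalP i
    haveI : Fact (i : ℕ).Prime := ⟨i.2.1⟩
    exists_pair ρ hd hD H₁ (F.P i) (F.Z i) (F.central i) i.2.2 (F.isPGroup i) (F.pow_mem i)
      (hH₁Z i) lam w hw0 hw
  choose N O hNn hOn hNO hO1 htN using hJ
  set N₂ := ⨅ j, N j with hN₂
  set O₂ := ⨅ j, O j with hO₂
  haveI : N₂.Normal := Subgroup.normal_iInf_normal hNn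
  haveI : O₂.Normal := Subgroup.normal_iInf_normal hOn
  have hO2 : ∀ g ∈ O₂, ∀ a : ℕ, g ^ 2 ^ a = 1 → g = 1 := by
    intro g hg a hga
    refine Subtype.ext (F.faithful (g : H) ⟨a, congrArg Subtype.val hga⟩
      (fun i z hz => hH₁Z i g g.2 z hz) fun i lam w hw0 hw => ?_)
    exact hO1 ⟨i, lam, w, hw0, hw⟩ g (Subgroup.mem_iInf.mp hg _) a hga
  have hO2le : O₂ ≤ pPrimeCore 2 H₁ := by
    refine PSolvable.le_pPrimeCore inferInstance (Nat.coprime_two_right.mpr ?_)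
    rw [← Nat.not_even_iff_odd, even_iff_two_dvd]
    intro hdvd
    obtain ⟨g, hg⟩ := exists_prime_orderOf_dvd_card' 2 hdvd
    have h1 : (g : H₁) = 1 := hO2 g g.2 1 (by
      have := congrArg Subtype.val (hg ▸ pow_orderOf_eq_one g)
      simpa using this)
    rw [show g = 1 from Subtype.ext h1, orderOf_one] at hg
    norm_num at hg
  have hN2le : N₂ ≤ pPrimePCore 2 H₁ := by
    rw [pPrimePCore, ← Subgroup.map_le_iff_le_comap]
    refine PSolvable.le_pCore
      (Subgroup.Normal.map inferInstance _ (QuotientGroup.mk'_surjective _)) ?_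
    rintro ⟨_, s, hs, rfl⟩
    obtain ⟨a, n, hn, han⟩ :=
      Nat.exists_eq_pow_mul_and_not_dvd (orderOf_pos s).ne' 2 (by norm_num)
    refine ⟨a, Subtype.ext ?_⟩
    change QuotientGroup.mk' _ s ^ 2 ^ a = 1
    rw [← map_pow, QuotientGroup.mk'_apply, QuotientGroup.eq_one_iff]
    refine hO2le (Subgroup.mem_iInf.mpr fun j => hNO j _ (pow_mem (Subgroup.mem_iInf.mp hs j) _) n
      (Nat.odd_iff.mpr (by omega)) ?_)
    rw [← pow_mul, ← han, pow_orderOf_eq_one]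
  haveI := OddOrder.BenderLocal.pPrimePCore_characteristic (K := H₁) 2
  haveI : ((pPrimePCore 2 H₁).map H₁.subtype).Normal :=
    ConjAct.normal_of_characteristic_of_normal
  have hup : (pPrimePCore 2 H₁).map H₁.subtype ≤ pPrimePCore 2 H := by
    rw [pPrimePCore, pPrimePCore, ← Subgroup.map_le_iff_le_comap]
    refine PSolvable.le_pCore (Subgroup.Normal.map (by assumption) _
      (QuotientGroup.mk'_surjective _)) ?_
    rintro ⟨_, _, ⟨s, hs, rfl⟩, rfl⟩
    obtain ⟨a, ha⟩ := PSolvable.isPGroup_pCore ⟨_, hs⟩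
    refine ⟨a, Subtype.ext ?_⟩
    change QuotientGroup.mk' _ (H₁.subtype s) ^ 2 ^ a = 1
    rw [← map_pow, ← map_pow, QuotientGroup.mk'_apply, QuotientGroup.eq_one_iff]
    exact PSolvable.pPrimeCore_map_le_of_normal H₁
      ⟨_, (QuotientGroup.eq_one_iff _).mp (congrArg Subtype.val ha), rfl⟩
  exact hup ⟨⟨_, hsH₁ hT hs⟩,
    hN2le (Subgroup.mem_iInf.mpr fun j => htN j T hT s hs (hsH₁ hT hs)), rfl⟩

end Cfsg.Agent.Lib.TwoLengthDer
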