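/-
Iterated commutators of length `d - 1` land in the bottom of every irreducible section of the normal
`2`-group.
-/
import Cfsg.Agent.Lib.TwoLengthDer.Step
import Cfsg.Agent.Lib.TwoLengthDer.Free
import Cfsg.Agent.Lib.TwoLengthExp.Product

set_option autoImplicit false
set_option linter.style.haveILetI false
set_option linter.unusedSectionVars false

namespace Cfsg.Agent.Lib.TwoLengthDer

open Cfsg.Agent.Lib Cfsg.Agent.Lib.FpfHeight Cfsg.Agent.Lib.TwoLengthExp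

universe u v

variable {H : Type u} [Group H]

/-- The iterated commutators of a set with the derived series of a subgroup. -/
def commSet (T : Subgroup H) (A : Set H) : ℕ → Set H
  | 0 => A
  | j + 1 => {w | ∃ x ∈ derPart T j, ∃ v ∈ commSet T A j, x * v * x⁻¹ * v⁻¹ = w}

theorem commSet_subset {H₀ T A : Subgroup H} (hT : T ≤ H₀) (hA : Inv H₀ A) :
    ∀ j, commSet T A j ⊆ A
  | 0 => subset_rfl
  | j + 1 => by
    rintro _ ⟨x, hx, v, hv, rfl⟩
    have hv' := commSet_subset hT hA j hv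
    exact mul_mem (hA x (hT (derPart_le T j hx)) v hv') (inv_mem hv')

theorem commSet_derPart {T : Subgroup H} {A : Set H} (hA : A ⊆ T) :
    ∀ j, commSet T A j ⊆ derPart T j
  | 0 => by rw [derPart_zero]; exact hA
  | j + 1 => by
    rintro _ ⟨x, hx, v, hv, rfl⟩
    exact commutator_mem_derPart hx (commSet_derPart hA j hv)

theorem commSet_mono {T T' : Subgroup H} (hT : T ≤ T') (A : Set H) :
    ∀ j, commSet T A j ⊆ commSet T' A j
  | 0 => subset_rfl
  | j + 1 => by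
    rintro _ ⟨x, hx, v, hv, rfl⟩
    exact ⟨x, derPart_mono hT j hx, v, commSet_mono hT A j hv, rfl⟩

/-- Changing the starting element modulo `Y`. -/
theorem commSet_congr {H₀ T Y B : Subgroup H} {A : Set H} (hT : T ≤ H₀) (hY : Inv H₀ Y)
    (hB : Inv H₀ B) (hB0 : B ≤ H₀) (h : ∀ a ∈ A, ∃ y ∈ Y, ∃ b ∈ B, y * b = a) :
    ∀ j, ∀ w ∈ commSet T A j, ∃ y ∈ Y, ∃ w' ∈ commSet T B j, y * w' = w
  | 0 => h
  | j + 1 => by
    rintro _ ⟨x, hx, v, hv, rfl⟩
    obtain ⟨y, hy, v', hv', rfl⟩ := commSet_congr hT hY hB hB0 h j v hv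
    have hx0 := hT (derPart_le T j hx)
    have hc : x * v' * x⁻¹ * v'⁻¹ ∈ H₀ :=
      mul_mem (mul_mem (mul_mem hx0 (hB0 (commSet_subset hT hB j hv'))) (inv_mem hx0))
        (inv_mem (hB0 (commSet_subset hT hB j hv')))
    refine ⟨(x * y * x⁻¹) * ((x * v' * x⁻¹ * v'⁻¹) * y⁻¹ * (x * v' * x⁻¹ * v'⁻¹)⁻¹),
      mul_mem (hY x hx0 y hy) (hY _ hc _ (inv_mem hy)), x * v' * x⁻¹ * v'⁻¹,
      ⟨x, hx, v', hv', rfl⟩, by group⟩

variable [Finite H] {k : Type v} [Field k] [IsAlgClosed k] [CharP k 2]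
variable {M : Type u} [AddCommGroup M] [Module k M] [FiniteDimensional k M]

/-- A normal `2`-subgroup of `H₀` containing the last members. -/
structure DerSetting (d : ℕ) (H₀ Q : Subgroup H) : Prop where
  two_le : 2 ≤ d
  le : Q ≤ H₀
  conj_mem : ∀ h ∈ H₀, ∀ x ∈ Q, h * x * h⁻¹ ∈ Q
  isPGroup : IsPGroup 2 Q
  top_mem : topDer d H₀ ⊆ Q

theorem inv_closure_topDer {d : ℕ} {H₀ : Subgroup H} :
    Inv H₀ (Subgroup.closure (topDer d H₀)) := by
  intro h hh v hv
  induction hv using Subgroup.closure_induction with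
  | mem s hs => exact Subgroup.subset_closure (topDer_conj hs hh)
  | one => simp
  | mul s t _ _ hs ht =>
    rw [show h * (s * t) * h⁻¹ = (h * s * h⁻¹) * (h * t * h⁻¹) by group]
    exact mul_mem hs ht
  | inv s _ hs =>
    rw [show h * s⁻¹ * h⁻¹ = (h * s * h⁻¹)⁻¹ by group]
    exact inv_mem hs

/-- At one weight. -/
theorem commutator_trivial (ρ : H →* Module.End k M) (hρ : Function.Injective ρ) {d : ℕ}
    (hD : DerHyp ρ d) {H₀ Q : Subgroup H} (hS : DerSetting d H₀ Q) {T : Subgroup H} (hT0 : T ≤ H₀)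
    (hT : IsPGroup 2 T) (P Z : Subgroup H) [P.Normal] [Z.Normal] (hc : PlaneTwo.Central P Z)
    {q : ℕ} [Fact q.Prime] (hq : q ≠ 2) (hP : IsPGroup q P) (hPexp : ∀ p ∈ P, p ^ q ∈ Z)
    (lam : Z →* k) (w₀ : M) (hw0 : w₀ ≠ 0) (hw : ∀ z : Z, ρ (z : H) w₀ = lam z • w₀)
    {x v : H} (hx : x ∈ derPart T (d - 2)) (hv : v ∈ derPart T (d - 2))
    (hvN : v ∈ Subgroup.closure (topDer d H₀)) :
    ∀ p : P, MulAut.conjNormal (H := P) (x * v * x⁻¹ * v⁻¹) p * p⁻¹ ∈ PlaneTwo.radP hc lam := by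
  classical
  have hd := hS.two_le
  have hloc := fun (T' : Subgroup H) (hT' : IsPGroup 2 T') =>
    local_dichotomy ρ hd hD T' hT' P Z hc hq hP hPexp lam w₀ hw0 hw
  have hcT : x * v * x⁻¹ * v⁻¹ ∈ derPart T (d - 1) := by
    rw [show d - 1 = d - 2 + 1 by omega]; exact commutator_mem_derPart hx hv
  obtain ⟨hst, hdich⟩ := hloc T hT
  suffices h : toImage hc lam ⟨x * v * x⁻¹ * v⁻¹, hst hcT⟩ = 1 by
    intro p
    have h3 := (toImage_eq_one hc lam (g := ⟨x * v * x⁻¹ * v⁻¹, hst hcT⟩)).mp h p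
    exact h3
  rcases hdich with h | ⟨hst2, ha, -⟩
  · exact h _ hcT
  have hcomm : toImage hc lam ⟨_, hst hcT⟩ =
      toImage hc lam ⟨x, hst2 hx⟩ * toImage hc lam ⟨v, hst2 hv⟩ *
        (toImage hc lam ⟨x, hst2 hx⟩)⁻¹ * (toImage hc lam ⟨v, hst2 hv⟩)⁻¹ := by
    rw [← map_inv, ← map_inv, ← map_mul, ← map_mul, ← map_mul]
    rfl
  rcases ha ⟨v, hst2 hv⟩ hv with h | ⟨hpl, zv, hzv, hzvv⟩
  · rw [hcomm, ← h ⟨x, hst2 hx⟩ hx, mul_inv_cancel_right, mul_inv_cancel]
  exfalso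
  -- the configuration in the image of the stabiliser inside `H₀`
  let Γ : Subgroup (RadImage hc lam) := (H₀.subgroupOf (stabWeight lam)).map (toImage hc lam)
  let F := radForm hc lam (Fact.out : q.Prime) hq hPexp
  let F₀ : Form Γ (RadQuot hc lam) (Additive kˣ) q :=
    { f := F.f, prime := F.prime, ne_two := F.ne_two, alt := F.alt, nondeg := F.nondeg
      inv := fun g u u' => F.inv (g : RadImage hc lam) u u'
      expU := F.expU }
  have hplane : ∀ {a : stabWeight lam} (ha : (a : H) ∈ H₀),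
      IsPlane q (RadQuot hc lam) (toImage hc lam a) →
      IsPlane q (RadQuot hc lam) (⟨toImage hc lam a, a, ha, rfl⟩ : Γ) := fun _ h =>
    ⟨h.quad, h.card_le, h.ne⟩
  have hpow : ∀ {a : stabWeight lam} (ha : (a : H) ∈ H₀) {T' : Subgroup H}, IsPGroup 2 T' →
      (a : H) ∈ T' → IsPGroup 2 (Subgroup.zpowers (⟨toImage hc lam a, a, ha, rfl⟩ : Γ)) := by
    intro a ha T' hT' haT
    obtain ⟨e, he⟩ := hT' ⟨a, haT⟩
    have he' : a ^ 2 ^ e = 1 := Subtype.ext (by
      simpa using congrArg Subtype.val he)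
    haveI : Fact (Nat.Prime 2) := ⟨Nat.prime_two⟩
    obtain ⟨i, -, hi⟩ := (Nat.dvd_prime_pow Nat.prime_two).mp
      (show orderOf (⟨toImage hc lam a, a, ha, rfl⟩ : Γ) ∣ 2 ^ e from
        orderOf_dvd_of_pow_eq_one (Subtype.ext (by
          rw [Subgroup.coe_pow, ← map_pow, he', map_one]; rfl)))
    exact IsPGroup.of_card (n := i) (by rw [Nat.card_zpowers, hi])
  have htopstab : ∀ s ∈ topDer d H₀, s ∈ stabWeight lam := fun s ⟨T', _, hT', hs⟩ =>
    (hloc T' hT').1 hs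
  let π₀ : H₀.subgroupOf (stabWeight lam) →* Γ :=
    ((toImage hc lam).comp (H₀.subgroupOf (stabWeight lam)).subtype).codRestrict Γ
      fun a => ⟨a, a.2, rfl⟩
  let C : Conf F₀ :=
    { Q := ((Q.subgroupOf (stabWeight lam)).subgroupOf (H₀.subgroupOf (stabWeight lam))).map π₀
      normal := by
        haveI : ((Q.subgroupOf (stabWeight lam)).subgroupOf
            (H₀.subgroupOf (stabWeight lam))).Normal :=
          ⟨fun a ha g => hS.conj_mem _ g.2 _ ha⟩
        exact Subgroup.Normal.map inferInstance π₀ (by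
          rintro ⟨_, a, ha, rfl⟩
          exact ⟨⟨a, ha⟩, rfl⟩)
      isPGroup := (((hS.isPGroup.comap_of_injective (stabWeight lam).subtype
        (stabWeight lam).subtype_injective)).comap_of_injective
          (H₀.subgroupOf (stabWeight lam)).subtype (Subgroup.subtype_injective _)).map π₀
      S := {s | ∃ (a : stabWeight lam), (a : H) ∈ topDer d H₀ ∧
        toImage hc lam a = (s : RadImage hc lam)}
      sub := by
        rintro s ⟨a, ha, has⟩
        have ha0 : (a : H) ∈ H₀ := topDer_le ha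
        exact ⟨⟨a, ha0⟩, hS.top_mem ha, Subtype.ext has⟩
      sq := by
        rintro s ⟨a, ⟨T', -, hT', ha⟩, has⟩
        refine Subtype.ext ?_
        rw [Subgroup.coe_mul, ← has, ← map_mul,
          show a * a = 1 from Subtype.ext (hD.sq hρ (by omega) hT' ha), map_one]
        rfl
      dich := by
        rintro s ⟨a, ⟨T', hT'0, hT', ha⟩, has⟩
        obtain ⟨-, h'⟩ := hloc T' hT'
        have hone : toImage hc lam a = 1 →
            ∀ u : RadQuot hc lam, s • u = u := fun h u => by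
          change (s : RadImage hc lam) • u = u
          rw [← has, h, one_smul]
        rcases h' with h' | ⟨-, -, h'⟩
        · exact Or.inl (hone (h' a ha))
        rcases h' a ha with h1 | ⟨b, hb, hbp, hab⟩
        · exact Or.inl (hone h1)
        have hb0 : (b : H) ∈ H₀ := hT'0 (derPart_le T' _ hb)
        refine Or.inr ⟨_, hplane hb0 hbp, hpow hb0 hT' (derPart_le T' _ hb), fun u => ?_⟩
        change (s : RadImage hc lam) • u = toImage hc lam b • toImage hc lam b • u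
        rw [← has, hab, mul_smul] }
  have hv0 : v ∈ H₀ := hT0 (derPart_le T _ hv)
  refine no_plane_in_closure C (hplane (a := ⟨v, hst2 hv⟩) hv0 hpl)
    (hpow (a := ⟨v, hst2 hv⟩) hv0 hT (derPart_le T _ hv)) ?_ ?_
  · have hle : Subgroup.closure (topDer d H₀) ≤
        (((Subgroup.closure C.S).comap π₀).map (H₀.subgroupOf (stabWeight lam)).subtype).map
          (stabWeight lam).subtype := (Subgroup.closure_le _).mpr fun s hs =>
      have hs0 : s ∈ H₀ := topDer_le hs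
      ⟨⟨s, htopstab s hs⟩, ⟨⟨⟨s, htopstab s hs⟩, hs0⟩,
        Subgroup.subset_closure ⟨⟨s, htopstab s hs⟩, hs, rfl⟩, rfl⟩, rfl⟩
    obtain ⟨_, ⟨y, hy, rfl⟩, hyv⟩ := hle hvN
    have : π₀ y = (⟨toImage hc lam ⟨v, hst2 hv⟩, ⟨v, hst2 hv⟩, hv0, rfl⟩ : Γ) :=
      Subtype.ext (congrArg (toImage hc lam) (Subtype.ext hyv))
    rw [← this]
    exact hy
  · exact ⟨zv, ⟨T, hT0, hT, hzv⟩, hzvv⟩

/-- **The key step.** -/
theorem commSet_mem [Group.IsSolvable H] (ρ : H →* Module.End k M) (hρ : Function.Injective ρ)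
    {d : ℕ} (hD : DerHyp ρ d) (F : Frame ρ) {H₀ Q : Subgroup H} (hS : DerSetting d H₀ Q)
    (X Y : Subgroup H) (hXQ : X ≤ Q) (hYX : Y ≤ X) (hX : Inv H₀ X) (hY : Inv H₀ Y)
    (hirr : ∀ W : Subgroup H, Y ≤ W → W ≤ X → Inv H₀ W → W = Y ∨ W = X)
    (T : Subgroup H) (hT0 : T ≤ H₀) (hT : IsPGroup 2 T) :
    commSet T X (d - 1) ⊆ Y := by
  intro w₁ hw₁
  by_contra hw1Y
  have hd := hS.two_le
  -- enlarge `T`
  set T' := T ⊔ Q with hT'def
  have hT'0 : T' ≤ H₀ := sup_le hT0 hS.le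
  have hT'2 : IsPGroup 2 T' := IsPGroup.to_sup_of_normal_right' hT hS.isPGroup fun t ht =>
    Subgroup.mem_normalizer_iff.mpr fun h => ⟨fun hh => hS.conj_mem t (hT0 ht) h hh, fun hh => by
      have := hS.conj_mem t⁻¹ (inv_mem (hT0 ht)) _ hh
      simpa [mul_assoc] using this⟩
  have hX0 : X ≤ H₀ := hXQ.trans hS.le
  set N := Subgroup.closure (topDer d H₀) with hN
  have hw1' := commSet_mono (le_sup_left : T ≤ T') _ (d - 1) hw₁
  have hmemN : ∀ {A : Set H}, A ⊆ T' → commSet T' A (d - 1) ⊆ N := fun hA a ha =>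
    Subgroup.subset_closure ⟨T', hT'0, hT'2, commSet_derPart hA _ ha⟩
  have hXT : (X : Set H) ⊆ T' := fun a ha => (le_sup_right : Q ≤ T') (hXQ ha)
  have hw1N : w₁ ∈ N := hmemN hXT hw1'
  have hw1X : w₁ ∈ X := commSet_subset hT'0 hX (d - 1) hw1'
  have hcov : ∀ a ∈ (X : Set H), ∃ y ∈ Y, ∃ b ∈ X ⊓ N, y * b = a := fun a ha => by
    obtain ⟨y, hy, b, hbX, hbN, hyb⟩ :=
      cover hYX hX0 hX hY hirr inv_closure_topDer hw1X hw1N hw1Y ha
    exact ⟨y, hy, b, ⟨hbX, hbN⟩, hyb⟩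
  have hBinv : Inv H₀ (X ⊓ N) := fun h hh b hb =>
    ⟨hX h hh b hb.1, inv_closure_topDer h hh b hb.2⟩
  obtain ⟨y, hy, w₂, hw₂, hyw⟩ :=
    commSet_congr hT'0 hY hBinv (inf_le_left.trans hX0) hcov (d - 1) w₁ hw1'
  refine hw1Y (hyw ▸ mul_mem hy ?_)
  suffices h : w₂ = 1 by rw [h]; exact one_mem _
  have hBT : ((X ⊓ N : Subgroup H) : Set H) ⊆ T' := fun a ha => hXT ha.1
  have hw2D : w₂ ∈ derPart T' (d - 1) := commSet_derPart hBT _ hw₂
  refine F.faithful w₂ ?_ (fun i z hz => topDer_central ρ hρ hd hD F hT'2 hw2D i z hz)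
    fun i lam w hw0 hw => ?_
  · obtain ⟨a, ha⟩ := hT'2 ⟨w₂, derPart_le T' _ hw2D⟩
    exact ⟨a, congrArg Subtype.val ha⟩
  rw [show d - 1 = d - 2 + 1 by omega] at hw₂
  obtain ⟨x, hx, v, hv, rfl⟩ := hw₂
  haveI := F.normalP i
  haveI := F.normalZ i
  haveI : Fact (i : ℕ).Prime := ⟨i.2.1⟩
  exact commutator_trivial ρ hρ hD hS hT'0 hT'2 (F.P i) (F.Z i) (F.central i) i.2.2 (F.isPGroup i)
    (F.pow_mem i) lam w hw0 hw hx (commSet_derPart hBT _ hv)
    ((commSet_subset hT'0 hBinv _ hv).2)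

end Cfsg.Agent.Lib.TwoLengthDer
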