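/-
Bryukhanova: the `2`-length of a `2`-soluble group is at most the derived length of its Sylow
`2`-subgroups: the induction on modules.
-/
import Cfsg.Agent.Lib.TwoLengthDer.Product
import Cfsg.Agent.Lib.TwoLengthDer.Chain
import Cfsg.Agent.Lib.TwoLengthExp.Sections
import Cfsg.Agent.Lib.Coprime.Commutator
import Cfsg.Agent.Lib.PGroups.Frattini

set_option autoImplicit false
set_option linter.style.haveILetI false
set_option linter.unusedSectionVars false

namespace Cfsg.Agent.Lib.TwoLengthDer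

open Cfsg Cfsg.Agent.Lib Cfsg.Agent.Lib.FpfHeight Cfsg.Agent.Lib.TwoLengthExp

universe u

abbrev K₂ : Type := AlgebraicClosure (ZMod 2)

/-- The statement proved by induction on the order. -/
def DerBound (H : Type u) [Group H] : Prop :=
  pCore 2 H = ⊥ → ∀ (M : Type u) [AddCommGroup M] [Module K₂ M] [FiniteDimensional K₂ M]
    (ρ : H →* Module.End K₂ M), Function.Injective ρ → ∀ d : ℕ, 1 ≤ d → DerHyp ρ d →
      PLengthLE 2 (d - 1) H

variable {H : Type u} [Group H] [Finite H]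

theorem bound_one (M : Type u) [AddCommGroup M] [Module K₂ M]
    (ρ : H →* Module.End K₂ M) (hρ : Function.Injective ρ) (hder : DerHyp ρ 1) :
    PLengthLE 2 0 H := by
  haveI : Fact (Nat.Prime 2) := ⟨Nat.prime_two⟩
  refine PSolvable.pLengthLE_zero_iff.mpr fun hd => ?_
  obtain ⟨y, hy⟩ := exists_prime_orderOf_dvd_card' 2 hd
  have hp : IsPGroup 2 (Subgroup.zpowers y) :=
    IsPGroup.of_card (n := 1) (by rw [Nat.card_zpowers, hy, pow_one])
  have h1 : ρ y = 1 := LinearMap.ext fun v =>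
    kills_top _ (m := 0) (hder _ hp).2
      (z := ⟨y, Subgroup.mem_zpowers y⟩) (by rw [derivedSeries_zero]; exact Subgroup.mem_top _)
      (v := v) Submodule.mem_top
  rw [hρ (h1.trans (map_one ρ).symm), orderOf_one] at hy
  norm_num at hy

set_option maxHeartbeats 1000000 in
/-- An irreducible section of the normal `2`-subgroup has an automizer of small `2`-length. -/
theorem section_bound [Group.IsSolvable H] {d : ℕ} {H₀ Q : Subgroup H} {M : Type u}
    [AddCommGroup M] [Module K₂ M] [FiniteDimensional K₂ M] (ρ : H →* Module.End K₂ M)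
    (hρ : Function.Injective ρ) (hder : DerHyp ρ d) (F : Frame ρ) (hS : DerSetting d H₀ Q)
    (ih : ∀ (K : Type u) [Group K] [Finite K] [Group.IsSolvable K],
      Nat.card K < Nat.card H → DerBound K)
    (Φ : Subgroup H₀) [Φ.Normal] (hsq : ∀ x ∈ Q.subgroupOf H₀, x ^ 2 ∈ Φ)
    (hcomm : ∀ x ∈ Q.subgroupOf H₀, ∀ y ∈ Q.subgroupOf H₀, x * y * x⁻¹ * y⁻¹ ∈ Φ)
    (X Y : Subgroup H₀) [X.Normal] [Y.Normal] (hsec : IrrSection Φ (Q.subgroupOf H₀) X Y) :
    PLengthLE 2 (d - 2) (H₀ ⧸ secCentralizer X Y) := by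
  classical
  haveI : Fact (Nat.Prime 2) := ⟨Nat.prime_two⟩
  haveI : CharP K₂ 2 := charP_of_injective_algebraMap (algebraMap (ZMod 2) K₂).injective 2
  set D := secCentralizer X Y with hD
  set Q₀ := Q.subgroupOf H₀ with hQ₀
  have hQD : Q₀ ≤ D := fun q hq x hx => hsec.bot_le (hcomm q hq x (hsec.le hx))
  -- the representation on `X / Y`
  haveI : (Y.subgroupOf X).Normal := inferInstance
  have hYinv : ∀ g : H₀, ∀ y ∈ Y.subgroupOf X, MulAut.conjNormal (H := X) g y ∈ Y.subgroupOf X :=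
    fun g y hy => by
      rw [Subgroup.mem_subgroupOf, MulAut.conjNormal_apply]
      exact (inferInstance : Y.Normal).conj_mem _ hy g
  letI : CommGroup (X ⧸ Y.subgroupOf X) :=
    { (inferInstance : Group (X ⧸ Y.subgroupOf X)) with
      mul_comm := fun a b => by
        obtain ⟨a, rfl⟩ := QuotientGroup.mk_surjective a
        obtain ⟨b, rfl⟩ := QuotientGroup.mk_surjective b
        rw [← QuotientGroup.mk_mul, ← QuotientGroup.mk_mul, QuotientGroup.eq,
          Subgroup.mem_subgroupOf]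
        refine hsec.bot_le ?_
        simpa [mul_assoc] using hcomm _ (inv_mem (hsec.le b.2)) _ (inv_mem (hsec.le a.2)) }
  set V := Additive (X ⧸ Y.subgroupOf X)
  let act : H₀ →* MulAut (X ⧸ Y.subgroupOf X) :=
    { toFun := fun g => Basic.quotAut (MulAut.conjNormal (H := X) g) _ (hYinv g)
      map_one' := MulEquiv.ext fun c => by
        obtain ⟨p, rfl⟩ := QuotientGroup.mk_surjective c
        simp
      map_mul' := fun g g' => MulEquiv.ext fun c => by
        obtain ⟨p, rfl⟩ := QuotientGroup.mk_surjective c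
        simp [MulAut.mul_apply] }
  let r : H₀ →* AddMonoid.End V := Basic.toEnd.comp act
  have hr : ∀ (g : H₀) (w : X), r g (Additive.ofMul (w : X ⧸ Y.subgroupOf X)) =
      Additive.ofMul ((MulAut.conjNormal g w : X) : X ⧸ Y.subgroupOf X) := fun g w => rfl
  have hsurj : ∀ v : V, ∃ w : X, Additive.ofMul (w : X ⧸ Y.subgroupOf X) = v := fun v => by
    obtain ⟨w, hw⟩ := QuotientGroup.mk_surjective (Additive.toMul v)
    exact ⟨w, by rw [hw]; rfl⟩
  have heq : ∀ (g : H₀) (w : X), r g (Additive.ofMul (w : X ⧸ Y.subgroupOf X)) =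
      Additive.ofMul (w : X ⧸ Y.subgroupOf X) ↔ g * w * g⁻¹ * (w : H₀)⁻¹ ∈ Y := fun g w => by
    rw [hr, Additive.ofMul.injective.eq_iff, ← mul_inv_eq_one, ← QuotientGroup.mk_inv,
      ← QuotientGroup.mk_mul, QuotientGroup.eq_one_iff, Subgroup.mem_subgroupOf,
      Subgroup.coe_mul, MulAut.conjNormal_apply, Subgroup.coe_inv]
  have hker : r.ker = D := by
    ext g
    rw [MonoidHom.mem_ker]
    constructor
    · intro hg x hx
      refine (heq g ⟨x, hx⟩).mp ?_
      rw [hg]; rfl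
    · intro hg
      refine AddMonoidHom.ext fun v => ?_
      obtain ⟨w, rfl⟩ := hsurj v
      exact (heq g w).mpr (hg w w.2)
  have hV2 : ∀ v : V, 2 • v = 0 := fun v => by
    obtain ⟨w, rfl⟩ := hsurj v
    change Additive.ofMul ((w : X ⧸ Y.subgroupOf X) ^ 2) = Additive.ofMul 1
    rw [← QuotientGroup.mk_pow, (QuotientGroup.eq_one_iff _).mpr]
    rw [Subgroup.mem_subgroupOf, Subgroup.coe_pow]
    exact hsec.bot_le (hsq _ (hsec.le w.2))
  obtain ⟨M', i1, i2, i3, L, hL⟩ := ScalarExt.exists_rep 2 V hV2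
  let ρ' : H₀ ⧸ D →* Module.End K₂ M' := L.toMonoidHom.comp (QuotientGroup.lift D r hker.ge)
  have hρ' : Function.Injective ρ' := by
    refine (injective_iff_map_eq_one ρ').mpr fun c hc => ?_
    obtain ⟨g, rfl⟩ := QuotientGroup.mk_surjective c
    exact (QuotientGroup.eq_one_iff g).mpr
      (hker.le (MonoidHom.mem_ker.mpr (hL (hc.trans (map_one L).symm))))
  haveI : Group.IsSolvable (H₀ ⧸ D) :=
    Group.isSolvable_of_surjective (f := QuotientGroup.mk' D) (QuotientGroup.mk'_surjective D)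
  -- smaller
  have hcard : Nat.card (H₀ ⧸ D) < Nat.card H := by
    refine lt_of_lt_of_le ?_ (Subgroup.card_le_card_group H₀)
    rw [Subgroup.card_eq_card_quotient_mul_card_subgroup D]
    refine lt_mul_of_one_lt_right Nat.card_pos ((Subgroup.one_lt_card_iff_ne_bot D).mpr fun h => ?_)
    refine (bot_le.trans_lt hsec.lt).ne' (eq_bot_iff.mpr fun x hx => ?_)
    exact h ▸ hQD (hsec.le hx)
  -- trivial core
  have hcore : pCore 2 (H₀ ⧸ D) = ⊥ := by
    set P' := pCore 2 (H₀ ⧸ D) with hP'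
    let r' : H₀ ⧸ D →* AddMonoid.End V := QuotientGroup.lift D r hker.ge
    letI : MulAction P' V := MulAction.compHom V (r'.comp P'.subtype)
    have hdvd : 2 ∣ Nat.card V := by
      have hlt : 1 < Nat.card V := by
        change 1 < (Y.subgroupOf X).index
        refine Subgroup.one_lt_index_of_ne_top fun h => hsec.lt.not_ge ?_
        exact Subgroup.subgroupOf_eq_top.mp h
      have hpg : IsPGroup 2 (X ⧸ Y.subgroupOf X) := fun c => ⟨1, by
        rw [pow_one]
        exact congrArg Additive.toMul (hV2 (Additive.ofMul c))⟩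
      obtain ⟨m, hm⟩ := IsPGroup.iff_card.mp hpg
      rw [show Nat.card V = 2 ^ m from hm] at hlt ⊢
      exact dvd_pow_self 2 fun h0 => by rw [h0] at hlt; norm_num at hlt
    have h0 : (0 : V) ∈ MulAction.fixedPoints P' V := fun t => map_zero (r' (t : H₀ ⧸ D))
    obtain ⟨v, hv, hv0⟩ :=
      (PSolvable.isPGroup_pCore (p := 2) (G := H₀ ⧸ D)).exists_fixed_point_of_prime_dvd_card_of_fixed_point
        V hdvd h0
    obtain ⟨x, rfl⟩ := hsurj v
    set T := P'.comap (QuotientGroup.mk' D) with hT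
    haveI : P'.Normal := PSolvable.pCore_normal'
    let W : Subgroup H₀ :=
      { carrier := {w | w ∈ X ∧ ∀ t ∈ T, t * w * t⁻¹ * w⁻¹ ∈ Y}
        one_mem' := ⟨one_mem _, fun t _ => by simp⟩
        mul_mem' := fun {a b} ha hb => ⟨mul_mem ha.1 hb.1, fun t ht => by
          rw [show t * (a * b) * t⁻¹ * (a * b)⁻¹ =
            (t * a * t⁻¹ * a⁻¹) * (a * (t * b * t⁻¹ * b⁻¹) * a⁻¹) by group]
          exact mul_mem (ha.2 t ht) ((inferInstance : Y.Normal).conj_mem _ (hb.2 t ht) a)⟩
        inv_mem' := fun {a} ha => ⟨inv_mem ha.1, fun t ht => by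
          rw [show t * a⁻¹ * t⁻¹ * a⁻¹⁻¹ = a⁻¹ * (t * a * t⁻¹ * a⁻¹)⁻¹ * a⁻¹⁻¹ by group]
          exact (inferInstance : Y.Normal).conj_mem _ (inv_mem (ha.2 t ht)) _⟩ }
    have hWn : W.Normal := ⟨fun w hw g => ⟨(inferInstance : X.Normal).conj_mem w hw.1 g, fun t ht => by
      have ht' : g⁻¹ * t * g⁻¹⁻¹ ∈ T := (inferInstance : T.Normal).conj_mem t ht g⁻¹
      rw [show t * (g * w * g⁻¹) * t⁻¹ * (g * w * g⁻¹)⁻¹ = g * ((g⁻¹ * t * g⁻¹⁻¹) * w *
        (g⁻¹ * t * g⁻¹⁻¹)⁻¹ * w⁻¹) * g⁻¹ by group]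
      exact (inferInstance : Y.Normal).conj_mem _ (hw.2 _ ht') g⟩⟩
    have hWX : W = X := by
      refine (hsec.irr W hWn (fun y hy => ⟨hsec.lt.le hy, fun t _ => ?_⟩) fun w hw => hw.1).resolve_left
        fun hWY => ?_
      · exact mul_mem ((inferInstance : Y.Normal).conj_mem y hy t) (inv_mem hy)
      · have hxW : (x : H₀) ∈ W := ⟨x.2, fun t ht => (heq t x).mp (hv ⟨_, ht⟩)⟩
        refine hv0 ?_
        rw [hWY] at hxW
        symm
        exact congrArg Additive.ofMul ((QuotientGroup.eq_one_iff x).mpr hxW)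
    have hTD : T ≤ D := fun t ht x hx => (hWX.ge hx).2 t ht
    rw [eq_bot_iff]
    intro c hc
    obtain ⟨g, rfl⟩ := QuotientGroup.mk_surjective c
    exact Subgroup.mem_bot.mpr ((QuotientGroup.eq_one_iff g).mpr (hTD hc))
  -- the condition one step below
  have hder' : DerHyp ρ' (d - 1) := by
    intro T' hT'
    obtain ⟨T, hT, rfl⟩ := exists_twoGroup_lift (QuotientGroup.mk' D)
      (QuotientGroup.mk'_surjective D) hT'
    set TH := T.map H₀.subtype with hTH
    have hTH0 : TH ≤ H₀ := Subgroup.map_subtype_le T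
    have hTH2 : IsPGroup 2 TH := hT.map _
    refine ⟨?_, ?_⟩
    · refine (Subgroup.map_eq_bot_iff_of_injective _ (Subgroup.subtype_injective _)).mp ?_
      change derPart (T.map (QuotientGroup.mk' D)) (d - 1) = ⊥
      rw [derPart_map, Subgroup.map_eq_bot_iff, QuotientGroup.ker_mk']
      intro t ht
      refine hQD (hS.top_mem ⟨TH, hTH0, hTH2, ?_⟩)
      rw [hTH, derPart_map]
      exact ⟨t, ht, rfl⟩
    refine iterComm_eq_bot_of_chain _ fun p hp => ?_
    obtain ⟨b, hb, rfl⟩ := chain_map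
      ((QuotientGroup.lift D r hker.ge).comp (T.map (QuotientGroup.mk' D)).subtype) L (d - 1) hp
    suffices hb0 : b = 0 by rw [hb0, map_zero]
    set XH := X.map H₀.subtype with hXH
    set YH := Y.map H₀.subtype with hYH
    have hinv : ∀ (Z : Subgroup H₀), Z.Normal → Inv H₀ (Z.map H₀.subtype) := by
      rintro Z hZ h hh _ ⟨z, hz, rfl⟩
      exact ⟨_, hZ.conj_mem z hz ⟨h, hh⟩, rfl⟩
    have hchain : ∀ j, ∀ p ∈ chain
        ((QuotientGroup.lift D r hker.ge).comp (T.map (QuotientGroup.mk' D)).subtype) j,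
        ∀ w : X, ∃ c : X, ((c : H₀) : H) ∈ commSet TH XH j ∧
          p (Additive.ofMul (w : X ⧸ Y.subgroupOf X)) =
            Additive.ofMul (c : X ⧸ Y.subgroupOf X) := by
      intro j
      induction j with
      | zero =>
        rintro p (rfl : p = 1) w
        exact ⟨w, ⟨w, w.2, rfl⟩, rfl⟩
      | succ j ihj =>
        rintro _ ⟨x, hx, p, hp, rfl⟩ w
        obtain ⟨c, hc, hpc⟩ := ihj p hp w
        have hx' : (x : H₀ ⧸ D) ∈ derPart (T.map (QuotientGroup.mk' D)) j := ⟨x, hx, rfl⟩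
        rw [derPart_map] at hx'
        obtain ⟨t, ht, htx⟩ := hx'
        refine ⟨MulAut.conjNormal t c * c⁻¹, ⟨(t : H), ?_, ((c : H₀) : H), hc, ?_⟩, ?_⟩
        · rw [hTH, derPart_map]; exact ⟨t, ht, rfl⟩
        · simp
        · have hrx : ((QuotientGroup.lift D r hker.ge).comp
              (T.map (QuotientGroup.mk' D)).subtype) x = r t := by
            rw [MonoidHom.comp_apply, Subgroup.coe_subtype, ← htx]
            rfl
          rw [hrx]
          change r t (p _) - p _ = _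
          rw [hpc, hr, QuotientGroup.mk_mul, QuotientGroup.mk_inv, ← div_eq_mul_inv]
          rfl
    refine AddMonoidHom.ext fun v => ?_
    obtain ⟨w, rfl⟩ := hsurj v
    obtain ⟨c, hc, hbc⟩ := hchain (d - 1) b hb w
    refine hbc.trans (congrArg Additive.ofMul ((QuotientGroup.eq_one_iff c).mpr ?_))
    have hXQ : XH ≤ Q := by
      rintro _ ⟨z, hz, rfl⟩
      exact hsec.le hz
    have hirr : ∀ W : Subgroup H, YH ≤ W → W ≤ XH → Inv H₀ W → W = YH ∨ W = XH := by
      intro W hYW hWX hW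
      have hW0 : W ≤ H₀ := hWX.trans (Subgroup.map_subtype_le X)
      have hWn : (W.subgroupOf H₀).Normal := ⟨fun z hz g => hW g g.2 _ hz⟩
      have hmap : (W.subgroupOf H₀).map H₀.subtype = W := by
        rw [Subgroup.subgroupOf_map_subtype, inf_eq_left.mpr hW0]
      refine (hsec.irr _ hWn (fun z hz => hYW ⟨z, hz, rfl⟩) fun z hz => ?_).imp
        (fun h => by rw [hYH, ← h, hmap]) fun h => by rw [hXH, ← h, hmap]
      obtain ⟨z', hz', hzz⟩ := hWX hz
      rwa [← Subtype.ext hzz]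
    obtain ⟨z, hz, hzz⟩ := commSet_mem ρ hρ hder F hS XH YH hXQ (Subgroup.map_mono hsec.lt.le)
      (hinv X inferInstance) (hinv Y inferInstance) hirr TH hTH0 hTH2 hc
    rw [Subgroup.mem_subgroupOf]
    rwa [← Subtype.ext hzz]
  have hd := hS.two_le
  have h := ih (H₀ ⧸ D) hcard hcore M' ρ' hρ' (d - 1) (by omega) hder'
  rwa [show d - 1 - 1 = d - 2 by omega] at h

/-- The inductive step. -/
theorem bound (n : ℕ) : ∀ (H : Type u) [Group H] [Finite H] [Group.IsSolvable H],
    Nat.card H = n → DerBound H := by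
  induction n using Nat.strong_induction_on with
  | _ n ihn =>
  intro H _ _ _ hn hO M _ _ _ ρ hρ d hd1 hder
  classical
  haveI : Fact (Nat.Prime 2) := ⟨Nat.prime_two⟩
  haveI : CharP K₂ 2 := charP_of_injective_algebraMap (algebraMap (ZMod 2) K₂).injective 2
  rcases Nat.lt_or_ge d 2 with hd2 | hd2
  · obtain rfl : d = 1 := by omega
    exact bound_one M ρ hρ hder
  obtain ⟨F⟩ := exists_frame hO ρ hρ
  set K := pPrimePCore 2 H with hK
  set S : Sylow 2 K := default
  set Q := (S : Subgroup K).map K.subtype with hQ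
  set H₀ := Subgroup.normalizer (Q : Set H) with hH₀
  have hQK : Q ≤ K := Subgroup.map_subtype_le _
  have hQp : IsPGroup 2 Q := S.isPGroup'.map _
  have hS : DerSetting d H₀ Q :=
    { two_le := hd2
      le := Subgroup.le_normalizer
      conj_mem := fun h hh x hx => (Subgroup.mem_normalizer_iff.mp hh x).mp hx
      isPGroup := hQp
      top_mem := by
        rintro s ⟨T, hT0, hT, hsT⟩
        have hsK : s ∈ K := topDer_mem_pPrimePCore ρ hρ hd2 hder F hT hsT
        have hs0 : s ∈ H₀ := hT0 (derPart_le T _ hsT)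
        have hsp : IsPGroup 2 (Subgroup.zpowers s) :=
          hT.to_le (Subgroup.zpowers_le.mpr (derPart_le T _ hsT))
        have hsup := IsPGroup.to_sup_of_normal_left' hQp hsp (Subgroup.zpowers_le.mpr hs0)
        have hle : (S : Subgroup K) = (Q ⊔ Subgroup.zpowers s).subgroupOf K :=
          (S.is_maximal' (hsup.comap_of_injective K.subtype K.subtype_injective)
            fun z hz => Subgroup.mem_sup_left (⟨z, hz, rfl⟩ : (z : H) ∈ Q)).symm
        refine ⟨⟨s, hsK⟩, ?_, rfl⟩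
        rw [hle]
        exact Subgroup.mem_sup_right (Subgroup.mem_zpowers s) }
  haveI : Group.IsSolvable H₀ := inferInstance
  -- the Frattini subgroup of `Q`
  set Q₀ := Q.subgroupOf H₀ with hQ₀
  haveI : Q₀.Normal := ⟨fun x hx g => hS.conj_mem g g.2 _ hx⟩
  set Φ := (frattini Q₀).map Q₀.subtype with hΦ
  haveI : Φ.Normal := ConjAct.normal_of_characteristic_of_normal
  have hQ₀p : IsPGroup 2 Q₀ := hQp.comap_of_injective H₀.subtype H₀.subtype_injective
  have hel := Cfsg.Agent.Lib.PGroups.frattiniQuotient_elemAb hQ₀p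
  have hsq : ∀ x ∈ Q₀, x ^ 2 ∈ Φ := fun x hx => by
    refine ⟨⟨x, hx⟩ ^ 2, ?_, rfl⟩
    rw [SetLike.mem_coe, ← QuotientGroup.eq_one_iff, QuotientGroup.mk_pow]
    exact hel.2 _ (Subgroup.mem_top _)
  have hcomm : ∀ x ∈ Q₀, ∀ y ∈ Q₀, x * y * x⁻¹ * y⁻¹ ∈ Φ := fun x hx y hy => by
    refine ⟨⟨x, hx⟩ * ⟨y, hy⟩ * (⟨x, hx⟩ : Q₀)⁻¹ * (⟨y, hy⟩ : Q₀)⁻¹, ?_, rfl⟩
    rw [SetLike.mem_coe, ← QuotientGroup.eq_one_iff, QuotientGroup.mk_mul, QuotientGroup.mk_mul,
      QuotientGroup.mk_mul, QuotientGroup.mk_inv, QuotientGroup.mk_inv, mul_inv_eq_one,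
      mul_inv_eq_iff_eq_mul]
    exact congrArg Subtype.val (hel.1.is_comm.comm ⟨_, Subgroup.mem_top _⟩ ⟨_, Subgroup.mem_top _⟩)
  have hΦQ : Φ ≤ Q₀ := Subgroup.map_subtype_le _
  rw [show d - 1 = (d - 2) + 1 by omega]
  refine PSolvable.pLengthLE_succ_of_quotient (N := K) PSolvable.upperPSeries_two.ge ?_
  rcases dichotomy Φ Q₀ hsq (d - 2) Q₀ hΦQ le_rfl with ⟨X, Y, hXn, hYn, hsec, hbad⟩ |
    ⟨C, hCn, hC, hCQ⟩
  · exact absurd (section_bound ρ hρ hder F hS (fun K' _ _ _ hK' => ihn _ (hn ▸ hK') K' rfl)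
      Φ hsq hcomm X Y hsec) hbad
  haveI := hCn
  set f : H₀ →* H ⧸ K := (QuotientGroup.mk' K).comp H₀.subtype with hf
  have hfs : Function.Surjective f := by
    intro c
    obtain ⟨g, rfl⟩ := QuotientGroup.mk_surjective c
    have hg : g ∈ H₀ ⊔ K := by
      rw [hH₀, hQ, Sylow.normalizer_sup_eq_top S]
      exact Subgroup.mem_top g
    obtain ⟨h, hh, z, hz, rfl⟩ := Subgroup.mem_sup_of_normal_right.mp hg
    refine ⟨⟨h, hh⟩, ?_⟩
    change (h : H ⧸ K) = ((h * z : H) : H ⧸ K)
    rw [QuotientGroup.eq, inv_mul_cancel_left]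
    exact hz
  have hodd : ∀ c ∈ C, Odd (orderOf c) → (c : H) ∈ K := by
    intro c hc hodd
    set O := pPrimeCore 2 H with hO2
    have hcent : Subgroup.zpowers c ≤ Subgroup.centralizer (Q₀ : Set H₀) := by
      refine Coprime.le_centralizer_of_frattini ?_ ?_ fun a ha x hx => ?_
      · rw [Subgroup.normalizer_eq_top_iff.mpr inferInstance]; exact le_top
      · rw [Nat.card_zpowers]
        obtain ⟨m, hm⟩ := IsPGroup.iff_card.mp (hQ₀p.to_subgroup (frattini Q₀))
        rw [hm]
        exact Nat.Coprime.pow_right _ (Nat.coprime_two_right.mpr hodd)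
      · obtain ⟨i, rfl⟩ := Subgroup.mem_zpowers_iff.mp ha
        exact hCQ _ (Subgroup.zpow_mem _ hc i) (hodd.of_dvd_nat
          (orderOf_dvd_of_pow_eq_one (by rw [← zpow_natCast, ← zpow_mul, mul_comm, zpow_mul,
            zpow_natCast, pow_orderOf_eq_one, one_zpow]))) x hx
    set π := QuotientGroup.mk' O
    have himg : π (c : H) ∈ pCore 2 (H ⧸ O) := by
      haveI : Group.IsSolvable (H ⧸ O) :=
        Group.isSolvable_of_surjective (f := π) (QuotientGroup.mk'_surjective O)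
      refine PSolvable.centralizer_pCore_le PSolvable.isPSolvable_of_isSolvable
        (PSolvable.pPrimeCore_quotient_eq_bot O rfl) ?_
      rw [Subgroup.mem_centralizer_iff]
      intro q hq
      rw [SetLike.mem_coe, ← PSolvable.map_sylow_pPrimePCore S] at hq
      obtain ⟨x, hx, rfl⟩ := hq
      have hxQ : x ∈ Q := hx
      rw [← map_mul, ← map_mul]
      congr 1
      exact congrArg Subtype.val (Subgroup.mem_centralizer_iff.mp (hcent (Subgroup.mem_zpowers c))
        ⟨x, hS.le hxQ⟩ hxQ)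
    exact himg
  have hCf : C ≤ f.ker := by
    haveI : (C.map f).Normal := Subgroup.Normal.map inferInstance f hfs
    have hp : IsPGroup 2 (C.map f) := by
      rintro ⟨_, c, hc, rfl⟩
      obtain ⟨a, m, hm, ham⟩ :=
        Nat.exists_eq_pow_mul_and_not_dvd (orderOf_pos c).ne' 2 (by norm_num)
      refine ⟨a, Subtype.ext ?_⟩
      change f c ^ 2 ^ a = 1
      rw [← map_pow]
      refine (QuotientGroup.eq_one_iff _).mpr (hodd _ (pow_mem hc _) ?_)
      exact (Nat.odd_iff.mpr (by omega) : Odd m).of_dvd_nat (orderOf_dvd_of_pow_eq_one (by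
        rw [← pow_mul, ← ham, pow_orderOf_eq_one]))
    have h := PSolvable.le_pCore (p := 2) inferInstance hp
    rw [show pCore 2 (H ⧸ K) = ⊥ by
      have h0 := PSolvable.pCore_quotient_upperPSeries (p := 2) (G := H) 0
      have h1 := Cores.map_pCore_equiv (p := 2)
        (QuotientGroup.quotientMulEquivOfEq (PSolvable.upperPSeries_two (p := 2) (G := H)))
      rw [h0, Subgroup.map_bot] at h1
      exact h1.symm, le_bot_iff, Subgroup.map_eq_bot_iff] at h
    exact h
  exact PSolvable.pLengthLE_of_surjective (QuotientGroup.lift C f hCf)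
    (fun c => by obtain ⟨g, rfl⟩ := hfs c; exact ⟨g, rfl⟩) hC

end Cfsg.Agent.Lib.TwoLengthDer
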